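import Groth.Agent.ThetaS.K881.Fwd
import Groth.Agent.ThetaS.K943.CohRows

/-!
# Θ-completeness of an open substack implies the criterion
-/

set_option autoImplicit false
set_option backward.isDefEq.respectTransparency false
set_option backward.isDefEq.respectTransparency.types false
set_option linter.style.haveILetI false

universe u

open CategoryTheory CategoryTheory.Limits MonoidalCategory CartesianMonoidalCategory MonObj GrpObj AlgebraicGeometry Opposite
open scoped Polynomial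

namespace K881.FwdMain

open K943 ThetaS K951.Pts K943.QuotAtlas K943.QuotCover K881.Rees K881.ReesObj K881.TransFun K881.ThetaTr K881.Filt
  K881.ThetaCrit K881.Topo K943.Points K942.Coord K899.OpenCrit K881.Fwd

attribute [local instance] K951.Pts.algΓ

theorem one_X {R : Type u} [CommRing R] : (one (R := R)).left.appTop (lineFn Polynomial.X) = 1 := by
  have h1 : fn (B := R[X]) (one (R := R)) Polynomial.X = 1 := by
    rw [Points.one, fn_ofFn, linePt, Polynomial.aeval_X]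
  exact h1

theorem forward {S C : Scheme.{u}} {f : C ⟶ S} [LocallyOfFiniteType f]
    (hst : Stk.IsStack (QuotSh.J Kf.{u} S) (ModSt.Coh f)) {Q : (ModSt.Coh f).obj → Prop} (hQ : HasOpenLocus Q)
    (R : Type u) [CommRing R] [IsDomain R] [IsDiscreteValuationRing R] (h : Spec (CommRingCat.of R) ⟶ S)
    {ϖ : R} (hϖ : Irreducible ϖ)
    (H : ∀ Φ : Theta Kf.{u} R h ⥤ᵇ ModSt.Coh f, (∀ a, Q (Φ.obj ((thetaIncl Kf.{u} R ϖ h).obj a))) → ∀ b, Q (Φ.obj b))
    (K : Type u) [Field K] [Algebra R K] [IsFractionRing R K]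
    (CR : Scheme.{u}) (p : CR ⟶ C) (q : CR ⟶ Spec (CommRingCat.of R)) (hpb : IsPullback p q f h)
    (E : CR.Modules) (hE : ModSt.IsCohObj (⟨Over.mk h, CR, p, q, hpb, E⟩ : ModSt.Obj f))
    (F : ℤ →o Subobject E) (hFq : ∀ i, Coh.IsQCoh (Subobject.underlying.obj (F i)))
    (a b : ℤ) (ha : ∀ i, i ≤ a → F i = ⊥) (hb : ∀ i, b ≤ i → F i = ⊤)
    (hfl : ∀ i, FlatMod.IsFlatOver q (gr F i))
    (CK : Scheme.{u}) (iK : CK ⟶ CR) (qK : CK ⟶ Spec (CommRingCat.of K))
    (hK : IsPullback iK qK q (Spec.map (CommRingCat.ofHom (algebraMap R K))))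
    (Cκ : Scheme.{u}) (iκ : Cκ ⟶ CR) (qκ : Cκ ⟶ Spec (CommRingCat.of (IsLocalRing.ResidueField R)))
    (hκ : IsPullback iκ qκ q (Spec.map (CommRingCat.ofHom (IsLocalRing.residue R))))
    (hQE : Q ⟨⟨Over.mk h, CR, p, q, hpb, E⟩, hE⟩)
    (hQK : ∀ hK' : ModSt.IsCohObj (⟨Over.mk (Spec.map (CommRingCat.ofHom (algebraMap R K)) ≫ h),
      CK, iK ≫ p, qK, (hK.flip.paste_vert hpb.flip).flip,
      (Scheme.Modules.pullback iK).obj (∐ fun i : ℤ => gr F i)⟩ : ModSt.Obj f), Q ⟨_, hK'⟩)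
    (hκ' : ModSt.IsCohObj (⟨Over.mk (Spec.map (CommRingCat.ofHom (IsLocalRing.residue R)) ≫ h),
      Cκ, iκ ≫ p, qκ, (hκ.flip.paste_vert hpb.flip).flip,
      (Scheme.Modules.pullback iκ).obj (∐ fun i : ℤ => gr F i)⟩ : ModSt.Obj f)) : Q ⟨_, hκ'⟩ := by
  haveI : LocallyOfFiniteType q := MorphismProperty.of_isPullback hpb inferInstance
  haveI : IsLocallyNoetherian CR := LocallyOfFiniteType.isLocallyNoetherian q
  have hm : ∀ n, Mono ((seq F a).ι n) := fun n => inferInstance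
  have h0 : FlatMod.IsFlatOver q ((seq F a).N 0) := by
    have e1 : F (a + ((0 : ℕ) : ℤ)) = ⊥ := ha _ (by push_cast; omega)
    have z1 : IsZero ((seq F a).N 0) := isZero_of_bot F e1
    have z2 := isZero_gr F (ha a le_rfl)
    exact Groth.Agent.Models2.FlatIso.isFlatOver_of_iso _ (z2.iso z1) (hfl a)
  have hf : ∀ n, FlatMod.IsFlatOver q (cokernel ((seq F a).ι n)) := cokernel_ι_prop F a _ hfl
  have hfp : ∀ n, CohB1.IsFP ((seq F a).N n) := fun n => isFP_of_mono (arr F a n) (hFq _) hE.2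
  have htop : ∀ n : ℕ, (b - a).toNat ≤ n → F (a + (n : ℤ)) = ⊤ := fun n hn => hb _ (by omega)
  have hi : ∀ n, (b - a).toNat ≤ n → IsIso ((seq F a).ι n) := fun n hn => isIso_ι F a (htop n hn)
  have hL := isCohObj_reesData hpb (seq F a) hm h0 hf hfp (b - a).toNat hi
  obtain ⟨U, hU1, hU2, hU3⟩ := exists_U hst hQ (reesData hpb (seq F a)) hL ϖ H
  -- the module itself
  have g1 : (Line R).left.basicOpen (lineFn Polynomial.X) ≤ U := by
    refine hU3 ?_
    obtain ⟨m, hm1⟩ := exists_to_rees hpb (seq F a) (IsPullback.of_horiz_isIso ⟨by simp⟩ :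
      IsPullback (𝟙 CR) q q (𝟙 (Spec (CommRingCat.of R)))) (Category.id_comp h) (Category.id_comp p) hpb
      (one (R := R)).left (Over.w (one (R := R))) (isRees_one F a (htop _ le_rfl))
      ((Scheme.Modules.pushforwardId CR).inv.app E) (ModSt.isCart_id E)
      (by rw [map_one]; exact ((congrArg _ one_X).trans (map_one q.appTop.hom)).symm)
    have h1 := (hU2 ⟨⟨Over.mk h, CR, p, q, hpb, E⟩, hE⟩ m).1 hQE
    rw [hm1] at h1
    exact h1
  have g2 : (Spec.map (CommRingCat.ofHom (algebraMap R K)) ≫ pt0 R) ⁻¹ᵁ U = ⊤ := by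
    obtain ⟨m, hm1⟩ := exists_to_rees hpb (seq F a) hK rfl rfl (hK.flip.paste_vert hpb.flip).flip
      (Spec.map (CommRingCat.ofHom (algebraMap R K)) ≫ pt0 R)
      (by rw [Category.assoc, pt0_hom, Category.comp_id]) (isRees_zero F a ha)
      ((Scheme.Modules.pullbackPushforwardAdjunction iK).unit.app _) (K927.ModSt.isCart_unit _ _)
      (by rw [Scheme.Hom.comp_appTop, CommRingCat.comp_apply, pt0_X, map_zero, map_zero, map_zero])
    have hK' := K927.ModSt.isCohObj_of_hom m hL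
    have h1 := (hU2 ⟨_, hK'⟩ m).1 (hQK hK')
    rw [hm1] at h1
    exact h1
  have g3 : U = ⊤ := hU1 (uline_le hϖ g1 g2)
  obtain ⟨m, hm1⟩ := exists_to_rees hpb (seq F a) hκ rfl rfl (hκ.flip.paste_vert hpb.flip).flip
    (Spec.map (CommRingCat.ofHom (IsLocalRing.residue R)) ≫ pt0 R)
    (by rw [Category.assoc, pt0_hom, Category.comp_id]) (isRees_zero F a ha)
    ((Scheme.Modules.pullbackPushforwardAdjunction iκ).unit.app _) (K927.ModSt.isCart_unit _ _)
    (by rw [Scheme.Hom.comp_appTop, CommRingCat.comp_apply, pt0_X, map_zero, map_zero, map_zero])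
  refine (hU2 ⟨_, hκ'⟩ m).2 ?_
  rw [g3]; rfl

end K881.FwdMain
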