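import Groth.Agent.ThetaS.K881.SubLift
import Groth.Agent.ThetaS.K943.Points
import Groth.Agent.ThetaS.K943.QuotCover

/-!
# Functors out of `Θ_R` landing in an open substack
-/

set_option backward.isDefEq.respectTransparency false
set_option backward.isDefEq.respectTransparency.types false
set_option autoImplicit false
set_option linter.style.haveILetI false

universe v w u

open CategoryTheory CategoryTheory.Limits MonoidalCategory CartesianMonoidalCategory MonObj GrpObj AlgebraicGeometry Opposite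
open FibCat ThetaS K943.QuotAtlas K943.QuotCover K943.QuotOpen K942.Coord K899.OpenCrit
open scoped Polynomial

namespace K881.ThetaCrit

section Surj

theorem comp_apply' {X Y Z : Scheme.{u}} (f : X ⟶ Y) (g : Y ⟶ Z) (x : X) : (f ≫ g) x = g (f x) := rfl

variable {S : Scheme.{u}} {G X : Over S} [GrpObj G] {aX : AlgGrp.Action G X}

/-- The torsor is surjective. -/
theorem surjective_π (b : AlgSt.QuotObj Scheme.fppfPrecoverage G aX) (t : b.base.left) :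
    ∃ p : b.P.left, b.π.left p = t := by
  obtain ⟨R, hR, hRs⟩ := b.loc
  have h1 : Sieve.generate R ∈ Scheme.fppfTopology b.base.left := Precoverage.generate_mem_toGrothendieck hR
  have h2 := fppfTopology_le b.base.left h1
  rw [Scheme.mem_jointlySurjectiveTopology_iff_jointlySurjectivePretopology] at h2
  obtain ⟨Y, g, hg, y, hy⟩ := h2 t
  obtain @⟨Y, f, hf⟩ := hg
  obtain ⟨Z, a, c, hc, rfl⟩ := hf
  obtain ⟨s, hs⟩ := hRs c hc
  change s ≫ b.π.left = c at hs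
  have hy' : (a ≫ c) y = t := hy
  refine ⟨(a ≫ s) y, ?_⟩
  rw [← hy', ← hs]
  rfl

end Surj

theorem range_subset_iff {T T' : Scheme.{u}} (g : T ⟶ T') (U : T'.Opens) : Set.range g ⊆ U ↔ g ⁻¹ᵁ U = ⊤ := by
  constructor
  · intro h
    rw [eq_top_iff]
    intro z _
    exact h ⟨z, rfl⟩
  · rintro h _ ⟨z, rfl⟩
    have : z ∈ g ⁻¹ᵁ U := by rw [h]; trivial
    exact this

variable {R : Type u} [CommRing R] {S : Scheme.{u}} (h : Spec (CommRingCat.of R) ⟶ S)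
  {𝒳 : BasedCategory.{v, w} (Over S)} {Q : 𝒳.obj → Prop}

/-- The precoverage. -/
abbrev Kf : Precoverage Scheme.{u} := Scheme.fppfPrecoverage

/-- The atlas object. -/
noncomputable abbrev U0 (R : Type u) [CommRing R] : AlgSt.QuotObj Kf.{u} (Gm R) (lineAction R) := u0 Kf.{u} (lineAction R)

section

universe v' w'

variable {ℬ : BasedCategory.{v', w'} (Over S)}

theorem p_map_eq (F : ℬ ⥤ᵇ 𝒳) {a b : ℬ.obj} (φ : a ⟶ b) :
    𝒳.p.map (F.map φ) = eqToHom (F.w_obj a) ≫ ℬ.p.map φ ≫ eqToHom (F.w_obj b).symm :=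
  Functor.congr_hom F.w φ

theorem preimage_eqToHom {T T' T'' T''' : Over S} (e : T = T') (g : T' ⟶ T'') (e' : T'' = T''') (U : T'''.left.Opens) :
    (eqToHom e ≫ g ≫ eqToHom e').left ⁻¹ᵁ U = ⊤ ↔ g.left ⁻¹ᵁ ((eqToHom e').left ⁻¹ᵁ U) = ⊤ := by
  subst e e'
  simp only [eqToHom_refl, Category.comp_id, Category.id_comp]
  rfl

/-- The open locus of the value of a functor. -/
theorem exists_locus (hQ : HasOpenLocus Q) (F : ℬ ⥤ᵇ 𝒳) (x : ℬ.obj) :
    ∃ U : (ℬ.p.obj x).left.Opens, (∀ (b : ℬ.obj) (φ : b ⟶ x), Q (F.obj b) ↔ (ℬ.p.map φ).left ⁻¹ᵁ U = ⊤) ∧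
      ∀ (y : 𝒳.obj) (m : y ⟶ F.obj x), Q y ↔ (𝒳.p.map m ≫ eqToHom (F.w_obj x)).left ⁻¹ᵁ U = ⊤ := by
  obtain ⟨U, hU⟩ := hQ (F.obj x)
  refine ⟨(eqToHom (F.w_obj x).symm).left ⁻¹ᵁ U, fun b φ => ?_, fun y m => ?_⟩
  · rw [hU _ (F.map φ), p_map_eq F φ, range_subset_iff]
    exact preimage_eqToHom _ _ _ _
  · rw [hU y m, range_subset_iff]
    have key : ∀ {T T' T'' : Over S} (g : T ⟶ T') (e : T' = T'') (U : T'.left.Opens),
        g.left ⁻¹ᵁ U = ⊤ ↔ (g ≫ eqToHom e).left ⁻¹ᵁ ((eqToHom e.symm).left ⁻¹ᵁ U : T''.left.Opens) = ⊤ := by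
      rintro T T' T'' g rfl U
      simp only [eqToHom_refl, Category.comp_id]
      rfl
    exact key _ _ _

end

/-- `Q` on the values in terms of the locus at the atlas object. -/
theorem exists_locus_theta (hQ : HasOpenLocus Q) (F : Theta Kf.{u} R h ⥤ᵇ 𝒳) :
    ∃ U : (Line R).left.Opens, (∀ b : (Theta Kf.{u} R h).obj, Q (F.obj b) ↔ b.φ.left ⁻¹ᵁ U = ⊤) ∧
      (∀ (y : 𝒳.obj) (m : y ⟶ F.obj (U0 R)), Q y ↔
        (show 𝒳.p.obj y ⟶ (Over.map h).obj (Line R) from 𝒳.p.map m ≫ eqToHom (F.w_obj (U0 R))).left ⁻¹ᵁ U = ⊤) ∧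
      ∀ (b : (Theta Kf.{u} R h).obj) (φ : b ⟶ U0 R), Q (F.obj b) ↔ (nbase φ).left ⁻¹ᵁ U = ⊤ := by
  obtain ⟨U, hU, hU'⟩ := exists_locus hQ F (U0 R)
  refine ⟨U, fun b => ?_, fun y m => hU' y m, fun b φ => hU b φ⟩
  obtain ⟨V, hV, -⟩ := exists_locus hQ F b
  have h1 : Q (F.obj (uObj Kf.{u} (lineAction R) b.P b.φ)) ↔ b.φ.left ⁻¹ᵁ U = ⊤ := hU _ (rb b)
  have h2 : Q (F.obj (uObj Kf.{u} (lineAction R) b.P b.φ)) ↔ b.π.left ⁻¹ᵁ V = ⊤ := hV _ (qb b)
  have h3 : Q (F.obj b) ↔ (𝟙 b.base.left : b.base.left ⟶ b.base.left) ⁻¹ᵁ V = ⊤ := by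
    rw [hV b (𝟙 b), CategoryTheory.Functor.map_id]
    rfl
  rw [← h1, h2, h3]
  constructor
  · intro h4
    change b.π.left ⁻¹ᵁ ((𝟙 b.base.left : b.base.left ⟶ b.base.left) ⁻¹ᵁ V) = ⊤
    rw [h4]; rfl
  · intro h4
    rw [eq_top_iff]
    intro t _
    obtain ⟨p, rfl⟩ := surjective_π b t
    have : p ∈ b.π.left ⁻¹ᵁ V := by rw [h4]; trivial
    exact this

theorem preimage_of_uObj {U : (Line R).left.Opens} {T : Over (Spec (CommRingCat.of R))} (t : T ⟶ Line R)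
    (h1 : (uObj Kf.{u} (lineAction R) T t).φ.left ⁻¹ᵁ U = ⊤) : t.left ⁻¹ᵁ U = ⊤ := by
  have h3 : lift (1 : T ⟶ Gm R) (𝟙 T) ≫ (Gm R ◁ t) ≫ (lineAction R).act = t := by
    rw [← Category.assoc, lift_whiskerLeft, Category.id_comp]
    exact sm_one (lineAction R) t
  have h4 : (lift (1 : T ⟶ Gm R) (𝟙 T)).left ⁻¹ᵁ ((uObj Kf.{u} (lineAction R) T t).φ.left ⁻¹ᵁ U) = ⊤ := by
    rw [h1]; rfl
  have h5 : (lift (1 : T ⟶ Gm R) (𝟙 T) ≫ (Gm R ◁ t) ≫ (lineAction R).act).left ⁻¹ᵁ U = ⊤ := h4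
  rw [h3] at h5
  exact h5

/-- The reformulation of the unique lifting property for the open substack. -/
theorem forall_iff (F : Theta Kf.{u} R h ⥤ᵇ 𝒳) (ϖ : R) {U : (Line R).left.Opens}
    (hU : ∀ b : (Theta Kf.{u} R h).obj, Q (F.obj b) ↔ b.φ.left ⁻¹ᵁ U = ⊤) :
    ((∀ a, Q (F.obj ((thetaIncl Kf.{u} R ϖ h).obj a))) ↔ Uline ϖ ≤ U) ∧ ((∀ b, Q (F.obj b)) ↔ U = ⊤) := by
  constructor
  · constructor
    · intro h1
      have h2 : InU Kf.{u} (lineAction R) (Uline ϖ) (uObj Kf.{u} (lineAction R) _ (openMap (𝟙 (Line R)) (Uline ϖ) ≫ 𝟙 _)) :=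
        inU_YU (stable_line ϖ) (𝟙 (Line R))
      rw [← missesOrigin_eq] at h2
      have h3 := h1 ⟨_, h2⟩
      have h4 := preimage_of_uObj _ ((hU _).1 h3)
      intro z hz
      have h5 : (⟨z, hz⟩ : ((𝟙 (Line R) : Line R ⟶ Line R).left ⁻¹ᵁ Uline ϖ : (Line R).left.Opens)) ∈
        (openMap (𝟙 (Line R)) (Uline ϖ) ≫ 𝟙 (Line R)).left ⁻¹ᵁ U := by rw [h4]; trivial
      exact h5
    · intro h1 a
      have h2 : InU Kf.{u} (lineAction R) (Uline ϖ) a.obj := by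
        rw [← missesOrigin_eq]; exact a.property
      refine (hU _).2 ?_
      rw [eq_top_iff]
      intro z _
      apply h1
      have h3 : z ∈ a.obj.φ.left ⁻¹ᵁ (Uline ϖ) := by
        rw [show a.obj.φ.left ⁻¹ᵁ (Uline ϖ) = ⊤ from h2]; trivial
      exact h3
  · constructor
    · intro h1
      have h4 := preimage_of_uObj _ ((hU _).1 (h1 (U0 R)))
      exact h4
    · rintro rfl b
      exact (hU b).2 rfl

end K881.ThetaCrit
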