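import Groth.Agent.ThetaS.K943.CoverExt
import Groth.Agent.ThetaS.K943.LocGlue

/-!
# Functors out of a category fibred in groupoids from transport of arrows to one object
-/

set_option backward.isDefEq.respectTransparency false
set_option backward.isDefEq.respectTransparency.types false
set_option autoImplicit false
set_option linter.style.haveILetI false

universe v₃ u₃ v₂ u₂ v u

open CategoryTheory Opposite FibCat K943.FibBase K943.CoverExt K943.LocGlue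

namespace K881.TransFun

variable {C : Type u} [Category.{v} C]
variable {ℬ : BasedCategory.{v₂, u₂} C} {𝒳 : BasedCategory.{v₃, u₃} C}

/-- Transport of arrows to `x0` along pairs of arrows to `u0`. -/
structure TrRel (u0 : ℬ.obj) (x0 : 𝒳.obj) where
  /-- `m'` is the transport of `m` -/
  R : ∀ {b : ℬ.obj} (_ _ : b ⟶ u0) {y : 𝒳.obj} (_ _ : y ⟶ x0), Prop
  hx : 𝒳.p.obj x0 = ℬ.p.obj u0
  ex : ∀ {b : ℬ.obj} (α β : b ⟶ u0) {y : 𝒳.obj} (m : y ⟶ x0), 𝒳.p.IsHomLift (ℬ.p.map α) m →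
    ∃ m' : y ⟶ x0, 𝒳.p.IsHomLift (ℬ.p.map β) m' ∧ R α β m m'
  uniq : ∀ {b : ℬ.obj} (α β : b ⟶ u0) {y : 𝒳.obj} (m m' m'' : y ⟶ x0), 𝒳.p.IsHomLift (ℬ.p.map β) m' →
    𝒳.p.IsHomLift (ℬ.p.map β) m'' → R α β m m' → R α β m m'' → m' = m''
  refl : ∀ {b : ℬ.obj} (α : b ⟶ u0) {y : 𝒳.obj} (m : y ⟶ x0), 𝒳.p.IsHomLift (ℬ.p.map α) m → R α α m m
  trans : ∀ {b : ℬ.obj} (α β γ : b ⟶ u0) {y : 𝒳.obj} (m m' m'' : y ⟶ x0), R α β m m' → R β γ m' m'' → R α γ m m''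
  precomp : ∀ {b b' : ℬ.obj} (φ : b' ⟶ b) (α β : b ⟶ u0) {y y' : 𝒳.obj} (n : y' ⟶ y) (m m' : y ⟶ x0),
    𝒳.p.IsHomLift (ℬ.p.map φ) n → R α β m m' → R (φ ≫ α) (φ ≫ β) (n ≫ m) (n ≫ m')

variable [hℬ : IsFibGrpd ℬ.p] [h𝒳 : IsFibGrpd 𝒳.p] {u0 : ℬ.obj} {x0 : 𝒳.obj} (T : TrRel u0 x0)

include T in
omit hℬ in
/-- The functor on the objects mapping to `u0`. -/
theorem exists_fun_sub : ∃ F : sub ℬ (To u0) ⥤ᵇ 𝒳, ∃ m : F.obj ⟨u0, ⟨𝟙 _⟩⟩ ⟶ x0,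
    𝒳.p.IsHomLift (𝟙 (ℬ.p.obj u0)) m := by
  choose y m hm using fun b : (sub ℬ (To u0)).obj => exists_lift_of_eq 𝒳.p (ℬ.p.map b.property.some) T.hx
  have hy : ∀ b, 𝒳.p.obj (y b) = ℬ.p.obj b.obj := fun b => IsHomLift.domain_eq 𝒳.p (ℬ.p.map b.property.some) (m b)
  have key : ∀ {b c : (sub ℬ (To u0)).obj} (φ : b ⟶ c), ∃ χ : y b ⟶ y c, 𝒳.p.IsHomLift (ℬ.p.map φ.hom) χ ∧
      T.R b.property.some (φ.hom ≫ c.property.some) (m b) (χ ≫ m c) := by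
    intro b c φ
    obtain ⟨m', h1, h2⟩ := T.ex b.property.some (φ.hom ≫ c.property.some) (m b) (hm b)
    haveI : 𝒳.p.IsHomLift (ℬ.p.map φ.hom ≫ ℬ.p.map c.property.some) m' := by
      rw [← Functor.map_comp]; exact h1
    haveI := hm c
    obtain ⟨χ, ⟨h3, h4⟩, -⟩ := existsUnique_fac_lift 𝒳.p (ℬ.p.map φ.hom) (ℬ.p.map c.property.some) (m c) m'
    exact ⟨χ, h3, by rw [h4]; exact h2⟩
  have huniq : ∀ {b c : (sub ℬ (To u0)).obj} (φ : b ⟶ c) (χ χ' : y b ⟶ y c), 𝒳.p.IsHomLift (ℬ.p.map φ.hom) χ →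
      𝒳.p.IsHomLift (ℬ.p.map φ.hom) χ' → T.R b.property.some (φ.hom ≫ c.property.some) (m b) (χ ≫ m c) →
      T.R b.property.some (φ.hom ≫ c.property.some) (m b) (χ' ≫ m c) → χ = χ' := by
    intro b c φ χ χ' h1 h2 h3 h4
    haveI := h1
    haveI := h2
    haveI := hm c
    have h5 : χ ≫ m c = χ' ≫ m c := by
      refine T.uniq _ _ _ _ _ ?_ ?_ h3 h4
      · rw [Functor.map_comp]; infer_instance
      · rw [Functor.map_comp]; infer_instance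
    exact cart_ext_lift 𝒳.p (ℬ.p.map φ.hom) (m c) h5
  choose χ hχ1 hχ2 using @key
  have hid : ∀ b, χ (𝟙 b) = 𝟙 (y b) := by
    intro b
    have e0 : (𝟙 b : b ⟶ b).hom = 𝟙 b.obj := rfl
    refine huniq (𝟙 b) _ _ (hχ1 (𝟙 b)) ?_ (hχ2 (𝟙 b)) ?_
    · rw [e0, ℬ.p.map_id]
      exact IsHomLift.id (hy b)
    · rw [e0, Category.id_comp, Category.id_comp]
      exact T.refl _ _ (hm b)
  have hcomp : ∀ {b c d : (sub ℬ (To u0)).obj} (φ : b ⟶ c) (ψ : c ⟶ d), χ (φ ≫ ψ) = χ φ ≫ χ ψ := by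
    intro b c d φ ψ
    have e0 : (φ ≫ ψ).hom = φ.hom ≫ ψ.hom := rfl
    have h1 := hχ1 φ
    have h2 := hχ1 ψ
    refine huniq (φ ≫ ψ) _ _ (hχ1 _) ?_ (hχ2 _) ?_
    · rw [e0, Functor.map_comp]; infer_instance
    · rw [e0, Category.assoc, Category.assoc]
      exact T.trans _ _ _ _ _ _ (hχ2 φ) (T.precomp φ.hom _ _ (χ φ) _ _ (hχ1 φ) (hχ2 ψ))
  let F : sub ℬ (To u0) ⥤ᵇ 𝒳 :=
    { toFunctor :=
        { obj := y
          map := fun φ => χ φ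
          map_id := hid
          map_comp := fun φ ψ => hcomp φ ψ }
      w := by
        refine CategoryTheory.Functor.ext (fun b => hy b) fun b c φ => ?_
        exact IsHomLift.fac' 𝒳.p (ℬ.p.map φ.hom) (χ φ) }
  obtain ⟨m', h1, -⟩ := T.ex (⟨u0, ⟨𝟙 _⟩⟩ : (sub ℬ (To u0)).obj).property.some (𝟙 u0) (m ⟨u0, ⟨𝟙 _⟩⟩) (hm _)
  refine ⟨F, m', ?_⟩
  rw [ℬ.p.map_id] at h1
  exact h1

include T in
/-- Extension to all of `ℬ`. -/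
theorem exists_fun (hst : ∀ b : ℬ.obj, Stk.IsStackFor (cov (closedInto_to u0) b) 𝒳) :
    ∃ F : ℬ ⥤ᵇ 𝒳, ∃ m : F.obj u0 ⟶ x0, 𝒳.p.IsHomLift (𝟙 (ℬ.p.obj u0)) m := by
  obtain ⟨F', m, hm⟩ := exists_fun_sub T
  obtain ⟨F, ⟨e⟩⟩ := exists_ext (closedInto_to u0) hst F'
  refine ⟨F, e.hom.toNatTrans.app ⟨u0, ⟨𝟙 _⟩⟩ ≫ m, ?_⟩
  haveI : 𝒳.p.IsHomLift (𝟙 (ℬ.p.obj u0)) (e.hom.toNatTrans.app ⟨u0, ⟨𝟙 _⟩⟩) := e.hom.isHomLift' ⟨u0, ⟨𝟙 _⟩⟩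
  have h1 : 𝒳.p.IsHomLift (𝟙 (ℬ.p.obj u0) ≫ 𝟙 (ℬ.p.obj u0)) (e.hom.toNatTrans.app ⟨u0, ⟨𝟙 _⟩⟩ ≫ m) := by
    infer_instance
  rwa [Category.comp_id] at h1

end K881.TransFun
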