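import Groth.Agent.ThetaS.K881.ReesObj
import Groth.Agent.ThetaS.K881.TransFun
import Groth.Agent.ThetaS.K942.Coord

/-!
# The functor out of `Θ_R` attached to a universal family over the line
-/

set_option autoImplicit false
set_option backward.isDefEq.respectTransparency false
set_option backward.isDefEq.respectTransparency.types false
set_option linter.style.haveILetI false

universe u

open CategoryTheory CategoryTheory.Limits MonoidalCategory CartesianMonoidalCategory MonObj GrpObj AlgebraicGeometry Opposite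
open scoped TensorProduct Polynomial

namespace K881.ThetaTr

open ThetaS K951.Pts K943.QuotAtlas K943.QuotCover K881.Rees K881.ReesObj K881.TransFun K943.FibBase K943.CoverExt
  K943.LocGlue

attribute [local instance] K951.Pts.algΓ

section Quot

variable {R : Type u} [CommRing R] {K : Precoverage Scheme.{u}} [K.HasIsos]

theorem fn_mul_z {T : Over (Spec (CommRingCat.of R))} (g g' : T ⟶ Gm R) (n : ℤ) :
    fn (B := Lau R) (g * g') (zPow R n) = fn (B := Lau R) g (zPow R n) * fn (B := Lau R) g' (zPow R n) := by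
  have h := congr($(fn_mul (R := R) (A := Lau R) g g') (zPow R n))
  refine h.trans ?_
  rw [AlgHom.comp_apply, Bialgebra.comulAlgHom_apply, comul_zPow, Algebra.TensorProduct.lift_tmul]

theorem fn_one_z {T : Over (Spec (CommRingCat.of R))} (n : ℤ) :
    fn (B := Lau R) (1 : T ⟶ Gm R) (zPow R n) = 1 := by
  have h := congr($(fn_one (R := R) (A := Lau R) (W := T)) (zPow R n))
  refine h.trans ?_
  rw [AlgHom.comp_apply, Bialgebra.counitAlgHom_apply, counit_zPow]
  exact map_one _

variable {b b' : AlgSt.QuotObj K (Gm R) (lineAction R)}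

/-- The point of `G_m` by which two arrows to the atlas differ. -/
noncomputable def gg (α β : b ⟶ u0 K (lineAction R)) : b.base ⟶ Gm R := sec β ≫ toG α

/-- The corresponding unit. -/
noncomputable def ll (α β : b ⟶ u0 K (lineAction R)) : (Γ(b.base.left, ⊤))ˣ :=
  (K942.Coord.isUnit_z (gg α β) 1).unit

theorem ll_val (α β : b ⟶ u0 K (lineAction R)) : (ll α β : Γ(b.base.left, ⊤)) = fn (B := Lau R) (gg α β) (zPow R 1) := rfl

theorem sec_toG (α : b ⟶ u0 K (lineAction R)) : sec α ≫ toG α = 1 := by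
  have h := congrArg (fun t => t ≫ fst _ _) (sec_top α)
  simpa [toG] using h

theorem phi_eq (α : b ⟶ u0 K (lineAction R)) : b.φ = sm (lineAction R) (toG α) (b.π ≫ nbase α) := by
  rw [← nφ α, top_eq α, sm]
  have h : (Gm R ◁ 𝟙 (Line R)) = 𝟙 _ := MonoidalCategory.whiskerLeft_id _ _
  rw [h, Category.id_comp]

theorem nbase_eq (α β : b ⟶ u0 K (lineAction R)) : nbase β = sm (lineAction R) (gg α β) (nbase α) := by
  have h1 : sec β ≫ b.φ = nbase β := by
    rw [phi_eq β, comp_sm, sec_toG, sm_one, ← Category.assoc, sec_π, Category.id_comp]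
  rw [← h1, phi_eq α, comp_sm, ← Category.assoc, sec_π, Category.id_comp]
  rfl

theorem fn_nbase (α β : b ⟶ u0 K (lineAction R)) : fn (B := R[X]) (nbase β) Polynomial.X =
    (ll α β : Γ(b.base.left, ⊤)) * fn (B := R[X]) (nbase α) Polynomial.X := by
  rw [nbase_eq α β, sm, K942.Coord.fn_lineAct]
  rfl

theorem gg_refl (α : b ⟶ u0 K (lineAction R)) : gg α α = 1 := sec_toG α

theorem ll_refl (α : b ⟶ u0 K (lineAction R)) : (ll α α : Γ(b.base.left, ⊤)) = 1 := by
  rw [ll_val, gg_refl, fn_one_z]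

theorem gg_trans (α β γ : b ⟶ u0 K (lineAction R)) : gg α γ = gg β γ * gg α β := by
  have h1 : toG α = toG β * ((b.π ≫ sec β) ≫ toG α) := by
    rw [← toG_sm α (toG β) (b.π ≫ sec β), toG_sm_sec, Category.id_comp]
  have h2 : sec γ ≫ toG α = sec γ ≫ (toG β * ((b.π ≫ sec β) ≫ toG α)) := by rw [← h1]
  rw [comp_mul] at h2
  simp only [Category.assoc] at h2
  rw [sec_π_assoc] at h2
  exact h2

theorem ll_trans (α β γ : b ⟶ u0 K (lineAction R)) :
    (ll α γ : Γ(b.base.left, ⊤)) = ll β γ * ll α β := by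
  rw [ll_val, gg_trans α β γ, fn_mul_z, ← ll_val, ← ll_val]

theorem gg_precomp (φ : b' ⟶ b) (α β : b ⟶ u0 K (lineAction R)) : gg (φ ≫ α) (φ ≫ β) = φ.base ≫ gg α β := by
  have h1 : sec (φ ≫ β) ≫ φ.top = φ.base ≫ sec β := by
    apply (ncart β).hom_ext
    · have e1 : φ.top ≫ ntop β = ntop (φ ≫ β) := rfl
      have e2 : nbase (φ ≫ β) = φ.base ≫ nbase β := rfl
      rw [Category.assoc, e1, sec_top, Category.assoc, sec_top, comp_lift, comp_one, e2]
    · rw [Category.assoc, φ.cart.w, ← Category.assoc, sec_π, Category.assoc, sec_π, Category.id_comp, Category.comp_id]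
  have h2 : toG (φ ≫ α) = φ.top ≫ toG α := by
    change (φ.top ≫ ntop α) ≫ fst _ _ = φ.top ≫ ntop α ≫ fst _ _
    rw [Category.assoc]
  rw [gg, gg, h2, ← Category.assoc, h1, Category.assoc]

theorem ll_precomp (φ : b' ⟶ b) (α β : b ⟶ u0 K (lineAction R)) :
    (ll (φ ≫ α) (φ ≫ β) : Γ(b'.base.left, ⊤)) = φ.base.left.appTop (ll α β : Γ(b.base.left, ⊤)) := by
  rw [ll_val, gg_precomp, fn_comp, ll_val]

end Quot

section Coh

variable {R : Type u} [CommRing R] {C S : Scheme.{u}} (f : C ⟶ S) (h : Spec (CommRingCat.of R) ⟶ S)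

/-- An object over the line with a universal family. -/
structure LData where
  /-- total space -/
  XT : Scheme.{u}
  /-- projection -/
  p : XT ⟶ C
  /-- projection -/
  q : XT ⟶ (Line R).left
  pb : IsPullback p q f ((Over.map h).obj (Line R)).hom
  /-- the module -/
  E : XT.Modules
  /-- total space over `Spec R` -/
  Z : Scheme.{u}
  /-- projection -/
  pZ : Z ⟶ C
  /-- projection -/
  qZ : Z ⟶ Spec (CommRingCat.of R)
  pbZ : IsPullback pZ qZ f h
  /-- the map of total spaces -/
  π : XT ⟶ Z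
  hp : π ≫ pZ = p
  hq : π ≫ qZ = q ≫ (Line R).hom
  /-- the sequence -/
  D : Sys Z
  /-- the family -/
  ρ : Fam D π (q.appTop (lineFn Polynomial.X)) E
  univ : ρ.IsRees

variable {f h}

/-- The object. -/
@[reducible] noncomputable def LData.obj (L : LData f h) : ModSt.Obj f := ⟨(Over.map h).obj (Line R), L.XT, L.p, L.q, L.pb, L.E⟩

/-- The general form. -/
@[reducible] noncomputable def LData.toUniv (L : LData f h) : Univ f where
  x := L.obj
  B := Spec (CommRingCat.of R)
  a := (Line R).hom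
  Z := L.Z
  p := L.pZ
  q := L.qZ
  hb := h
  pb := L.pbZ
  π := L.π
  hp := L.hp
  hq := L.hq
  D := L.D
  s := lineFn Polynomial.X
  ρ := L.ρ
  univ := L.univ

variable (K : Precoverage Scheme.{u}) [K.HasIsos] (L : LData f h) (hL : ModSt.IsCohObj L.obj)

/-- The relation. -/
def RR {b : (Theta K R h).obj} (α β : b ⟶ u0 K (lineAction R)) {y : (ModSt.Coh f).obj}
    (m m' : y ⟶ (⟨L.obj, hL⟩ : (ModSt.Coh f).obj)) : Prop :=
  (ModSt.Coh f).p.IsHomLift ((Theta K R h).p.map α) m ∧ (ModSt.Coh f).p.IsHomLift ((Theta K R h).p.map β) m' ∧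
    ∀ e : y.obj.base = (Over.map h).obj b.base, Rel L.toUniv ((eqToHom e).left.appTop (ll α β : Γ(b.base.left, ⊤)))
      m.hom m'.hom

theorem eqToHom_rfl_left {T : Over S} (x : Γ(T.left, ⊤)) : (eqToHom (rfl : T = T)).left.appTop x = x := by
  simp

omit [K.HasIsos] in
/-- Reduction to a definitional base. -/
theorem cases_y {b : (Theta K R h).obj} {P : (ModSt.Coh f).obj → Prop}
    (H : ∀ (XT : Scheme.{u}) (p : XT ⟶ C) (q : XT ⟶ b.base.left) (pb : IsPullback p q f ((Over.map h).obj b.base).hom)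
      (E : XT.Modules) (hE : ModSt.IsCohObj (⟨(Over.map h).obj b.base, XT, p, q, pb, E⟩ : ModSt.Obj f)), P ⟨_, hE⟩)
    (y : (ModSt.Coh f).obj) (hy : y.obj.base = (Over.map h).obj b.base) : P y := by
  obtain ⟨⟨T, XT, p, q, pb, E⟩, hE⟩ := y
  change T = _ at hy
  subst hy
  exact H XT p q pb E hE

theorem base_eq_of_lift {b : (Theta K R h).obj} {α : b ⟶ u0 K (lineAction R)} {y : (ModSt.Coh f).obj}
    {m : y ⟶ (⟨L.obj, hL⟩ : (ModSt.Coh f).obj)} (hm : (ModSt.Coh f).p.IsHomLift ((Theta K R h).p.map α) m) :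
    y.obj.base = (Over.map h).obj b.base := IsHomLift.domain_eq (ModSt.Coh f).p ((Theta K R h).p.map α) m

/-- The transport relation. -/
noncomputable def trRel : TrRel (ℬ := Theta K R h) (𝒳 := ModSt.Coh f) (u0 K (lineAction R)) ⟨L.obj, hL⟩ where
  R α β _ m m' := RR K L hL α β m m'
  hx := rfl
  ex := by
    intro b α β y m hm
    have e := base_eq_of_lift K L hL hm
    revert m hm
    refine cases_y (f := f) K (P := fun y => ∀ m : y ⟶ (⟨L.obj, hL⟩ : (ModSt.Coh f).obj),
      (ModSt.Coh f).p.IsHomLift ((Theta K R h).p.map α) m →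
      ∃ m' : y ⟶ (⟨L.obj, hL⟩ : (ModSt.Coh f).obj), (ModSt.Coh f).p.IsHomLift ((Theta K R h).p.map β) m' ∧
        RR K L hL α β m m') ?_ y e
    intro XT p q pb E hE m hm
    have h1 : (Over.map h).map α.base = m.hom.base :=
      @IsHomLift.eq_of_isHomLift _ _ _ _ (ModSt.Coh f).p (⟨_, hE⟩ : (ModSt.Coh f).obj) ⟨L.obj, hL⟩
        ((Over.map h).map α.base) m hm
    obtain ⟨m', h2, h3⟩ := exists_rel L.toUniv m.hom ((Over.map h).map β.base) (ll α β)
      (by
        rw [← h1]
        change (nbase β).left ≫ (Line R).hom = (nbase α).left ≫ (Line R).hom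
        rw [Over.w, Over.w])
      (by
        rw [← h1]
        exact fn_nbase α β)
    refine ⟨ObjectProperty.homMk m', ?_, hm, ?_, fun e' => ?_⟩
    · have : (Theta K R h).p.map β = m'.base := h2.symm
      rw [this]
      exact IsHomLift.map (ModSt.Coh f).p (ObjectProperty.homMk m' : (⟨_, hE⟩ : (ModSt.Coh f).obj) ⟶ ⟨L.obj, hL⟩)
    · have : (Theta K R h).p.map β = m'.base := h2.symm
      rw [this]
      exact IsHomLift.map (ModSt.Coh f).p (ObjectProperty.homMk m' : (⟨_, hE⟩ : (ModSt.Coh f).obj) ⟶ ⟨L.obj, hL⟩)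
    · rw [eqToHom_rfl_left]
      exact h3
  uniq := by
    intro b α β y m m' m'' h1 h2 h3 h4
    have e := base_eq_of_lift K L hL h1
    have r3 := h3.2.2 e
    have r4 := h4.2.2 e
    -- scale back
    have hu : IsUnit ((eqToHom e).left.appTop (ll α β : Γ(b.base.left, ⊤))) := (ll α β).isUnit.map _
    apply ObjectProperty.hom_ext
    obtain ⟨u, hu⟩ := hu
    have hb : m'.hom.base = m''.hom.base := by
      have a1 := IsHomLift.fac' (ModSt.Coh f).p ((Theta K R h).p.map β) m'
      have a2 := IsHomLift.fac' (ModSt.Coh f).p ((Theta K R h).p.map β) m''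
      exact a1.trans a2.symm
    refine hom_mk_ext hb ?_
    apply push_injective L.toUniv
    obtain ⟨hr3, r3⟩ := r3
    obtain ⟨hr4, r4⟩ := r4
    ext k : 2
    have key : ∀ (t' : y.obj.XT ⟶ L.XT) (ht : m'.hom.top = t') (hr' : m'.hom.top ≫ L.π = t' ≫ L.π),
        (L.toUniv.ρ.push (m'.hom.c ≫ (Scheme.Modules.pushforwardCongr ht).hom.app y.obj.E)).ρ k =
        (fam L.toUniv m'.hom).ρ k ≫ (Scheme.Modules.pushforwardCongr hr').hom.app y.obj.E := by
      rintro t' rfl hr'
      rw [congr_refl, congr_refl, Category.comp_id, Category.comp_id]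
      rfl
    have hrr : m'.hom.top ≫ L.π = m''.hom.top ≫ L.π := by rw [top_ext hb]
    rw [key _ (top_ext hb) hrr, r3 k]
    refine Eq.trans ?_ (r4 k).symm
    have key2 : ∀ (r r' r'' : y.obj.XT ⟶ L.Z) (h1 : r = r') (h2 : r' = r'') (h3 : r = r'')
        (s : Γ(y.obj.XT, ⊤)),
        ((Scheme.Modules.pushforwardCongr h1).hom.app y.obj.E ≫ (Scheme.Modules.pushforward r').map
          (Groth.Agent.LoccohB.HHmap.smulHom y.obj.E s)) ≫
          (Scheme.Modules.pushforwardCongr h2).hom.app y.obj.E =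
        (Scheme.Modules.pushforwardCongr h3).hom.app y.obj.E ≫ (Scheme.Modules.pushforward r'').map
          (Groth.Agent.LoccohB.HHmap.smulHom y.obj.E s) := by
      rintro r _ _ rfl rfl h3 s
      rw [congr_refl, Category.id_comp, Category.comp_id]
    have := key2 _ _ _ hr3 hrr hr4 (y.obj.q.appTop ((eqToHom e).left.appTop (ll α β : Γ(b.base.left, ⊤))) ^ k)
    rw [Category.assoc, this]
  refl := by
    intro b α y m hm
    refine ⟨hm, hm, fun e => ?_⟩
    rw [ll_refl, map_one]
    exact rel_refl _ _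
  trans := by
    intro b α β γ y m m' m'' h1 h2
    refine ⟨h1.1, h2.2.1, fun e => ?_⟩
    rw [ll_trans α β γ, map_mul]
    exact rel_trans _ (h1.2.2 e) (h2.2.2 e)
  precomp := by
    intro b b' φ α β y y' n m m' hn h1
    haveI := hn
    haveI := h1.1
    haveI := h1.2.1
    refine ⟨?_, ?_, fun e' => ?_⟩
    · rw [Functor.map_comp]; infer_instance
    · rw [Functor.map_comp]; infer_instance
    · have e := base_eq_of_lift K L hL h1.1
      have h2 := rel_precomp L.toUniv n.hom (h1.2.2 e)
      have h3 : n.hom.base.left.appTop ((eqToHom e).left.appTop (ll α β : Γ(b.base.left, ⊤))) =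
          (eqToHom e').left.appTop (ll (φ ≫ α) (φ ≫ β) : Γ(b'.base.left, ⊤)) := by
        have h4 : n.hom.base ≫ eqToHom e = eqToHom e' ≫ (Over.map h).map φ.base := by
          have := IsHomLift.fac' (ModSt.Coh f).p ((Theta K R h).p.map φ) n
          have h5 : n.hom.base = (ModSt.Coh f).p.map n := rfl
          rw [h5, this, Category.assoc, Category.assoc, eqToHom_trans, eqToHom_refl]
          exact congrArg _ (Category.comp_id _)
        have h6 : (n.hom.base ≫ eqToHom e).left.appTop (ll α β : Γ(b.base.left, ⊤)) =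
          (eqToHom e' ≫ (Over.map h).map φ.base).left.appTop (ll α β : Γ(b.base.left, ⊤)) := by rw [h4]
        rw [Over.comp_left, Over.comp_left, Scheme.Hom.comp_appTop, Scheme.Hom.comp_appTop] at h6
        rw [ll_precomp φ α β]
        exact h6
      rw [h3] at h2
      exact h2

end Coh

end K881.ThetaTr
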