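import Groth.Agent.ThetaS.K943.QuotTriv
import Groth.Agent.ThetaS.K943.Points
import Groth.Agent.ThetaS.K881.ThetaTr

/-!
# The groupoid of the action of `G_m` on the line
-/

set_option autoImplicit false
set_option backward.isDefEq.respectTransparency false
set_option backward.isDefEq.respectTransparency.types false
set_option linter.style.haveILetI false

universe u

open CategoryTheory CategoryTheory.Limits MonoidalCategory CartesianMonoidalCategory MonObj GrpObj AlgebraicGeometry Opposite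
open scoped Polynomial

namespace K881.Arr

open K943 ThetaS K951.Pts K943.QuotAtlas K943.QuotCover K943.QuotTriv K943.Points K942.Coord K881.ThetaTr

attribute [local instance] K951.Pts.algΓ

section Gen

variable {S : Scheme.{u}} {G : Over S} [GrpObj G] {X : Over S} {aX : AlgGrp.Action G X}
  {K : Precoverage Scheme.{u}} [K.HasIsos]

theorem uMapG_congr {Y Z : Over S} {y : Y ⟶ X} {z : Z ⟶ X} {h h' : Y ⟶ Z} {g g' : Y ⟶ G}
    (e : sm aX g (h ≫ z) = y) (e' : sm aX g' (h' ≫ z) = y) (hh : h = h') (hg : g = g') :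
    (uMapG h g e : uObj K aX Y y ⟶ uObj K aX Z z) = uMapG h' g' e' := by
  subst hh hg; rfl

theorem rt_comp {Y Z : Over S} (g : Y ⟶ G) (h : Y ⟶ Z) (g' : Z ⟶ G) :
    (rt g ≫ (G ◁ h)) ≫ rt g' = rt (g * (h ≫ g')) ≫ (G ◁ h) := by
  apply CartesianMonoidalCategory.hom_ext
  · have e1 : (rt g ≫ (G ◁ h)) ≫ fst G Z = fst G Y * (snd G Y ≫ g) := top_fst g h
    have e2 : (rt g ≫ (G ◁ h)) ≫ snd G Z = snd G Y ≫ h := top_snd g h
    have e3 : rt g' ≫ fst G Z = fst G Z * (snd G Z ≫ g') := lift_fst _ _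
    have e4 : (rt g ≫ (G ◁ h)) ≫ snd G Z ≫ g' = snd G Y ≫ h ≫ g' := by
      rw [← Category.assoc, e2, Category.assoc]
    rw [top_fst, Category.assoc, e3, comp_mul, e1, e4, comp_mul, _root_.mul_assoc]
  · rw [top_snd, Category.assoc, rt_snd, top_snd]

theorem uMapG_comp {Y Z W : Over S} {y : Y ⟶ X} {z : Z ⟶ X} {w : W ⟶ X} {h : Y ⟶ Z} {g : Y ⟶ G}
    (e : sm aX g (h ≫ z) = y) {h' : Z ⟶ W} {g' : Z ⟶ G} (e' : sm aX g' (h' ≫ w) = z)
    (e'' : sm aX (g * (h ≫ g')) ((h ≫ h') ≫ w) = y) :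
    (uMapG h g e : uObj K aX Y y ⟶ uObj K aX Z z) ≫ uMapG h' g' e' = uMapG (h ≫ h') (g * (h ≫ g')) e'' := by
  refine AlgSt.QuotObj.hom_ext rfl ?_
  change (rt g ≫ (G ◁ h)) ≫ (rt g' ≫ (G ◁ h')) = rt (g * (h ≫ g')) ≫ (G ◁ (h ≫ h'))
  rw [← Category.assoc, rt_comp, Category.assoc, ← MonoidalCategory.whiskerLeft_comp]

theorem rt_one {Y : Over S} : rt (1 : Y ⟶ G) = 𝟙 _ := by
  apply CartesianMonoidalCategory.hom_ext
  · rw [rt, lift_fst, comp_one, _root_.mul_one, Category.id_comp]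
  · rw [rt_snd, Category.id_comp]

theorem uMapG_id {Y : Over S} {y : Y ⟶ X} (e : sm aX 1 (𝟙 Y ≫ y) = y) :
    (uMapG (𝟙 Y) 1 e : uObj K aX Y y ⟶ uObj K aX Y y) = 𝟙 _ := by
  refine AlgSt.QuotObj.hom_ext rfl ?_
  change rt 1 ≫ (G ◁ 𝟙 Y) = 𝟙 _
  rw [rt_one, MonoidalCategory.whiskerLeft_id, Category.id_comp]

variable (aX K)

/-- The object over `G × X`. -/
noncomputable abbrev b1 : AlgSt.QuotObj K G aX := uObj K aX (G ⊗ X) (snd G X)

/-- The object over `G × G × X`. -/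
noncomputable abbrev b2 : AlgSt.QuotObj K G aX := uObj K aX (G ⊗ (G ⊗ X)) (snd G (G ⊗ X) ≫ snd G X)

/-- The projection. -/
noncomputable def be : b1 aX K ⟶ u0 K aX := uMapG (snd G X) 1 (by rw [sm_one, Category.comp_id])

theorem act_inv {T : Over S} (g : T ⟶ G) (x : T ⟶ X) : sm aX g⁻¹ (sm aX g x) = x := by
  rw [← sm_mul, inv_mul_cancel, sm_one]

/-- The action. -/
noncomputable def al : b1 aX K ⟶ u0 K aX := uMapG (sm aX (fst G X) (snd G X)) (fst G X)⁻¹ (by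
  rw [Category.comp_id, act_inv])

/-- The projection. -/
noncomputable def pr : b2 aX K ⟶ b1 aX K := uMapG (snd G (G ⊗ X)) 1 (by rw [sm_one])

/-- The multiplication. -/
noncomputable def mu : b2 aX K ⟶ b1 aX K :=
  uMapG (lift (fst G (G ⊗ X) * (snd G (G ⊗ X) ≫ fst G X)) (snd G (G ⊗ X) ≫ snd G X)) 1 (by rw [sm_one, lift_snd])

/-- The action on the last factor. -/
noncomputable def nu : b2 aX K ⟶ b1 aX K :=
  uMapG (lift (fst G (G ⊗ X)) (sm aX (snd G (G ⊗ X) ≫ fst G X) (snd G (G ⊗ X) ≫ snd G X)))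
    (snd G (G ⊗ X) ≫ fst G X)⁻¹ (by rw [lift_snd, act_inv])

/-- The unit section. -/
noncomputable def eps : u0 K aX ⟶ b1 aX K := uMapG (lift 1 (𝟙 X)) 1 (by rw [lift_snd, sm_one])

theorem mu_be : mu aX K ≫ be aX K = pr aX K ≫ be aX K := by
  have h1 := sm_one aX ((snd G (G ⊗ X) ≫ snd G X) ≫ 𝟙 X)
  rw [mu, be, pr]
  rw [uMapG_comp _ _ (by rw [comp_one, _root_.mul_one, lift_snd, h1, Category.comp_id]),
    uMapG_comp _ _ (by rw [comp_one, _root_.mul_one, h1, Category.comp_id])]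
  exact uMapG_congr _ _ (by rw [lift_snd]) (by rw [comp_one, comp_one])

theorem mu_al : mu aX K ≫ al aX K = nu aX K ≫ al aX K := by
  have e1 : lift (fst G (G ⊗ X) * (snd G (G ⊗ X) ≫ fst G X)) (snd G (G ⊗ X) ≫ snd G X) ≫
      sm aX (fst G X) (snd G X) = sm aX (fst G (G ⊗ X) * (snd G (G ⊗ X) ≫ fst G X)) (snd G (G ⊗ X) ≫ snd G X) := by
    rw [comp_sm, lift_fst, lift_snd]
  have e2 : lift (fst G (G ⊗ X)) (sm aX (snd G (G ⊗ X) ≫ fst G X) (snd G (G ⊗ X) ≫ snd G X)) ≫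
      sm aX (fst G X) (snd G X) = sm aX (fst G (G ⊗ X) * (snd G (G ⊗ X) ≫ fst G X)) (snd G (G ⊗ X) ≫ snd G X) := by
    rw [comp_sm, lift_fst, lift_snd, sm_mul]
  have g1 : (1 : G ⊗ (G ⊗ X) ⟶ G) * (lift (fst G (G ⊗ X) * (snd G (G ⊗ X) ≫ fst G X))
      (snd G (G ⊗ X) ≫ snd G X) ≫ (fst G X)⁻¹) = (fst G (G ⊗ X) * (snd G (G ⊗ X) ≫ fst G X))⁻¹ := by
    rw [_root_.one_mul, comp_inv, lift_fst]
  have g2 : (snd G (G ⊗ X) ≫ fst G X)⁻¹ * (lift (fst G (G ⊗ X)) (sm aX (snd G (G ⊗ X) ≫ fst G X)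
      (snd G (G ⊗ X) ≫ snd G X)) ≫ (fst G X)⁻¹) = (fst G (G ⊗ X) * (snd G (G ⊗ X) ≫ fst G X))⁻¹ := by
    rw [comp_inv, lift_fst, _root_.mul_inv_rev]
  rw [mu, al, nu]
  rw [uMapG_comp _ _ (by rw [g1, e1, Category.comp_id, act_inv]),
    uMapG_comp _ _ (by rw [g2, e2, Category.comp_id, act_inv])]
  exact uMapG_congr _ _ (by rw [e1, e2]) (by rw [g1, g2])

theorem nu_be : nu aX K ≫ be aX K = pr aX K ≫ al aX K := by
  have e1 : lift (fst G (G ⊗ X)) (sm aX (snd G (G ⊗ X) ≫ fst G X) (snd G (G ⊗ X) ≫ snd G X)) ≫ snd G X =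
    sm aX (snd G (G ⊗ X) ≫ fst G X) (snd G (G ⊗ X) ≫ snd G X) := lift_snd _ _
  have e2 : snd G (G ⊗ X) ≫ sm aX (fst G X) (snd G X) =
    sm aX (snd G (G ⊗ X) ≫ fst G X) (snd G (G ⊗ X) ≫ snd G X) := by rw [comp_sm]
  have g1 : (snd G (G ⊗ X) ≫ fst G X)⁻¹ * (lift (fst G (G ⊗ X)) (sm aX (snd G (G ⊗ X) ≫ fst G X)
      (snd G (G ⊗ X) ≫ snd G X)) ≫ (1 : G ⊗ X ⟶ G)) = (snd G (G ⊗ X) ≫ fst G X)⁻¹ := by
    rw [comp_one, _root_.mul_one]
  have g2 : (1 : G ⊗ (G ⊗ X) ⟶ G) * (snd G (G ⊗ X) ≫ (fst G X)⁻¹) = (snd G (G ⊗ X) ≫ fst G X)⁻¹ := by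
    rw [_root_.one_mul, comp_inv]
  rw [nu, be, pr, al]
  rw [uMapG_comp _ _ (by rw [g1, e1, Category.comp_id, act_inv]),
    uMapG_comp _ _ (by rw [g2, e2, Category.comp_id, act_inv])]
  exact uMapG_congr _ _ (by rw [e1, e2]) (by rw [g1, g2])

theorem eps_be : eps aX K ≫ be aX K = 𝟙 _ := by
  rw [eps, be, uMapG_comp _ _ (by rw [comp_one, _root_.mul_one, sm_one, lift_snd, Category.id_comp])]
  rw [← uMapG_id (K := K) (aX := aX) (y := 𝟙 X) (by rw [sm_one, Category.id_comp])]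
  exact uMapG_congr _ _ (lift_snd _ _) (by rw [comp_one, _root_.mul_one])

theorem eps_al : eps aX K ≫ al aX K = 𝟙 _ := by
  have e1 : lift (1 : X ⟶ G) (𝟙 X) ≫ sm aX (fst G X) (snd G X) = 𝟙 X := by
    rw [comp_sm, lift_fst, lift_snd, sm_one]
  have g1 : (1 : X ⟶ G) * (lift (1 : X ⟶ G) (𝟙 X) ≫ (fst G X)⁻¹) = 1 := by
    rw [_root_.one_mul, comp_inv, lift_fst, inv_one]
  rw [eps, al, uMapG_comp _ _ (by rw [g1, e1, Category.comp_id, sm_one])]
  rw [← uMapG_id (K := K) (aX := aX) (y := 𝟙 X) (by rw [sm_one, Category.id_comp])]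
  exact uMapG_congr _ _ e1 g1

end Gen

section Line

variable {R : Type u} [CommRing R] (K : Precoverage Scheme.{u}) [K.HasIsos]

theorem isPullback_snd {S : Scheme.{u}} (Y T : Over S) : IsPullback (snd Y T).left (fst Y T).left T.hom Y.hom :=
  (IsPullback.of_hasPullback Y.hom T.hom).flip

theorem be_base : (be (lineAction R) K).base = snd (Gm R) (Line R) := rfl

theorem pr_base : (pr (lineAction R) K).base = snd (Gm R) (Gm R ⊗ Line R) := rfl

theorem al_X : fn (B := R[X]) (al (lineAction R) K).base Polynomial.X =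
    fn (B := Lau R) (fst (Gm R) (Line R)) (zPow R 1) * fn (B := R[X]) (snd (Gm R) (Line R)) Polynomial.X :=
  fn_lineAct _ _

theorem mu_z (n : ℤ) : fn (B := Lau R) ((mu (lineAction R) K).base ≫ fst (Gm R) (Line R)) (zPow R n) =
    fn (B := Lau R) (fst (Gm R) (Gm R ⊗ Line R)) (zPow R n) *
      fn (B := Lau R) (snd (Gm R) (Gm R ⊗ Line R) ≫ fst (Gm R) (Line R)) (zPow R n) := by
  have h1 : (mu (lineAction R) K).base ≫ fst (Gm R) (Line R) =
      fst (Gm R) (Gm R ⊗ Line R) * (snd (Gm R) (Gm R ⊗ Line R) ≫ fst (Gm R) (Line R)) := lift_fst _ _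
  exact (congrArg (fun t => fn (B := Lau R) t (zPow R n)) h1).trans (fn_mul_z _ _ n)

theorem nu_z : (nu (lineAction R) K).base ≫ fst (Gm R) (Line R) = fst (Gm R) (Gm R ⊗ Line R) := lift_fst _ _

theorem eps_z (n : ℤ) : fn (B := Lau R) ((eps (lineAction R) K).base ≫ fst (Gm R) (Line R)) (zPow R n) = 1 := by
  have : (eps (lineAction R) K).base ≫ fst (Gm R) (Line R) = 1 := lift_fst _ _
  rw [this, fn_one_z]

end Line

end K881.Arr
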