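import Groth.Agent.ThetaS.K881.ReesMain
import Groth.Agent.Flat2C.FlatSec

/-!
# The criterion implies Θ-completeness of the open substack
-/

set_option autoImplicit false
set_option backward.isDefEq.respectTransparency false
set_option backward.isDefEq.respectTransparency.types false
set_option linter.style.haveILetI false

universe u

open CategoryTheory CategoryTheory.Limits MonoidalCategory CartesianMonoidalCategory AlgebraicGeometry Opposite
open scoped Polynomial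

namespace K881.Bwd

open K943 ThetaS K951.Pts K943.QuotAtlas K943.QuotCover K943.QuotTriv K943.Points K942.Coord K881.ThetaTr
  K881.ThetaCrit K881.LauGeo K881.PhiP K881.Arr K881.LauAlg K881.WtSh K881.LineSec K881.Flt K881.FltB K881.Rees
  K881.ReesExist K881.ReesIso K881.Filt K881.ReesMain K881.ReesObj K881.Topo K899.OpenCrit
open Groth.Agent.LoccohB.GlueHom Groth.Agent.CohqA.PullbackUniv Groth.Agent.CohqA.PullbackAffine
  Groth.Agent.CohqA.PullbackSections Groth.Agent.CohqA.BaseChangeMod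
open Groth.Agent.LoccohB.HHmap (smulHom)

attribute [local instance] K951.Pts.algΓ

section Retract

open Groth.Agent.Flat2C.FlatSec

theorem isFlatOver_of_retract {X S : Scheme.{u}} (f : X ⟶ S) {M N : X.Modules} (hM : Coh.IsQCoh M)
    (hN : Coh.IsQCoh N) (i : M ⟶ N) (r : N ⟶ M) (hir : i ≫ r = 𝟙 M) (h : FlatMod.IsFlatOver f N) :
    FlatMod.IsFlatOver f M := by
  refine isFlatOver_of_cover f M hM fun x => ?_
  obtain ⟨V, hV, hxV, -⟩ := exists_isAffineOpen_mem_and_subset (U := (⊤ : S.Opens)) (x := f x) trivial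
  obtain ⟨U, hU, hxU, hUV⟩ := exists_isAffineOpen_mem_and_subset (U := f ⁻¹ᵁ V) (x := x) hxV
  refine ⟨U, V, hU, hV, hUV, hxU, ?_⟩
  have h1 := (flat_sections_iff f N hU hV hUV hN).2 fun y _ => h y
  letI := moduleOver f M hUV
  letI := moduleOver f N hUV
  have h2 : Module.Flat Γ(S, V) Γ(N, U) := h1
  let i' : Γ(M, U) →ₗ[Γ(S, V)] Γ(N, U) :=
    { toFun := fun y => i.app U y
      map_add' := fun y z => (i.app U).hom.map_add y z
      map_smul' := fun a y => Scheme.Modules.Hom.app_smul i (f.appLE V U hUV a) y }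
  let r' : Γ(N, U) →ₗ[Γ(S, V)] Γ(M, U) :=
    { toFun := fun y => r.app U y
      map_add' := fun y z => (r.app U).hom.map_add y z
      map_smul' := fun a y => Scheme.Modules.Hom.app_smul r (f.appLE V U hUV a) y }
  exact Module.Flat.of_retract i' r' (by
    ext y
    exact congr(($hir).app U y))

theorem exists_retract {X : Scheme.{u}} (G : ℤ → X.Modules) (i : ℤ) :
    ∃ r : (∐ G) ⟶ G i, Sigma.ι G i ≫ r = 𝟙 _ := by
  classical
  refine ⟨Sigma.desc fun j => if h : j = i then eqToHom (by rw [h]) else 0, ?_⟩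
  rw [Sigma.ι_desc, dif_pos rfl, eqToHom_refl]

end Retract

section To

variable {R : Type u} [CommRing R] {C S : Scheme.{u}} {f : C ⟶ S} {h : Spec (CommRingCat.of R) ⟶ S}

/-- Arrows to an object with a universal family from families over a base mapping to `Spec R`. -/
theorem exists_to (L : LData f h) {B CB : Scheme.{u}} {y : B ⟶ Spec (CommRingCat.of R)} {iB : CB ⟶ L.Z} {qB : CB ⟶ B}
    (hB : IsPullback iB qB L.qZ y) {bs : B ⟶ S} (hbs : y ≫ h = bs) {pB : CB ⟶ C} (hpB : iB ≫ L.pZ = pB)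
    (hB' : IsPullback pB qB f (Over.mk bs).hom)
    (t : B ⟶ (Line R).left) (ht : t ≫ (Line R).hom = y) {s : Γ(L.Z, ⊤)} {M : L.Z.Modules} {ρ : Fam L.D (𝟙 L.Z) s M}
    (hρ : ρ.IsRees) {MB : CB.Modules} (c : M ⟶ (Scheme.Modules.pushforward iB).obj MB) (hc : ModSt.IsCart iB c)
    (hs : iB.appTop s = qB.appTop (t.appTop (lineFn Polynomial.X))) :
    ∃ m : (⟨Over.mk bs, CB, pB, qB, hB', MB⟩ : ModSt.Obj f) ⟶ L.obj, m.base.left = t := by
  have ht' : t ≫ ((Over.map h).obj (Line R)).hom = (Over.mk bs).hom := by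
    change t ≫ (Line R).hom ≫ h = bs
    rw [← Category.assoc, ht, hbs]
  have h1 := (hρ.push_iff c).2 hc
  obtain ⟨m, hm, -⟩ := exists_hom L.toUniv
    (e := (⟨Over.mk bs, CB, pB, qB, hB', MB⟩ : ModSt.Obj f)) (Over.homMk t ht') iB hpB
    (by
      change iB ≫ L.qZ = qB ≫ t ≫ (Line R).hom
      rw [ht, hB.w])
    ((ρ.push c).cast (Category.comp_id iB) hs) (h1.cast _ _)
  exact ⟨m, by rw [hm]; rfl⟩

end To

section Main

variable {R : Type u} [CommRing R] {C S : Scheme.{u}} {f : C ⟶ S} {h : Spec (CommRingCat.of R) ⟶ S}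
  (Φ : Theta Kf.{u} R h ⥤ᵇ ModSt.Coh f)
  {Z : Scheme.{u}} {p : Z ⟶ C} {q : Z ⟶ Spec (CommRingCat.of R)} (pb : IsPullback p q f h)

theorem isPullback_xL : IsPullback (eo Φ (B0 R)).p (qL Φ) f ((Over.map h).obj (Line R)).hom := by
  refine (eo Φ (B0 R)).isPullback.of_iso (Iso.refl _) (Iso.refl _) (asIso (bm Φ (B0 R))) (Iso.refl _) ?_ ?_ ?_ ?_
  · simp
  · simp
  · simp
  · rw [asIso_hom, Iso.refl_hom, Category.comp_id]
    exact (bm_hom Φ (B0 R)).symm

/-- The value at the atlas, over the line. -/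
noncomputable def xL : ModSt.Obj f := ⟨(Over.map h).obj (Line R), XL Φ, (eo Φ (B0 R)).p, qL Φ, isPullback_xL Φ, EL Φ⟩

/-- The comparison. -/
noncomputable def nL : xL Φ ⟶ eo Φ (B0 R) where
  base := inv (tb Φ (B0 R))
  top := 𝟙 (XL Φ)
  w_p := Category.id_comp _
  w_q := by
    change 𝟙 (XL Φ) ≫ (eo Φ (B0 R)).q = ((eo Φ (B0 R)).q ≫ bm Φ (B0 R)) ≫ (inv (tb Φ (B0 R))).left
    have h1 : bm Φ (B0 R) ≫ (inv (tb Φ (B0 R))).left = 𝟙 _ := by
      have := congrArg (fun t => t.left) (IsIso.hom_inv_id (tb Φ (B0 R)))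
      exact this
    rw [Category.id_comp, Category.assoc, h1, Category.comp_id]
  c := (Scheme.Modules.pushforwardId (XL Φ)).inv.app (EL Φ)
  cart := ModSt.isCart_id _

theorem isCohObj_xL : ModSt.IsCohObj (xL Φ) := K927.ModSt.isCohObj_of_hom (nL Φ) (Φ.obj (B0 R)).property

theorem flat_xL : FlatMod.IsFlatOver (qL Φ) (EL Φ) := (isCohObj_xL Φ).1

theorem Q_iff {Q : (ModSt.Coh f).obj → Prop} {U : (Line R).left.Opens}
    (hU : ∀ (y : (ModSt.Coh f).obj) (m : y ⟶ Φ.obj (U0 R)), Q y ↔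
        (show (ModSt.Coh f).p.obj y ⟶ (Over.map h).obj (Line R) from
          (ModSt.Coh f).p.map m ≫ eqToHom (Φ.w_obj (U0 R))).left ⁻¹ᵁ U = ⊤)
    (y : (ModSt.Coh f).obj) (m : y.obj ⟶ xL Φ) : Q y ↔ m.base.left ⁻¹ᵁ U = ⊤ := by
  rw [hU y (ObjectProperty.homMk (m ≫ nL Φ))]
  have h2 : (ModSt.Coh f).p.map (ObjectProperty.homMk (m ≫ nL Φ) : y ⟶ Φ.obj (U0 R)) ≫ eqToHom (Φ.w_obj (U0 R)) =
      m.base := by
    change (m.base ≫ inv (tb Φ (B0 R))) ≫ tb Φ (B0 R) = m.base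
    rw [Category.assoc, IsIso.inv_hom_id]
    exact Category.comp_id _
  have key : ∀ (g g' : y.obj.base ⟶ (Over.map h).obj (Line R)), g = g' → (g.left ⁻¹ᵁ U = ⊤ ↔ g'.left ⁻¹ᵁ U = ⊤) := by
    rintro g _ rfl; rfl
  exact key _ _ h2

variable (hm : ∀ i, Mono (ws Φ pb i)) (a : ℤ)

/-- The data of the Rees module. -/
noncomputable def LD (hR : (FamW Φ pb hm a).IsRees) : LData f h where
  XT := XL Φ
  p := (eo Φ (B0 R)).p
  q := qL Φ
  pb := isPullback_xL Φ
  E := EL Φ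
  Z := Z
  pZ := p
  qZ := q
  pbZ := pb
  π := rL Φ pb
  hp := rr_p Φ pb (B0 R)
  hq := (isPullback_L Φ pb).w
  D := seq (Fo Φ pb hm) a
  ρ := (FamW Φ pb hm a).cast rfl (fb_eq Φ (B0 R) _)
  univ := hR.cast _ _

end Main

end K881.Bwd
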