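import Groth.Agent.ThetaS.K881.Bwd

/-!
# The criterion implies Θ-completeness of the open substack: conclusion
-/

set_option autoImplicit false
set_option backward.isDefEq.respectTransparency false
set_option backward.isDefEq.respectTransparency.types false
set_option linter.style.haveILetI false

universe u

open CategoryTheory CategoryTheory.Limits MonoidalCategory CartesianMonoidalCategory AlgebraicGeometry Opposite
open scoped Polynomial

namespace K881.BwdMain

open K943 ThetaS K951.Pts K943.QuotAtlas K943.QuotCover K943.QuotTriv K943.Points K942.Coord K881.ThetaTr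
  K881.ThetaCrit K881.LauGeo K881.PhiP K881.Arr K881.LauAlg K881.WtSh K881.LineSec K881.Flt K881.FltB K881.Rees
  K881.ReesExist K881.ReesIso K881.Filt K881.ReesMain K881.ReesObj K881.Topo K899.OpenCrit K881.Bwd

attribute [local instance] K951.Pts.algΓ

/-- The criterion. -/
def Crit {C S : Scheme.{u}} {f : C ⟶ S} (Q : (ModSt.Coh f).obj → Prop) (R : Type u) [CommRing R] [IsDomain R]
    [IsDiscreteValuationRing R] (h : Spec (CommRingCat.of R) ⟶ S) : Prop :=
  ∀ (K : Type u) [Field K] [Algebra R K] [IsFractionRing R K]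
    (CR : Scheme.{u}) (p : CR ⟶ C) (q : CR ⟶ Spec (CommRingCat.of R)) (hpb : IsPullback p q f h)
    (E : CR.Modules) (hE : ModSt.IsCohObj (⟨Over.mk h, CR, p, q, hpb, E⟩ : ModSt.Obj f))
    (F : ℤ →o Subobject E) (_ : ∀ i, Coh.IsQCoh (Subobject.underlying.obj (F i)))
    (a b : ℤ) (_ : ∀ i, i ≤ a → F i = ⊥) (_ : ∀ i, b ≤ i → F i = ⊤)
    (_ : ∀ i, FlatMod.IsFlatOver q (gr F i))
    (CK : Scheme.{u}) (iK : CK ⟶ CR) (qK : CK ⟶ Spec (CommRingCat.of K))
    (hK : IsPullback iK qK q (Spec.map (CommRingCat.ofHom (algebraMap R K))))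
    (Cκ : Scheme.{u}) (iκ : Cκ ⟶ CR) (qκ : Cκ ⟶ Spec (CommRingCat.of (IsLocalRing.ResidueField R)))
    (hκ : IsPullback iκ qκ q (Spec.map (CommRingCat.ofHom (IsLocalRing.residue R))))
    (_ : Q ⟨⟨Over.mk h, CR, p, q, hpb, E⟩, hE⟩)
    (_ : ∀ hK' : ModSt.IsCohObj (⟨Over.mk (Spec.map (CommRingCat.ofHom (algebraMap R K)) ≫ h),
      CK, iK ≫ p, qK, (hK.flip.paste_vert hpb.flip).flip,
      (Scheme.Modules.pullback iK).obj (∐ fun i : ℤ => gr F i)⟩ : ModSt.Obj f), Q ⟨_, hK'⟩)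
    (hκ' : ModSt.IsCohObj (⟨Over.mk (Spec.map (CommRingCat.ofHom (IsLocalRing.residue R)) ≫ h),
      Cκ, iκ ≫ p, qκ, (hκ.flip.paste_vert hpb.flip).flip,
      (Scheme.Modules.pullback iκ).obj (∐ fun i : ℤ => gr F i)⟩ : ModSt.Obj f)), Q ⟨_, hκ'⟩

theorem preimage_pt0 {R : Type u} [CommRing R] {ϖ : R} (hϖ : ϖ ≠ 0) {K : Type u} [Field K] [Algebra R K]
    [IsFractionRing R K] : (Spec.map (CommRingCat.ofHom (algebraMap R K)) ≫ pt0 R) ⁻¹ᵁ (Uline ϖ) = ⊤ := by
  let φ : R[X] →+* K := (algebraMap R K).comp (Polynomial.evalRingHom (0 : R))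
  have h1 : Spec.map (CommRingCat.ofHom (algebraMap R K)) ≫ pt0 R = Spec.map (CommRingCat.ofHom φ) := by
    change Spec.map (CommRingCat.ofHom (algebraMap R K)) ≫ Spec.map (CommRingCat.ofHom (Polynomial.evalRingHom (0 : R))) = _
    rw [← Spec.map_comp]; rfl
  rw [h1]
  have h2 : (Spec.map (CommRingCat.ofHom φ)) ⁻¹ᵁ ((Line R).left.basicOpen (lineFn (Polynomial.C ϖ))) = ⊤ := by
    have h3 := preimage_basicOpen_top (Spec.map (CommRingCat.ofHom φ)) (lineFn (Polynomial.C ϖ))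
    refine Eq.trans h3 ?_
    have h4 : (Spec.map (CommRingCat.ofHom φ)).appTop (lineFn (Polynomial.C ϖ)) =
        (Scheme.ΓSpecIso (CommRingCat.of K)).inv (algebraMap R K ϖ) := by
      have h5 := Scheme.ΓSpecIso_inv_naturality (CommRingCat.ofHom φ)
      have h6 := congr($h5 (Polynomial.C ϖ : R[X]))
      refine h6.symm.trans ?_
      have h7 : φ (Polynomial.C ϖ) = algebraMap R K ϖ := by
        change algebraMap R K ((Polynomial.C ϖ).eval 0) = _
        rw [Polynomial.eval_C]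
      exact congrArg (Scheme.ΓSpecIso (CommRingCat.of K)).inv.hom h7
    have h8 : IsUnit ((Spec.map (CommRingCat.ofHom φ)).appTop (lineFn (Polynomial.C ϖ))) := by
      rw [h4]
      refine IsUnit.map (Scheme.ΓSpecIso (CommRingCat.of K)).inv.hom (isUnit_iff_ne_zero.2 ?_)
      rw [Ne, map_eq_zero_iff _ (IsFractionRing.injective R K)]
      exact hϖ
    exact Scheme.basicOpen_of_isUnit _ h8
  rw [eq_top_iff, ← h2]
  exact Scheme.Hom.preimage_mono _ le_sup_right

theorem preimage_one {R : Type u} [CommRing R] (ϖ : R) : (Points.one (R := R)).left ⁻¹ᵁ (Uline ϖ) = ⊤ := by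
  rw [preimage_Uline]
  have h1 : fn (B := R[X]) (Points.one (R := R)) Polynomial.X = 1 := by
    rw [Points.one, fn_ofFn, linePt, Polynomial.aeval_X]
  rw [h1, Scheme.basicOpen_of_isUnit _ isUnit_one, top_sup_eq]

variable {R : Type u} [CommRing R] [IsDomain R] [IsDiscreteValuationRing R] {C S : Scheme.{u}} {f : C ⟶ S}
  {h : Spec (CommRingCat.of R) ⟶ S}

theorem backward [LocallyOfFiniteType f] [QuasiCompact f] {Q : (ModSt.Coh f).obj → Prop} {ϖ : R} (hϖ : Irreducible ϖ)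
    (crit : Crit Q R h) (Φ : Theta Kf.{u} R h ⥤ᵇ ModSt.Coh f) {U : (Line R).left.Opens}
    (hU : ∀ (y : (ModSt.Coh f).obj) (m : y ⟶ Φ.obj (U0 R)), Q y ↔
        (show (ModSt.Coh f).p.obj y ⟶ (Over.map h).obj (Line R) from
          (ModSt.Coh f).p.map m ≫ eqToHom (Φ.w_obj (U0 R))).left ⁻¹ᵁ U = ⊤)
    (hle : Uline ϖ ≤ U) : U = ⊤ := by
  let Z := pullback f h
  let p : Z ⟶ C := pullback.fst f h
  let q : Z ⟶ Spec (CommRingCat.of R) := pullback.snd f h
  have pb : IsPullback p q f h := IsPullback.of_hasPullback f h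
  haveI : LocallyOfFiniteType q := MorphismProperty.of_isPullback pb inferInstance
  haveI : QuasiCompact q := MorphismProperty.of_isPullback pb inferInstance
  haveI : IsLocallyNoetherian Z := LocallyOfFiniteType.isLocallyNoetherian q
  haveI : CompactSpace Z := QuasiCompact.compactSpace_of_compactSpace q
  have hfl := flat_xL Φ
  have hm := mono_ws Φ pb hfl
  obtain ⟨a, ha⟩ := exists_lower_bound Φ pb
  obtain ⟨b, hb⟩ := exists_upper_bound Φ pb hfl
  let F := Fo Φ pb hm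
  have ha' : ∀ i, i ≤ a → F i = ⊥ := fun i hi => Fo_eq_bot Φ pb hm (ha i hi)
  have hb' : ∀ i, b ≤ i → F i = ⊤ := fun i hi => Fo_eq_top Φ pb hm (hb i hi)
  have hFq : ∀ i, Coh.IsQCoh (Subobject.underlying.obj (F i)) := isQCoh_Fo Φ pb hm
  have hfp : ∀ n, CohB1.IsFP ((seq F a).N n) := fun n => isFP_of_mono (arr F a n) (hFq _) (isCohObj_e1 Φ pb).2
  have hi : ∀ n, (b - a).toNat ≤ n → IsIso ((seq F a).ι n) := fun n hn => isIso_ι F a (hb' _ (by omega))
  have hR := isRees_FamW Φ pb hm a hfp ha (b - a).toNat hi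
  have hL : ModSt.IsCohObj (LD Φ pb hm a hR).obj := isCohObj_xL Φ
  have hQL : ∀ (y : (ModSt.Coh f).obj) (m : y.obj ⟶ (LD Φ pb hm a hR).obj), Q y ↔ m.base.left ⁻¹ᵁ U = ⊤ :=
    fun y m => Q_iff Φ hU y m
  -- the zero section
  have hz : ModSt.IsCohObj (⟨Over.mk h, Z, p, q, pb, ∐ fun i : ℤ => gr F i⟩ : ModSt.Obj f) := by
    obtain ⟨m, -⟩ := exists_to (LD Φ pb hm a hR) (IsPullback.of_horiz_isIso ⟨by simp⟩ :
      IsPullback (𝟙 Z) q q (𝟙 (Spec (CommRingCat.of R)))) (Category.id_comp h) (Category.id_comp p) pb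
      (pt0 R) pt0_hom (isRees_zero F a ha') ((Scheme.Modules.pushforwardId Z).inv.app _) (ModSt.isCart_id _)
      (by rw [pt0_X, map_zero, map_zero])
    exact K927.ModSt.isCohObj_of_hom m hL
  have hgr : ∀ i, FlatMod.IsFlatOver q (gr F i) := by
    intro i
    obtain ⟨r, hr⟩ := exists_retract (fun i : ℤ => gr F i) i
    exact isFlatOver_of_retract q (Groth.Agent.PerfA.QCohSerre.isQCoh_cokernel _ (hFq _) (hFq _))
      (Groth.Agent.PerfC.FPSections.isQCoh_of_isFP hz.2) _ r hr hz.1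
  -- the module itself
  have hQE : Q ⟨⟨Over.mk h, Z, p, q, pb, E1 Φ pb⟩, isCohObj_e1 Φ pb⟩ := by
    have h1 := (hU ⟨e1 Φ pb, isCohObj_e1 Φ pb⟩ (ObjectProperty.homMk (m1 Φ pb))).2 (by
      have h2 : ((m1 Φ pb).base ≫ tb Φ (B0 R)).left = (Points.one (R := R)).left := m1_base Φ pb
      have h3 : (Points.one (R := R)).left ⁻¹ᵁ U = ⊤ := by
        rw [eq_top_iff, ← preimage_one ϖ]
        exact Scheme.Hom.preimage_mono _ hle
      have key : ∀ g : Spec (CommRingCat.of R) ⟶ (Line R).left, g = (Points.one (R := R)).left → g ⁻¹ᵁ U = ⊤ := by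
        rintro _ rfl; exact h3
      exact key _ h2)
    exact h1
  -- the generic fibre
  let K := FractionRing R
  let yK := Spec.map (CommRingCat.ofHom (algebraMap R K))
  have hK : IsPullback (pullback.fst q yK) (pullback.snd q yK) q yK := IsPullback.of_hasPullback _ _
  let yκ := Spec.map (CommRingCat.ofHom (IsLocalRing.residue R))
  have hκ : IsPullback (pullback.fst q yκ) (pullback.snd q yκ) q yκ := IsPullback.of_hasPullback _ _
  have hQK : ∀ hK' : ModSt.IsCohObj (⟨Over.mk (yK ≫ h), pullback q yK, pullback.fst q yK ≫ p, pullback.snd q yK,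
      (hK.flip.paste_vert pb.flip).flip,
      (Scheme.Modules.pullback (pullback.fst q yK)).obj (∐ fun i : ℤ => gr F i)⟩ : ModSt.Obj f), Q ⟨_, hK'⟩ := by
    intro hK'
    obtain ⟨m, hm1⟩ := exists_to (LD Φ pb hm a hR) hK rfl rfl (hK.flip.paste_vert pb.flip).flip (yK ≫ pt0 R)
      (by rw [Category.assoc, pt0_hom, Category.comp_id]) (isRees_zero F a ha')
      ((Scheme.Modules.pullbackPushforwardAdjunction (pullback.fst q yK)).unit.app _) (K927.ModSt.isCart_unit _ _)
      (by rw [Scheme.Hom.comp_appTop, CommRingCat.comp_apply, pt0_X, map_zero, map_zero, map_zero])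
    refine (hQL ⟨_, hK'⟩ m).2 ?_
    rw [hm1, eq_top_iff, ← preimage_pt0 (K := K) hϖ.ne_zero]
    exact Scheme.Hom.preimage_mono _ hle
  obtain ⟨m, hm1⟩ := exists_to (LD Φ pb hm a hR) hκ rfl rfl (hκ.flip.paste_vert pb.flip).flip (yκ ≫ pt0 R)
    (by rw [Category.assoc, pt0_hom, Category.comp_id]) (isRees_zero F a ha')
    ((Scheme.Modules.pullbackPushforwardAdjunction (pullback.fst q yκ)).unit.app _) (K927.ModSt.isCart_unit _ _)
    (by rw [Scheme.Hom.comp_appTop, CommRingCat.comp_apply, pt0_X, map_zero, map_zero, map_zero])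
  have hκ' := K927.ModSt.isCohObj_of_hom m hL
  have h1 := crit K Z p q pb (E1 Φ pb) (isCohObj_e1 Φ pb) F hFq a b ha' hb' hgr _ _ _ hK _ _ _ hκ hQE hQK hκ'
  have h2 := (hQL ⟨_, hκ'⟩ m).1 h1
  rw [hm1] at h2
  exact eq_top hϖ hle h2

end K881.BwdMain
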