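import Groth.Agent.ThetaS.K881.ReesExist
import Groth.Agent.CohqA.FinSec
import Groth.Agent.Smoothlim.ModKer
import Groth.Agent.Models2.FPCoh
import Groth.Agent.PerfC.FPSections
import Groth.Agent.Models2.FlatIso
import Mathlib.CategoryTheory.Subobject.Lattice
import Mathlib.Order.Hom.Basic

/-!
# The sequence of a filtration; its universal families at `s = 1` and `s = 0`
-/

set_option autoImplicit false
set_option backward.isDefEq.respectTransparency false
set_option backward.isDefEq.respectTransparency.types false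

universe u

open CategoryTheory CategoryTheory.Limits AlgebraicGeometry Opposite
open Groth.Agent.LoccohB.HHmap Groth.Agent.CohqA.PullbackUniv

namespace K881.Filt

open K881.Rees

section FP

theorem isFP_of_mono {X : Scheme.{u}} [IsLocallyNoetherian X] {M E : X.Modules} (i : M ⟶ E) [Mono i]
    (hM : Coh.IsQCoh M) (hE : CohB1.IsFP E) : CohB1.IsFP M := by
  have hEq := Groth.Agent.PerfC.FPSections.isQCoh_of_isFP hE
  have hft : SheafOfModules.IsFiniteType (R := X.ringCatSheaf) E := Groth.Agent.Models2.FPCoh.isFT_of_isFP hE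
  refine Groth.Agent.CohqA.FinSec.isFP_of_finitePresentation hM fun x => ?_
  obtain ⟨U, hU, hx, -⟩ := exists_isAffineOpen_mem_and_subset (U := (⊤ : X.Opens)) (x := x) trivial
  refine ⟨U, hU, hx, ?_⟩
  have : IsNoetherianRing Γ(X, U) := IsLocallyNoetherian.component_noetherian ⟨U, hU⟩
  have h1 : Module.Finite Γ(X, U) Γ(E, U) := Groth.Agent.CohqA.FinSec.finite_sections hU hEq hft
  let l : Γ(M, U) →ₗ[Γ(X, U)] Γ(E, U) :=
    { toFun := fun y => i.app U y
      map_add' := fun y z => (i.app U).hom.map_add y z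
      map_smul' := fun r y => Scheme.Modules.Hom.app_smul i r y }
  have h2 : Module.Finite Γ(X, U) Γ(M, U) :=
    Module.Finite.of_injective l (Groth.Agent.Smoothlim.ModKer.app_injective_of_mono i U)
  exact Module.finitePresentation_of_finite _ _

end FP

variable {Z : Scheme.{u}} {E : Z.Modules} (F : ℤ →o Subobject E) (a : ℤ)

/-- The sequence `F a ⟶ F (a + 1) ⟶ …`. -/
noncomputable def seq : Sys Z where
  N n := Subobject.underlying.obj (F (a + (n : ℤ)))
  ι n := Subobject.ofLE (F (a + (n : ℤ))) (F (a + ((n + 1 : ℕ) : ℤ))) (F.monotone (by push_cast; omega))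

instance (n : ℕ) : Mono ((seq F a).ι n) := by
  change Mono (Subobject.ofLE _ _ _); infer_instance

/-- The inclusions. -/
noncomputable def arr (n : ℕ) : (seq F a).N n ⟶ E := (F (a + (n : ℤ))).arrow

instance (n : ℕ) : Mono (arr F a n) := by
  change Mono (Subobject.arrow _); infer_instance

theorem ι_arr (n : ℕ) : (seq F a).ι n ≫ arr F a (n + 1) = arr F a n := Subobject.ofLE_arrow _

theorem isIso_arr {n : ℕ} (h : F (a + (n : ℤ)) = ⊤) : IsIso (arr F a n) := by
  change IsIso (F (a + (n : ℤ))).arrow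
  rw [h]; infer_instance

theorem isIso_ι {n : ℕ} (h : F (a + (n : ℤ)) = ⊤) : IsIso ((seq F a).ι n) := by
  have h1 : F (a + ((n + 1 : ℕ) : ℤ)) = ⊤ := by
    rw [eq_top_iff, ← h]; exact F.monotone (by push_cast; omega)
  have := isIso_arr F a h
  have := isIso_arr F a h1
  exact IsIso.of_isIso_fac_right (ι_arr F a n)

/-- The graded pieces. -/
noncomputable abbrev gr (i : ℤ) : Z.Modules :=
  cokernel (Subobject.ofLE (F (i - 1)) (F i) (F.monotone (sub_one_lt i).le))

/-- The cokernels of the sequence are graded pieces. -/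
theorem cokernel_ι_prop (P : Z.Modules → Prop) (h : ∀ i, P (gr F i)) (n : ℕ) : P (cokernel ((seq F a).ι n)) := by
  have key : ∀ (i i' : ℤ) (hi : i' = i - 1) (hle : F i' ≤ F i), P (cokernel (Subobject.ofLE (F i') (F i) hle)) := by
    rintro i _ rfl hle
    exact h i
  exact key _ _ (by push_cast; ring) _

theorem isZero_of_bot {i : ℤ} (h : F i = ⊥) : IsZero (Subobject.underlying.obj (F i)) := by
  rw [h]
  exact (isZero_zero _).of_iso Subobject.botCoeIsoZero

theorem isZero_gr {i : ℤ} (h : F i = ⊥) : IsZero (gr F i) := by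
  have h1 := isZero_of_bot F h
  rw [IsZero.iff_id_eq_zero]
  rw [← cancel_epi (cokernel.π _)]
  exact h1.eq_of_src _ _

theorem id_map {Y : Scheme.{u}} {G G' : Y.Modules} (v : G ⟶ G') :
    (Scheme.Modules.pushforwardId Y).inv.app G ≫ (Scheme.Modules.pushforward (𝟙 Y)).map v =
      v ≫ (Scheme.Modules.pushforwardId Y).inv.app G' := ((Scheme.Modules.pushforwardId Y).inv.naturality v).symm

/-- Families relative to the identity. -/
noncomputable def mk1 (D : Sys Z) {G : Z.Modules} (s : Γ(Z, ⊤)) (τ : ∀ n, D.N n ⟶ G)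
    (hτ : ∀ n, D.ι n ≫ τ (n + 1) = τ n ≫ smulHom G s) : Fam D (𝟙 Z) s G where
  ρ n := τ n ≫ (Scheme.Modules.pushforwardId Z).inv.app G
  comm n := by
    rw [← Category.assoc, hτ, Category.assoc, Category.assoc, id_map]

theorem mk1_map {D : Sys Z} {G G' : Z.Modules} {s : Γ(Z, ⊤)} {τ : ∀ n, D.N n ⟶ G}
    (hτ : ∀ n, D.ι n ≫ τ (n + 1) = τ n ≫ smulHom G s) (v : G ⟶ G') :
    (mk1 D s τ hτ).map v = mk1 D s (fun n => τ n ≫ v) (fun n => by
      rw [← Category.assoc, hτ, Category.assoc, Category.assoc, smulHom_comp]) := by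
  ext n : 2
  rw [Fam.map_ρ, mk1, mk1]
  dsimp only
  rw [Category.assoc, Category.assoc, id_map]

theorem mk1_surj {D : Sys Z} {G : Z.Modules} {s : Γ(Z, ⊤)} (σ : Fam D (𝟙 Z) s G) :
    ∃ (τ : ∀ n, D.N n ⟶ G) (hτ : ∀ n, D.ι n ≫ τ (n + 1) = τ n ≫ smulHom G s), mk1 D s τ hτ = σ := by
  refine ⟨fun n => σ.ρ n ≫ (Scheme.Modules.pushforwardId Z).hom.app G, fun n => ?_, ?_⟩
  · rw [← Category.assoc, σ.comm, Category.assoc, Category.assoc]
    congr 1
  · ext n : 2
    change (σ.ρ n ≫ (Scheme.Modules.pushforwardId Z).hom.app G) ≫ (Scheme.Modules.pushforwardId Z).inv.app G = _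
    simp

theorem mk1_ext {D : Sys Z} {G : Z.Modules} {s : Γ(Z, ⊤)} {τ τ' : ∀ n, D.N n ⟶ G}
    {hτ : ∀ n, D.ι n ≫ τ (n + 1) = τ n ≫ smulHom G s} {hτ' : ∀ n, D.ι n ≫ τ' (n + 1) = τ' n ≫ smulHom G s}
    (h : mk1 D s τ hτ = mk1 D s τ' hτ') (n : ℕ) : τ n = τ' n := by
  have h1 := congrArg (fun t => t.ρ n) h
  change τ n ≫ (Scheme.Modules.pushforwardId Z).inv.app G = τ' n ≫ (Scheme.Modules.pushforwardId Z).inv.app G at h1
  exact (cancel_mono _).1 h1

theorem isRees_mk1 {D : Sys Z} {G : Z.Modules} {s : Γ(Z, ⊤)} {τ : ∀ n, D.N n ⟶ G}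
    (hτ : ∀ n, D.ι n ≫ τ (n + 1) = τ n ≫ smulHom G s)
    (H : ∀ (G' : Z.Modules) (τ' : ∀ n, D.N n ⟶ G'), (∀ n, D.ι n ≫ τ' (n + 1) = τ' n ≫ smulHom G' s) →
      ∃! v : G ⟶ G', ∀ n, τ n ≫ v = τ' n) : (mk1 D s τ hτ).IsRees := by
  intro G'
  constructor
  · intro v w e
    dsimp only at e
    rw [mk1_map, mk1_map] at e
    have h1 := mk1_ext e
    obtain ⟨t, -, ht⟩ := H G' (fun n => τ n ≫ v) (fun n => by
      rw [← Category.assoc, hτ, Category.assoc, Category.assoc, smulHom_comp])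
    rw [ht v fun n => rfl, ht w fun n => (h1 n).symm]
  · intro σ
    obtain ⟨τ', hτ', rfl⟩ := mk1_surj σ
    obtain ⟨v, hv, -⟩ := H G' τ' hτ'
    refine ⟨v, ?_⟩
    dsimp only
    rw [mk1_map]
    congr 1
    funext n
    exact hv n

/-- The inclusions as a family at `s = 1`. -/
theorem one_comm (n : ℕ) : (seq F a).ι n ≫ arr F a (n + 1) = arr F a n ≫ smulHom E 1 := by
  rw [smulHom_one, ι_arr]; exact (Category.comp_id _).symm

/-- The module is universal at `s = 1`. -/
theorem isRees_one {m : ℕ} (hm : F (a + (m : ℤ)) = ⊤) : (mk1 (seq F a) 1 (arr F a) (one_comm F a)).IsRees := by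
  refine isRees_mk1 _ fun G' τ' hτ' => ?_
  have h1 := isIso_arr F a hm
  have hτ1 : ∀ n, (seq F a).ι n ≫ τ' (n + 1) = τ' n := fun n => by
    rw [hτ', smulHom_one]; exact Category.comp_id _
  refine ⟨inv (arr F a m) ≫ τ' m, ?_, fun v hv => ?_⟩
  · have hup : ∀ k, arr F a (m + k) ≫ inv (arr F a m) ≫ τ' m = τ' (m + k) := by
      intro k
      induction k with
      | zero => rw [Nat.add_zero, IsIso.hom_inv_id_assoc]
      | succ k ih =>
        have h2 : F (a + ((m + k : ℕ) : ℤ)) = ⊤ := by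
          rw [eq_top_iff, ← hm]; exact F.monotone (by push_cast; omega)
        have := isIso_ι F a h2
        have e1 : (seq F a).ι (m + k) ≫ arr F a (m + (k + 1)) = arr F a (m + k) := ι_arr F a (m + k)
        rw [← cancel_epi ((seq F a).ι (m + k)), ← Category.assoc, e1, ih]
        exact (hτ1 _).symm
    have hdown : ∀ k ≤ m, arr F a (m - k) ≫ inv (arr F a m) ≫ τ' m = τ' (m - k) := by
      intro k
      induction k with
      | zero => intro _; rw [Nat.sub_zero, IsIso.hom_inv_id_assoc]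
      | succ k ih =>
        intro hk
        have e : m - k = (m - (k + 1)) + 1 := by omega
        have h3 := ih (by omega)
        rw [e] at h3
        rw [← ι_arr F a (m - (k + 1)), Category.assoc, h3, hτ1]
    intro n
    rcases le_total m n with h | h
    · obtain ⟨k, rfl⟩ := Nat.exists_eq_add_of_le h
      exact hup k
    · have h4 := hdown (m - n) (by omega)
      have e : m - (m - n) = n := by omega
      rwa [e] at h4
  · rw [← hv m, IsIso.inv_hom_id_assoc]

/-- The map to the sum of the graded pieces. -/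
noncomputable def toGr (n : ℕ) : (seq F a).N n ⟶ ∐ fun i : ℤ => gr F i :=
  cokernel.π (Subobject.ofLE (F (a + (n : ℤ) - 1)) (F (a + (n : ℤ))) (F.monotone (sub_one_lt _).le)) ≫
    Sigma.ι (fun i : ℤ => gr F i) (a + (n : ℤ))

theorem ι_π (i' i'' : ℤ) (h : i' ≤ i'' - 1) (hle : F i' ≤ F i'') :
    Subobject.ofLE (F i') (F i'') hle ≫
      cokernel.π (Subobject.ofLE (F (i'' - 1)) (F i'') (F.monotone (sub_one_lt _).le)) = 0 := by
  have h1 : Subobject.ofLE (F i') (F i'') hle = Subobject.ofLE (F i') (F (i'' - 1)) (F.monotone h) ≫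
    Subobject.ofLE (F (i'' - 1)) (F i'') (F.monotone (sub_one_lt _).le) := by
    rw [Subobject.ofLE_comp_ofLE]
  rw [h1, Category.assoc, cokernel.condition, comp_zero]

theorem zero_comm (n : ℕ) : (seq F a).ι n ≫ toGr F a (n + 1) = toGr F a n ≫ smulHom _ 0 := by
  rw [smulHom_zero, comp_zero, toGr, ← Category.assoc]
  have := ι_π F (a + (n : ℤ)) (a + ((n + 1 : ℕ) : ℤ)) (by push_cast; omega) (F.monotone (by push_cast; omega))
  have h2 : (seq F a).ι n ≫ cokernel.π (Subobject.ofLE (F (a + ((n + 1 : ℕ) : ℤ) - 1)) (F (a + ((n + 1 : ℕ) : ℤ)))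
    (F.monotone (sub_one_lt _).le)) = 0 := this
  rw [h2, zero_comp]

/-- The sum of the graded pieces is universal at `s = 0`. -/
theorem isRees_zero (ha : ∀ i, i ≤ a → F i = ⊥) : (mk1 (seq F a) 0 (toGr F a) (zero_comm F a)).IsRees := by
  refine isRees_mk1 _ fun G' τ' hτ' => ?_
  have hτ0 : ∀ n, (seq F a).ι n ≫ τ' (n + 1) = 0 := fun n => by
    rw [hτ', smulHom_zero, comp_zero]
  have key : ∀ i : ℤ, ∃ v : gr F i ⟶ G', ∀ (n : ℕ) (hn : a + (n : ℤ) = i),
      Subobject.ofLE (F (a + (n : ℤ))) (F i) (by rw [hn]) ≫ cokernel.π _ ≫ v = τ' n := by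
    intro i
    rcases lt_or_ge i a with h | h
    · exact ⟨0, fun n hn => by omega⟩
    · obtain ⟨n, rfl⟩ : ∃ n : ℕ, i = a + (n : ℤ) := ⟨(i - a).toNat, by omega⟩
      have hw : Subobject.ofLE (F (a + (n : ℤ) - 1)) (F (a + (n : ℤ))) (F.monotone (sub_one_lt _).le) ≫ τ' n = 0 := by
        rcases n with _ | n
        · exact (isZero_of_bot F (ha _ (by push_cast; omega))).eq_of_src _ _
        · have e : a + ((n + 1 : ℕ) : ℤ) - 1 = a + (n : ℤ) := by push_cast; ring
          have key2 : ∀ (i' : ℤ) (_ : i' = a + (n : ℤ)) (hle : F i' ≤ F (a + ((n + 1 : ℕ) : ℤ))),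
              Subobject.ofLE (F i') (F (a + ((n + 1 : ℕ) : ℤ))) hle ≫ τ' (n + 1) = 0 := by
            rintro _ rfl hle
            exact hτ0 n
          exact key2 _ e _
      refine ⟨cokernel.desc _ (τ' n) hw, fun n' hn' => ?_⟩
      obtain rfl : n' = n := by omega
      have e1 : Subobject.ofLE (F (a + (n' : ℤ))) (F (a + (n' : ℤ))) le_rfl = 𝟙 _ := Subobject.ofLE_refl _
      rw [e1, Category.id_comp, cokernel.π_desc]
  choose v hv using key
  have hv' : ∀ n : ℕ, cokernel.π _ ≫ v (a + (n : ℤ)) = τ' n := by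
    intro n
    have h1 := hv (a + (n : ℤ)) n rfl
    have e1 : Subobject.ofLE (F (a + (n : ℤ))) (F (a + (n : ℤ))) le_rfl = 𝟙 _ := Subobject.ofLE_refl _
    rw [e1, Category.id_comp] at h1
    exact h1
  refine ⟨Sigma.desc v, fun n => ?_, fun w hw => ?_⟩
  · rw [toGr, Category.assoc, Sigma.ι_desc, hv']
  · apply Sigma.hom_ext
    intro i
    rw [Sigma.ι_desc]
    rcases lt_or_ge i a with h | h
    · exact (isZero_gr F (ha i h.le)).eq_of_src _ _
    · obtain ⟨n, rfl⟩ : ∃ n : ℕ, i = a + (n : ℤ) := ⟨(i - a).toNat, by omega⟩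
      rw [← cancel_epi (cokernel.π _), hv', ← hw n, toGr, Category.assoc]

end K881.Filt
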