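import Groth.Agent.ThetaS.K881.Rees
import Groth.Agent.ThetaS.K942.Coord
import Groth.Agent.Flat2C.FlatSec
import Mathlib.AlgebraicGeometry.Morphisms.Flat
import Mathlib.RingTheory.Flat.TorsionFree

/-!
# Sections over affine opens of the product with the affine line
-/

set_option autoImplicit false
set_option backward.isDefEq.respectTransparency false
set_option backward.isDefEq.respectTransparency.types false
set_option linter.style.haveILetI false

universe u

open CategoryTheory CategoryTheory.Limits AlgebraicGeometry Opposite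
open Groth.Agent.LoccohB.GlueHom
open scoped Polynomial

namespace K881.LineSec

open ThetaS K942.Coord

theorem closure_of_isPushout {A B C P : CommRingCat.{u}} {i : A ⟶ B} {j : A ⟶ C} {k : B ⟶ P} {l : C ⟶ P}
    (h : IsPushout i j k l) : Subring.closure (Set.range k.hom ∪ Set.range l.hom) = ⊤ := by
  let T := Subring.closure (Set.range k.hom ∪ Set.range l.hom)
  let k' : B ⟶ CommRingCat.of T := CommRingCat.ofHom (k.hom.codRestrict T fun b =>
    Subring.subset_closure (Or.inl ⟨b, rfl⟩))
  let l' : C ⟶ CommRingCat.of T := CommRingCat.ofHom (l.hom.codRestrict T fun b =>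
    Subring.subset_closure (Or.inr ⟨b, rfl⟩))
  let s : CommRingCat.of T ⟶ P := CommRingCat.ofHom T.subtype
  have hk : k' ≫ s = k := rfl
  have hl : l' ≫ s = l := rfl
  have hw : i ≫ k' = j ≫ l' := by
    ext a
    exact congr($(h.w) a)
  have h1 : h.desc k' l' hw ≫ s = 𝟙 _ := by
    apply h.hom_ext
    · rw [← Category.assoc, h.inl_desc, hk, Category.comp_id]
    · rw [← Category.assoc, h.inr_desc, hl, Category.comp_id]
  rw [eq_top_iff]
  intro x _
  have h2 : s (h.desc k' l' hw x) = x := congr($h1 x)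
  rw [← h2]
  exact (h.desc k' l' hw x).2

variable {R : Type u} [CommRing R] {Z XT : Scheme.{u}} {q : Z ⟶ Spec (CommRingCat.of R)} {r : XT ⟶ Z}
  {q' : XT ⟶ (Line R).left} (H : IsPullback r q' q (Line R).hom)

/-- The coordinate over an open. -/
noncomputable abbrev xx (q' : XT ⟶ (Line R).left) (W : XT.Opens) : Γ(XT, W) :=
  resO (le_top : W ≤ ⊤) (q'.appTop (lineFn Polynomial.X))

include H in
theorem closure_line {V : Z.Opens} (hV : IsAffineOpen V) :
    Subring.closure (Set.range (r.app V).hom ∪ {xx q' (r ⁻¹ᵁ V)}) = ⊤ := by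
  have h1 := isIso_pushoutSection_of_isAffineOpen H (US := ⊤) (UT := ⊤) (UX := V) (UY := r ⁻¹ᵁ V)
    le_top le_top (inf_top_eq _).symm (isAffineOpen_top _)
    (@isAffineOpen_top _ (inferInstanceAs (IsAffine (Line R).left))) hV
  rw [isIso_pushoutSection_iff] at h1
  have h2 := closure_of_isPushout h1
  rw [eq_top_iff, ← h2, Subring.closure_le]
  rintro _ (⟨a, rfl⟩ | ⟨a, rfl⟩)
  · refine Subring.subset_closure (Or.inl ⟨a, ?_⟩)
    rw [Scheme.Hom.appLE_eq_app]
  · obtain ⟨P, rfl⟩ : ∃ P : R[X], lineFn P = a :=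
      (Scheme.ΓSpecIso (CommRingCat.of R[X])).symm.commRingCatIsoToRingEquiv.surjective a
    let lf : R[X] →+* Γ((Line R).left, ⊤) := (Scheme.ΓSpecIso (CommRingCat.of R[X])).inv.hom
    let t : R[X] →+* Γ(XT, r ⁻¹ᵁ V) := (q'.appLE ⊤ (r ⁻¹ᵁ V) le_top).hom.comp lf
    let L : Subring Γ(XT, r ⁻¹ᵁ V) := Subring.closure (Set.range (r.app V).hom ∪ {xx q' (r ⁻¹ᵁ V)})
    have hX : t Polynomial.X ∈ L := Subring.subset_closure (Or.inr rfl)
    have hC : ∀ a : R, t (Polynomial.C a) ∈ L := by
      intro a
      refine Subring.subset_closure (Or.inl ⟨(q.appLE ⊤ V le_top).hom ((Scheme.ΓSpecIso (CommRingCat.of R)).inv a), ?_⟩)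
      have h3 := congr($(h1.w) ((Scheme.ΓSpecIso (CommRingCat.of R)).inv a))
      rw [Scheme.Hom.appLE_eq_app (f := r)] at h3
      refine h3.trans ?_
      have h4 := Scheme.ΓSpecIso_inv_naturality (CommRingCat.ofHom (algebraMap R R[X]))
      have h5 := congr($h4 a)
      have h6 : ((Line R).hom.appLE ⊤ ⊤ le_top).hom ((Scheme.ΓSpecIso (CommRingCat.of R)).inv a) =
          lf (Polynomial.C a) := by
        have h7 : (Line R).hom.appLE ⊤ ⊤ le_top = (Line R).hom.appTop := Scheme.Hom.appLE_eq_app _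
        rw [h7]
        exact h5.symm
      exact congrArg (q'.appLE ⊤ (r ⁻¹ᵁ V) le_top).hom h6
    have ht : ∀ P : R[X], t P ∈ L := by
      intro P
      induction P using Polynomial.induction_on' with
      | add p q hp hq => rw [map_add]; exact L.add_mem hp hq
      | monomial n a =>
        rw [← Polynomial.C_mul_X_pow_eq_monomial, map_mul, map_pow]
        exact L.mul_mem (hC a) (L.pow_mem hX n)
    exact ht P

/-- The coordinate acts injectively on flat modules. -/
theorem smul_injective {M : XT.Modules} (hM : Coh.IsQCoh M) (hf : FlatMod.IsFlatOver q' M) {W : XT.Opens}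
    (hW : IsAffineOpen W) : Function.Injective (fun n : Γ(M, W) => xx q' W • n) := by
  have hL : IsAffine (Line R).left := inferInstanceAs (IsAffine (Spec _))
  have h1 := (Groth.Agent.Flat2C.FlatSec.flat_sections_iff q' M hW (isAffineOpen_top _)
    (le_top : W ≤ q' ⁻¹ᵁ ⊤) hM).2 fun x _ => hf x
  letI : Module Γ((Line R).left, ⊤) Γ(M, W) := Groth.Agent.Flat2C.FlatSec.moduleOver q' M (le_top : W ≤ q' ⁻¹ᵁ ⊤)
  have h2 : Module.Flat Γ((Line R).left, ⊤) Γ(M, W) := h1
  have h3 : lineFn (R := R) Polynomial.X ∈ nonZeroDivisors Γ((Line R).left, ⊤) := by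
    let e : R[X] ≃+* Γ((Line R).left, ⊤) := (Scheme.ΓSpecIso (CommRingCat.of R[X])).symm.commRingCatIsoToRingEquiv
    refine mem_nonZeroDivisors_iff_right.2 fun z hz => ?_
    obtain ⟨P, rfl⟩ := e.surjective z
    have h5 : e (P * Polynomial.X) = 0 := by
      rw [map_mul]; exact hz
    have h6 : P * Polynomial.X = 0 := by rwa [map_eq_zero_iff e e.injective] at h5
    have h7 : P = 0 := by
      apply Polynomial.isRegular_X.right
      dsimp only
      rw [h6, zero_mul]
    rw [h7, map_zero]
  have h6 : IsSMulRegular Γ(M, W) (lineFn (R := R) Polynomial.X) := Module.Flat.isSMulRegular_of_nonZeroDivisors h3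
  intro a b hab
  exact h6 hab

end K881.LineSec
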