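import Groth.Agent.ThetaS.K881.WtSh
import Groth.Agent.ThetaS.K881.LineSec
import Groth.Agent.ThetaS.K881.FwdMain

/-!
# The filtration attached to a functor out of `Θ_R`
-/

set_option autoImplicit false
set_option backward.isDefEq.respectTransparency false
set_option backward.isDefEq.respectTransparency.types false
set_option linter.style.haveILetI false

universe u

open CategoryTheory CategoryTheory.Limits MonoidalCategory CartesianMonoidalCategory AlgebraicGeometry Opposite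
open scoped Polynomial

namespace K881.Flt

open K943 ThetaS K951.Pts K943.QuotAtlas K943.QuotCover K943.QuotTriv K943.Points K942.Coord K881.ThetaTr
  K881.ThetaCrit K881.LauGeo K881.PhiP K881.Arr K881.LauAlg K881.WtSh K881.LineSec
open Groth.Agent.LoccohB.GlueHom Groth.Agent.CohqA.PullbackUniv Groth.Agent.CohqA.PullbackAffine
  Groth.Agent.CohqA.PullbackSections Groth.Agent.CohqA.BaseChangeMod

attribute [local instance] K951.Pts.algΓ

variable {R : Type u} [CommRing R] {C S : Scheme.{u}} {f : C ⟶ S} {h : Spec (CommRingCat.of R) ⟶ S}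
  (Φ : Theta Kf.{u} R h ⥤ᵇ ModSt.Coh f)
  {Z : Scheme.{u}} {p : Z ⟶ C} {q : Z ⟶ Spec (CommRingCat.of R)} (pb : IsPullback p q f h)

/-- The total space over the line. -/
noncomputable abbrev XL : Scheme.{u} := (eo Φ (B0 R)).XT

/-- The module over the line. -/
noncomputable abbrev EL : (XL Φ).Modules := (eo Φ (B0 R)).E

/-- The projection. -/
noncomputable abbrev rL : XL Φ ⟶ Z := rr Φ pb (B0 R)

/-- The projection. -/
noncomputable abbrev qL : XL Φ ⟶ (Line R).left := (eo Φ (B0 R)).q ≫ bm Φ (B0 R)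

theorem isPullback_L : IsPullback (rL Φ pb) (qL Φ) q (Line R).hom := isPullback_rr Φ pb (B0 R)

instance isAffineHom_L : IsAffineHom (rL Φ pb) :=
  haveI : IsAffine (B0 (h := h) R).base.left := inferInstanceAs (IsAffine (Line R).left)
  isAffineHom_rr Φ pb (B0 R)

theorem X0_app (V : Z.Opens) (n : Γ(EL Φ, rL Φ pb ⁻¹ᵁ V)) :
    (X0 Φ pb).app V n = (xx (qL Φ) (rL Φ pb ⁻¹ᵁ V) • n : Γ(EL Φ, rL Φ pb ⁻¹ᵁ V)) := by
  rw [X0, mm, sm_app, fb_eq]; rfl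

/-- The section `x = 1`. -/
noncomputable def i1 : Z ⟶ XL Φ := (isPullback_L Φ pb).lift (𝟙 Z) (q ≫ (Points.one (R := R)).left) (by
  rw [Category.id_comp, Category.assoc]
  have : (Points.one (R := R)).left ≫ (Line R).hom = 𝟙 _ := Over.w (Points.one (R := R))
  rw [this]
  exact (Category.comp_id q).symm)

theorem i1_r : i1 Φ pb ≫ rL Φ pb = 𝟙 Z := (isPullback_L Φ pb).lift_fst _ _ _

theorem i1_q : i1 Φ pb ≫ qL Φ = q ≫ (Points.one (R := R)).left := (isPullback_L Φ pb).lift_snd _ _ _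

/-- The restriction to `x = 1`. -/
noncomputable def E1 : Z.Modules := (Scheme.Modules.pullback (i1 Φ pb)).obj (EL Φ)

/-- The restriction to `x = 1`, as an object. -/
noncomputable def e1 : ModSt.Obj f := ⟨Over.mk h, Z, p, q, pb, E1 Φ pb⟩

/-- The arrow. -/
noncomputable def m1 : e1 Φ pb ⟶ eo Φ (B0 R) where
  base := Over.homMk ((Points.one (R := R)).left ≫ inv (bm Φ (B0 R))) (by
    have h1 := bm_hom Φ (B0 R)
    have h2 : (Points.one (R := R)).left ≫ (Line R).hom = 𝟙 _ := Over.w (Points.one (R := R))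
    rw [← h1, Category.assoc, IsIso.inv_hom_id_assoc]
    change (Points.one (R := R)).left ≫ (Line R).hom ≫ h = h
    rw [← Category.assoc, h2, Category.id_comp])
  top := i1 Φ pb
  w_p := by
    rw [← rr_p Φ pb (B0 R), ← Category.assoc, i1_r, Category.id_comp]; rfl
  w_q := by
    change i1 Φ pb ≫ (eo Φ (B0 R)).q = q ≫ (Points.one (R := R)).left ≫ inv (bm Φ (B0 R))
    rw [← Category.assoc, ← i1_q Φ pb, Category.assoc, Category.assoc, IsIso.hom_inv_id, Category.comp_id]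
  c := (Scheme.Modules.pullbackPushforwardAdjunction (i1 Φ pb)).unit.app (EL Φ)
  cart := K927.ModSt.isCart_unit _ _

theorem m1_r : (m1 Φ pb).top ≫ rL Φ pb = 𝟙 Z := i1_r Φ pb

theorem isCohObj_e1 : ModSt.IsCohObj (e1 Φ pb) := K927.ModSt.isCohObj_of_hom (m1 Φ pb) (Φ.obj (B0 R)).property

theorem m1_base : (m1 Φ pb).base.left ≫ bm Φ (B0 R) = (Points.one (R := R)).left := by
  change ((Points.one (R := R)).left ≫ inv (bm Φ (B0 R))) ≫ bm Φ (B0 R) = _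
  rw [Category.assoc, IsIso.inv_hom_id, Category.comp_id]

/-- The specialisation. -/
noncomputable def σ : M0 Φ pb ⟶ E1 Φ pb := Pm (m1 Φ pb) (m1_r Φ pb) ≫ (Scheme.Modules.pushforwardId Z).hom.app (E1 Φ pb)

theorem i1_X : (i1 Φ pb).appTop (fb Φ (B0 R) (lineFn Polynomial.X)) = 1 := by
  rw [fb_eq]
  have h1 : (i1 Φ pb ≫ qL Φ).appTop (lineFn Polynomial.X) =
    (q ≫ (Points.one (R := R)).left).appTop (lineFn Polynomial.X) := by rw [i1_q]
  rw [Scheme.Hom.comp_appTop, Scheme.Hom.comp_appTop q] at h1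
  refine Eq.trans h1 ?_
  exact (congrArg q.appTop (K881.FwdMain.one_X (R := R))).trans (map_one q.appTop.hom)

theorem X_σ : X0 Φ pb ≫ σ Φ pb = σ Φ pb := by
  rw [X0, σ, mm, ← Category.assoc, sm_Pm (m1 Φ pb) (m1_r Φ pb)]
  have h1 : (m1 Φ pb).top.appTop (fb Φ (B0 R) (lineFn Polynomial.X)) = 1 := i1_X Φ pb
  have h2 := LauGeo.sm_one (e := e1 Φ pb) (𝟙 Z)
  rw [← h1] at h2
  exact congrArg (fun t => t ≫ (Scheme.Modules.pushforwardId Z).hom.app (E1 Φ pb))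
    ((congrArg (fun t => Pm (m1 Φ pb) (m1_r Φ pb) ≫ t) h2).trans (Category.comp_id _))

theorem le_i1 (V : Z.Opens) : V ≤ i1 Φ pb ⁻¹ᵁ (rL Φ pb ⁻¹ᵁ V) := by
  rw [← Scheme.Hom.comp_preimage, i1_r]; exact le_rfl

theorem σ_app (V : Z.Opens) (n : Γ(EL Φ, rL Φ pb ⁻¹ᵁ V)) :
    (σ Φ pb).app V n = secMap (i1 Φ pb) (m1 Φ pb).c (rL Φ pb ⁻¹ᵁ V) V (le_i1 Φ pb V) n :=
  Pm_app (m1 Φ pb) (m1_r Φ pb) V n

theorem isQCoh_EL : Coh.IsQCoh (EL Φ) := isQCoh_eo Φ (B0 R)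

theorem isQCoh_E1 : Coh.IsQCoh (E1 Φ pb) := Groth.Agent.PerfC.FPSections.isQCoh_of_isFP (isCohObj_e1 Φ pb).2

section Aff

variable {V : Z.Opens} (hV : IsAffineOpen V)
include hV

theorem isBC_σ : IsBC ((i1 Φ pb).appLE (rL Φ pb ⁻¹ᵁ V) V (le_i1 Φ pb V)).hom
    (M := Γ(EL Φ, rL Φ pb ⁻¹ᵁ V)) (N := Γ(E1 Φ pb, V)) ((σ Φ pb).app V).hom := by
  have hq : (EL Φ).IsQuasicoherent := isQCoh_EL Φ
  have h1 := isBC_secMap (i1 Φ pb) (m1 Φ pb).c (m1 Φ pb).cart (hV.preimage (rL Φ pb)) hV (le_i1 Φ pb V)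
  have h2 : (secMap (i1 Φ pb) (m1 Φ pb).c (rL Φ pb ⁻¹ᵁ V) V (le_i1 Φ pb V)).hom = ((σ Φ pb).app V).hom := by
    ext n
    exact (σ_app Φ pb V n).symm
  rw [h2] at h1
  exact h1

theorem σ_surj_ker : Function.Surjective ((σ Φ pb).app V).hom ∧
    ∀ n : Γ(EL Φ, rL Φ pb ⁻¹ᵁ V), ((σ Φ pb).app V).hom n = 0 →
      ∃ m : Γ(EL Φ, rL Φ pb ⁻¹ᵁ V), n = xx (qL Φ) (rL Φ pb ⁻¹ᵁ V) • m - m := by
  refine exists_of_isBC (N := Γ(EL Φ, rL Φ pb ⁻¹ᵁ V)) (E := Γ(E1 Φ pb, V))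
    ((rL Φ pb).app V).hom (xx (qL Φ) (rL Φ pb ⁻¹ᵁ V)) (closure_line (isPullback_L Φ pb) hV)
    ((i1 Φ pb).appLE (rL Φ pb ⁻¹ᵁ V) V (le_i1 Φ pb V)).hom ?_ ?_ (isBC_σ Φ pb hV)
  · intro a
    have h1 : (rL Φ pb).app V ≫ (i1 Φ pb).appLE (rL Φ pb ⁻¹ᵁ V) V (le_i1 Φ pb V) = 𝟙 _ := by
      rw [Scheme.Hom.app_eq_appLE, Scheme.Hom.appLE_comp_appLE]
      have key : ∀ (t : Z ⟶ Z) (ht : t = 𝟙 Z) (e : V ≤ t ⁻¹ᵁ V), t.appLE V V e = 𝟙 _ := by
        rintro _ rfl e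
        have h5 : (𝟙 Z : Z ⟶ Z).appLE V V e = (𝟙 Z : Z ⟶ Z).app V := (Scheme.Hom.app_eq_appLE _).symm
        rw [h5]
        exact Scheme.Hom.id_app V
      exact key _ (i1_r Φ pb) _
    exact congr($h1 a)
  · have h2 : (i1 Φ pb).appLE ⊤ V le_top (fb Φ (B0 R) (lineFn Polynomial.X)) =
        resO (le_top : V ≤ ⊤) ((i1 Φ pb).appTop (fb Φ (B0 R) (lineFn Polynomial.X))) := rfl
    have h3 : (i1 Φ pb).appLE (rL Φ pb ⁻¹ᵁ V) V (le_i1 Φ pb V)
        (resO (le_top : rL Φ pb ⁻¹ᵁ V ≤ ⊤) (fb Φ (B0 R) (lineFn Polynomial.X))) =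
        (i1 Φ pb).appLE ⊤ V le_top (fb Φ (B0 R) (lineFn Polynomial.X)) := by
      have h4 := Scheme.Hom.map_appLE (f := i1 Φ pb) (le_i1 Φ pb V) (homOfLE (le_top : rL Φ pb ⁻¹ᵁ V ≤ ⊤)).op
      exact congr($h4 (fb Φ (B0 R) (lineFn Polynomial.X)))
    rw [h2, i1_X, map_one] at h3
    rw [fb_eq] at h3
    exact h3

theorem X_injective (hfl : FlatMod.IsFlatOver (qL Φ) (EL Φ)) : Function.Injective ((X0 Φ pb).app V).hom := by
  intro a b hab
  refine smul_injective (isQCoh_EL Φ) hfl (hV.preimage (rL Φ pb)) ?_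
  have h1 := X0_app Φ pb V a
  have h2 := X0_app Φ pb V b
  exact h1.symm.trans (Eq.trans hab h2)

end Aff

end K881.Flt
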