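import Groth.Agent.ThetaS.K881.Flt

/-!
# Bounds for the filtration attached to a functor out of `Θ_R`
-/

set_option autoImplicit false
set_option backward.isDefEq.respectTransparency false
set_option backward.isDefEq.respectTransparency.types false
set_option linter.style.haveILetI false

universe u

open CategoryTheory CategoryTheory.Limits MonoidalCategory CartesianMonoidalCategory AlgebraicGeometry Opposite
open scoped Polynomial

namespace K881.FltB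

open K943 ThetaS K951.Pts K943.QuotAtlas K943.QuotCover K943.QuotTriv K943.Points K942.Coord K881.ThetaTr
  K881.ThetaCrit K881.LauGeo K881.PhiP K881.Arr K881.LauAlg K881.WtSh K881.LineSec K881.Flt
open Groth.Agent.LoccohB.GlueHom Groth.Agent.CohqA.PullbackUniv Groth.Agent.CohqA.PullbackAffine
  Groth.Agent.CohqA.PullbackSections Groth.Agent.CohqA.BaseChangeMod

attribute [local instance] K951.Pts.algΓ

variable {R : Type u} [CommRing R] {C S : Scheme.{u}} {f : C ⟶ S} {h : Spec (CommRingCat.of R) ⟶ S}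
  (Φ : Theta Kf.{u} R h ⥤ᵇ ModSt.Coh f)
  {Z : Scheme.{u}} {p : Z ⟶ C} {q : Z ⟶ Spec (CommRingCat.of R)} (pb : IsPullback p q f h)

/-- The weight sheaves in the specialisation. -/
noncomputable def ws (i : ℤ) : Wt Φ pb i ⟶ E1 Φ pb := wi Φ pb i ≫ σ Φ pb

theorem wx_ws (i : ℤ) : wx Φ pb i ≫ ws Φ pb (i + 1) = ws Φ pb i := by
  rw [ws, ← Category.assoc, wx_wi, Category.assoc, X_σ, ws]

section Aff

variable {V : Z.Opens} (hV : IsAffineOpen V)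
include hV

theorem smul_mem {i : ℤ} (a : Γ(Z, V)) {n : Γ(EL Φ, rL Φ pb ⁻¹ᵁ V)} (hn : n ∈ W Φ pb V i) :
    (((rL Φ pb).app V).hom a • n : Γ(EL Φ, rL Φ pb ⁻¹ᵁ V)) ∈ W Φ pb V i := smul_mem_W Φ pb a hn

theorem X_smul_mem {i : ℤ} {n : Γ(EL Φ, rL Φ pb ⁻¹ᵁ V)} (hn : n ∈ W Φ pb V i) :
    (xx (qL Φ) (rL Φ pb ⁻¹ᵁ V) • n : Γ(EL Φ, rL Φ pb ⁻¹ᵁ V)) ∈ W Φ pb V (i + 1) := by
  have h1 := X_mem_W Φ pb hn
  rw [X0_app] at h1
  exact h1

theorem ws_injective (hfl : FlatMod.IsFlatOver (qL Φ) (EL Φ)) (i : ℤ) : Function.Injective ((ws Φ pb i).app V) := by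
  have h1 : ∀ y : Γ(Wt Φ pb i, V), (ws Φ pb i).app V y = 0 → y = 0 := by
    intro y hy
    have h2 : (wi Φ pb i).app V y ∈ W Φ pb V i := (mem_W_iff Φ pb V i _).2 ⟨y, rfl⟩
    have h3 := eq_zero_of_mem_ker (W := W Φ pb V) (exists_W Φ pb hV) (W_unique Φ pb hV)
      (x := ((X0 Φ pb).app V).hom) (fun i n hn => X_mem_W Φ pb hn) (X_injective Φ pb hV hfl)
      (σ := ((σ Φ pb).app V).hom) (fun n hn => by
        obtain ⟨m, hm⟩ := (σ_surj_ker Φ pb hV).2 n hn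
        refine ⟨m, ?_⟩
        have h4 := X0_app Φ pb V m
        exact hm.trans (congrArg (fun t => t - m) h4.symm)) h2 hy
    apply wi_injective Φ pb i
    rw [h3, map_zero]
  intro a b hab
  rw [← sub_eq_zero]
  refine h1 _ ?_
  rw [map_sub, hab, sub_self]

end Aff

theorem mono_ws (hfl : FlatMod.IsFlatOver (qL Φ) (EL Φ)) (i : ℤ) : Mono (ws Φ pb i) := by
  refine Groth.Agent.FormalB.FormalLoc.mono_of_cover (isQCoh_Wt Φ pb i) (isQCoh_E1 Φ pb) _ fun x => ?_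
  obtain ⟨V, hV, hx, -⟩ := exists_isAffineOpen_mem_and_subset (U := (⊤ : Z.Opens)) (x := x) trivial
  exact ⟨V, hx, hV, ws_injective Φ pb hV hfl i⟩

theorem exists_lower_bound [CompactSpace Z] : ∃ a : ℤ, ∀ i ≤ a, IsZero (Wt Φ pb i) := by
  have h1 : ∀ V : Z.Opens, IsAffineOpen V → ∃ n : ℕ, ∀ i : ℤ, i ≤ -(n : ℤ) → ∀ y : Γ(Wt Φ pb i, V), y = 0 := by
    intro V hV
    have hfin : Module.Finite Γ(XL Φ, rL Φ pb ⁻¹ᵁ V) Γ(EL Φ, rL Φ pb ⁻¹ᵁ V) :=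
      Groth.Agent.CohqA.FinSec.finite_sections (hV.preimage (rL Φ pb)) (isQCoh_EL Φ)
        (Groth.Agent.Models2.FPCoh.isFT_of_isFP (Φ.obj (B0 R)).property.2)
    obtain ⟨a, ha⟩ := exists_lower (N := Γ(EL Φ, rL Φ pb ⁻¹ᵁ V)) ((rL Φ pb).app V).hom
      (xx (qL Φ) (rL Φ pb ⁻¹ᵁ V)) (closure_line (isPullback_L Φ pb) hV) (W := W Φ pb V) (exists_W Φ pb hV)
      (W_unique Φ pb hV) (fun i a n hn => smul_mem Φ pb hV a hn) (fun i n hn => X_smul_mem Φ pb hV hn) hfin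
    refine ⟨a.natAbs, fun i hi y => ?_⟩
    apply wi_injective Φ pb i
    rw [map_zero]
    exact ha i (by omega) _ ((mem_W_iff Φ pb V i _).2 ⟨y, rfl⟩)
  obtain ⟨n, hn⟩ := Groth.Agent.FormalB.FormalLoc.exists_uniform_cover (X := Z)
    (fun V n => ∀ i : ℤ, i ≤ -(n : ℤ) → ∀ y : Γ(Wt Φ pb i, V), y = 0)
    (fun V m n hmn hm i hi => hm i (by omega)) h1
  refine ⟨-(n : ℤ), fun i hi => ?_⟩
  rw [IsZero.iff_id_eq_zero]
  refine Groth.Agent.FormalB.FormalLoc.eq_zero_of_cover (isQCoh_Wt Φ pb i) (isQCoh_Wt Φ pb i) _ fun x => ?_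
  obtain ⟨V, hx, hV, h2⟩ := hn x
  exact ⟨V, hx, hV, fun m => h2 i hi _⟩

theorem exists_upper_bound [CompactSpace Z] (hfl : FlatMod.IsFlatOver (qL Φ) (EL Φ)) :
    ∃ b : ℤ, ∀ i, b ≤ i → IsIso (ws Φ pb i) := by
  have h1 : ∀ V : Z.Opens, IsAffineOpen V → ∃ n : ℕ, ∀ i : ℤ, (n : ℤ) ≤ i → Function.Surjective ((ws Φ pb i).app V) := by
    intro V hV
    have hfin : Module.Finite Γ(Z, V) Γ(E1 Φ pb, V) :=
      Groth.Agent.CohqA.FinSec.finite_sections hV (isQCoh_E1 Φ pb)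
        (Groth.Agent.Models2.FPCoh.isFT_of_isFP (isCohObj_e1 Φ pb).2)
    obtain ⟨b, hb⟩ := exists_upper (N := Γ(EL Φ, rL Φ pb ⁻¹ᵁ V)) (E := Γ(E1 Φ pb, V)) ((rL Φ pb).app V).hom
      (xx (qL Φ) (rL Φ pb ⁻¹ᵁ V)) (W := W Φ pb V) (exists_W Φ pb hV)
      (fun i a n hn => smul_mem Φ pb hV a hn) (fun i n hn => X_smul_mem Φ pb hV hn)
      ((σ Φ pb).app V).hom (σ_surj_ker Φ pb hV).1
      (fun a n => Scheme.Modules.Hom.app_smul (σ Φ pb) a n)
      (fun n => by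
        have h4 := X0_app Φ pb V n
        rw [← h4]
        exact congr(($(X_σ Φ pb)).app V n)) hfin
    refine ⟨b.natAbs, fun i hi e => ?_⟩
    obtain ⟨n, hn, he⟩ := hb i (by omega) e
    obtain ⟨y, hy⟩ := (mem_W_iff Φ pb V i n).1 hn
    refine ⟨y, ?_⟩
    rw [← he, ← hy]
    rfl
  obtain ⟨n, hn⟩ := Groth.Agent.FormalB.FormalLoc.exists_uniform_cover (X := Z)
    (fun V n => ∀ i : ℤ, (n : ℤ) ≤ i → Function.Surjective ((ws Φ pb i).app V))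
    (fun V m n hmn hm i hi => hm i (by omega)) h1
  refine ⟨(n : ℤ), fun i hi => ?_⟩
  have h2 := mono_ws Φ pb hfl i
  have h3 : Epi (ws Φ pb i) := by
    refine Groth.Agent.FormalB.FormalLoc.epi_of_cover (isQCoh_Wt Φ pb i) (isQCoh_E1 Φ pb) _ fun x => ?_
    obtain ⟨V, hx, hV, h2⟩ := hn x
    exact ⟨V, hx, hV, h2 i hi⟩
  exact isIso_of_mono_of_epi _

section Order

variable (hm : ∀ i, Mono (ws Φ pb i))

/-- The filtration. -/
noncomputable def Fo : ℤ →o Subobject (E1 Φ pb) where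
  toFun i := haveI := hm i; Subobject.mk (ws Φ pb i)
  monotone' := by
    refine monotone_int_of_le_succ fun i => ?_
    haveI := hm i
    haveI := hm (i + 1)
    exact Subobject.mk_le_mk_of_comm (wx Φ pb i) (wx_ws Φ pb i)

/-- The terms of the filtration. -/
noncomputable def Fi (i : ℤ) : Subobject.underlying.obj (Fo Φ pb hm i) ≅ Wt Φ pb i :=
  haveI := hm i
  Subobject.underlyingIso (ws Φ pb i)

theorem Fi_ws (i : ℤ) : (Fi Φ pb hm i).hom ≫ ws Φ pb i = (Fo Φ pb hm i).arrow := by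
  haveI := hm i
  exact Subobject.underlyingIso_hom_comp_eq_mk (ws Φ pb i)

theorem isQCoh_Fo (i : ℤ) : Coh.IsQCoh (Subobject.underlying.obj (Fo Φ pb hm i)) :=
  Groth.Agent.PerfA.QCohSerre.isQCoh_of_iso (Fi Φ pb hm i).symm (isQCoh_Wt Φ pb i)

theorem Fo_eq_bot {i : ℤ} (h0 : IsZero (Wt Φ pb i)) : Fo Φ pb hm i = ⊥ := by
  haveI := hm i
  change Subobject.mk (ws Φ pb i) = ⊥
  rw [Subobject.mk_eq_bot_iff_zero]
  exact h0.eq_of_src _ _

theorem Fo_eq_top {i : ℤ} (h0 : IsIso (ws Φ pb i)) : Fo Φ pb hm i = ⊤ :=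
  Subobject.mk_eq_top_of_isIso (ws Φ pb i)

theorem Fi_wx (i : ℤ) (hle : Fo Φ pb hm i ≤ Fo Φ pb hm (i + 1)) :
    Subobject.ofLE _ _ hle ≫ (Fi Φ pb hm (i + 1)).hom = (Fi Φ pb hm i).hom ≫ wx Φ pb i := by
  haveI := hm (i + 1)
  rw [← cancel_mono (ws Φ pb (i + 1)), Category.assoc, Fi_ws, Subobject.ofLE_arrow, Category.assoc, wx_ws, Fi_ws]

theorem Fi_wx' (i j : ℤ) (e : i + 1 = j) (hle : Fo Φ pb hm i ≤ Fo Φ pb hm j) :
    Subobject.ofLE _ _ hle ≫ (Fi Φ pb hm j).hom ≫ wi Φ pb j = ((Fi Φ pb hm i).hom ≫ wi Φ pb i) ≫ X0 Φ pb := by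
  subst e
  rw [← Category.assoc, Fi_wx, Category.assoc, wx_wi, Category.assoc]

end Order

end K881.FltB
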