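import Groth.Agent.ThetaS.K943.Rings

/-!
# Points of the affine line over a discrete valuation ring
-/

set_option autoImplicit false
set_option backward.isDefEq.respectTransparency false
set_option backward.isDefEq.respectTransparency.types false

universe u

open CategoryTheory AlgebraicGeometry TopologicalSpace Opposite
open scoped Polynomial

namespace K881.Topo

open ThetaS K942.Coord

variable {R : Type u} [CommRing R]

theorem mem_basicOpen_iff (z : (Line R).left) (q : R[X]) :
    z ∈ (Line R).left.basicOpen (lineFn q) ↔ q ∉ (show PrimeSpectrum R[X] from z).asIdeal := by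
  have h : (Line R).left.basicOpen (lineFn q) = PrimeSpectrum.basicOpen q :=
    basicOpen_eq_of_affine (R := CommRingCat.of R[X]) q
  rw [h]
  exact PrimeSpectrum.mem_basicOpen _ _

/-- The zero section. -/
noncomputable def pt0 (R : Type u) [CommRing R] : Spec (CommRingCat.of R) ⟶ (Line R).left :=
  Spec.map (CommRingCat.ofHom (Polynomial.evalRingHom (0 : R)))

theorem pt0_hom : pt0 R ≫ (Line R).hom = 𝟙 _ := by
  change Spec.map (CommRingCat.ofHom (Polynomial.evalRingHom (0 : R))) ≫ Spec.map (CommRingCat.ofHom (algebraMap R R[X])) = _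
  rw [← Spec.map_comp, ← CommRingCat.ofHom_comp]
  have : (Polynomial.evalRingHom (0 : R)).comp (algebraMap R R[X]) = RingHom.id R := by
    ext r; simp
  rw [this, CommRingCat.ofHom_id, Spec.map_id]

theorem pt0_X : (pt0 R).appTop (lineFn Polynomial.X) = 0 := by
  have h := Scheme.ΓSpecIso_inv_naturality (CommRingCat.ofHom (Polynomial.evalRingHom (0 : R)))
  have h2 := congr($h (Polynomial.X : R[X]))
  have h3 : (CommRingCat.ofHom (Polynomial.evalRingHom (0 : R))) (Polynomial.X : R[X]) = 0 := by simp
  change (pt0 R).appTop ((Scheme.ΓSpecIso (CommRingCat.of R[X])).inv Polynomial.X) = 0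
  refine h2.symm.trans ?_
  rw [CategoryTheory.comp_apply, h3, map_zero]

/-- The image of the point of `Spec K` in the zero section. -/
theorem exists_point {K : Type u} [Field K] (φ : R →+* K) : ∃ w : Spec (CommRingCat.of K),
    (show PrimeSpectrum R[X] from (Spec.map (CommRingCat.ofHom φ) ≫ pt0 R) w).asIdeal =
      RingHom.ker (φ.comp (Polynomial.evalRingHom (0 : R))) := by
  refine ⟨(⊥ : PrimeSpectrum K), ?_⟩
  rfl

theorem mem_of_preimage {K : Type u} [Field K] (φ : R →+* K) (U : (Line R).left.Opens)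
    (hU : (Spec.map (CommRingCat.ofHom φ) ≫ pt0 R) ⁻¹ᵁ U = ⊤) (z : (Line R).left)
    (hz : (show PrimeSpectrum R[X] from z).asIdeal = RingHom.ker (φ.comp (Polynomial.evalRingHom (0 : R)))) : z ∈ U := by
  obtain ⟨w, hw⟩ := exists_point φ
  have h1 : w ∈ (Spec.map (CommRingCat.ofHom φ) ≫ pt0 R) ⁻¹ᵁ U := by rw [hU]; trivial
  have h2 : (Spec.map (CommRingCat.ofHom φ) ≫ pt0 R) w = z := by
    apply PrimeSpectrum.ext
    rw [hz]; exact hw
  have h3 : (Spec.map (CommRingCat.ofHom φ) ≫ pt0 R) w ∈ U := h1
  rwa [h2] at h3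

theorem exists_eq_X_mul_add (p : R[X]) : ∃ g, p = Polynomial.X * g + Polynomial.C (p.eval 0) := by
  obtain ⟨g, hg⟩ : Polynomial.X ∣ p - Polynomial.C (Polynomial.eval 0 p) := by
    rw [Polynomial.X_dvd_iff]; simp [Polynomial.coeff_zero_eq_eval_zero]
  exact ⟨g, by rw [← hg]; ring⟩

variable [IsDomain R] [IsDiscreteValuationRing R] {ϖ : R} (hϖ : Irreducible ϖ)

include hϖ in
theorem uline_le {K : Type u} [Field K] [Algebra R K] [IsFractionRing R K] {U : (Line R).left.Opens}
    (h1 : (Line R).left.basicOpen (lineFn Polynomial.X) ≤ U)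
    (h2 : (Spec.map (CommRingCat.ofHom (algebraMap R K)) ≫ pt0 R) ⁻¹ᵁ U = ⊤) : Uline ϖ ≤ U := by
  intro z hz
  by_cases hx : z ∈ (Line R).left.basicOpen (lineFn Polynomial.X)
  · exact h1 hx
  · have hw : z ∈ (Line R).left.basicOpen (lineFn (Polynomial.C ϖ)) := by
      rcases hz with hz | hz
      · exact absurd hz hx
      · exact hz
    rw [mem_basicOpen_iff, not_not] at hx
    rw [mem_basicOpen_iff] at hw
    refine mem_of_preimage (algebraMap R K) U h2 z ?_
    ext p
    rw [RingHom.mem_ker, RingHom.comp_apply, Polynomial.coe_evalRingHom,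
      map_eq_zero_iff _ (IsFractionRing.injective R K)]
    obtain ⟨g, hg⟩ := exists_eq_X_mul_add p
    constructor
    · intro hp
      by_contra h0
      have h3 : Polynomial.C (p.eval 0) ∈ (show PrimeSpectrum R[X] from z).asIdeal := by
        have h4 : Polynomial.C (p.eval 0) = p - Polynomial.X * g := by
          conv_rhs => rw [hg]
          ring
        rw [h4]
        exact Ideal.sub_mem _ hp (Ideal.mul_mem_right _ _ hx)
      obtain ⟨n, u, hu⟩ := IsDiscreteValuationRing.eq_unit_mul_pow_irreducible h0 hϖ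
      have h5 : Polynomial.C (ϖ ^ n) ∈ (show PrimeSpectrum R[X] from z).asIdeal := by
        have h6 : Polynomial.C (ϖ ^ n) = Polynomial.C (↑u⁻¹ : R) * Polynomial.C (p.eval 0) := by
          rw [hu, ← Polynomial.C_mul, ← mul_assoc, Units.inv_mul, one_mul]
        rw [h6]
        exact Ideal.mul_mem_left _ _ h3
      rw [Polynomial.C_pow] at h5
      exact hw ((show PrimeSpectrum R[X] from z).isPrime.mem_of_pow_mem _ h5)
    · intro h0
      rw [hg, h0, Polynomial.C_0, add_zero]
      exact Ideal.mul_mem_right _ _ hx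

include hϖ in
theorem eq_top {U : (Line R).left.Opens} (h1 : Uline ϖ ≤ U)
    (h2 : (Spec.map (CommRingCat.ofHom (IsLocalRing.residue R)) ≫ pt0 R) ⁻¹ᵁ U = ⊤) : U = ⊤ := by
  rw [eq_top_iff]
  intro z _
  by_cases hz : z ∈ Uline ϖ
  · exact h1 hz
  · have hx : z ∉ (Line R).left.basicOpen (lineFn Polynomial.X) := fun h => hz (Or.inl h)
    have hw : z ∉ (Line R).left.basicOpen (lineFn (Polynomial.C ϖ)) := fun h => hz (Or.inr h)
    rw [mem_basicOpen_iff, not_not] at hx hw
    refine mem_of_preimage (IsLocalRing.residue R) U h2 z ?_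
    have h3 := K943.Rings.isMaximal_line hϖ
    have h4 : Ideal.span {(Polynomial.X : R[X]), Polynomial.C ϖ} ≤ (show PrimeSpectrum R[X] from z).asIdeal := by
      rw [Ideal.span_le]
      rintro _ (rfl | rfl)
      · exact hx
      · exact hw
    have h5 : Ideal.span {(Polynomial.X : R[X]), Polynomial.C ϖ} ≤
        RingHom.ker ((IsLocalRing.residue R).comp (Polynomial.evalRingHom (0 : R))) := by
      rw [Ideal.span_le]
      rintro _ (rfl | rfl)
      · change _ = _
        simp
      · change _ = _
        rw [RingHom.comp_apply, Polynomial.coe_evalRingHom, Polynomial.eval_C]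
        rw [IsLocalRing.residue_eq_zero_iff]
        exact (IsLocalRing.mem_maximalIdeal _).2 hϖ.not_isUnit
    rw [← h3.eq_of_le (show PrimeSpectrum R[X] from z).isPrime.ne_top h4]
    exact h3.eq_of_le (RingHom.ker_ne_top _) h5

end K881.Topo
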