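import Groth.Agent.ThetaS.K881.Filt
import Groth.Agent.ThetaS.K881.ThetaTr
import Groth.Agent.ThetaS.K881.ThetaCrit
import Groth.Agent.ThetaS.K881.Topo
import Groth.Agent.ModSt.K927.Fib

/-!
# The Rees object of a filtration and its restrictions
-/

set_option autoImplicit false
set_option backward.isDefEq.respectTransparency false
set_option backward.isDefEq.respectTransparency.types false
set_option linter.style.haveILetI false

universe u

open CategoryTheory CategoryTheory.Limits MonoidalCategory CartesianMonoidalCategory MonObj GrpObj AlgebraicGeometry Opposite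
open scoped Polynomial
open Groth.Agent.LoccohB.HHmap Groth.Agent.CohqA.PullbackUniv

namespace K881.Fwd

open ThetaS K951.Pts K943.QuotAtlas K943.QuotCover K881.Rees K881.ReesObj K881.TransFun K881.ThetaTr K881.Filt
  K881.ThetaCrit K881.Topo K943.FibBase K943.CoverExt K943.LocGlue K943.QuotTriv K943.Points K942.Coord
  K899.OpenCrit

attribute [local instance] K951.Pts.algΓ

section Locus

variable {R : Type u} [CommRing R] {C S : Scheme.{u}} {f : C ⟶ S} {h : Spec (CommRingCat.of R) ⟶ S}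

/-- The functor out of `Θ_R` of an object with a universal family. -/
theorem exists_functor (hst : Stk.IsStack (QuotSh.J Kf.{u} S) (ModSt.Coh f)) (L : LData f h)
    (hL : ModSt.IsCohObj L.obj) : ∃ Φ : Theta Kf.{u} R h ⥤ᵇ ModSt.Coh f, ∃ m : Φ.obj (U0 R) ⟶ (⟨L.obj, hL⟩ : (ModSt.Coh f).obj),
      (ModSt.Coh f).p.IsHomLift (𝟙 ((Over.map h).obj (Line R))) m := by
  haveI := hst.1
  exact exists_fun (trRel Kf.{u} L hL) (fun b => hst.2 _ (cov_mem h b))

theorem exists_U (hst : Stk.IsStack (QuotSh.J Kf.{u} S) (ModSt.Coh f)) {Q : (ModSt.Coh f).obj → Prop}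
    (hQ : HasOpenLocus Q) (L : LData f h) (hL : ModSt.IsCohObj L.obj) (ϖ : R)
    (H : ∀ Φ : Theta Kf.{u} R h ⥤ᵇ ModSt.Coh f, (∀ a, Q (Φ.obj ((thetaIncl Kf.{u} R ϖ h).obj a))) → ∀ b, Q (Φ.obj b)) :
    ∃ U : (Line R).left.Opens, (Uline ϖ ≤ U → U = ⊤) ∧
      (∀ (y : (ModSt.Coh f).obj) (m : y.obj ⟶ L.obj), Q y ↔ m.base.left ⁻¹ᵁ U = ⊤) ∧
      ((one (R := R)).left ⁻¹ᵁ U = ⊤ → (Line R).left.basicOpen (lineFn Polynomial.X) ≤ U) := by
  haveI := hst.1
  obtain ⟨Φ, m0, hm0⟩ := exists_functor hst L hL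
  obtain ⟨U, hU1, hU2, hU3⟩ := exists_locus_theta h hQ Φ
  haveI : IsIso m0 := isIso_of_lift_id (ModSt.Coh f).p (T := (Over.map h).obj (Line R)) m0
  refine ⟨U, fun hle => ?_, fun y m => ?_, fun h1 => ?_⟩
  · obtain ⟨h2, h3⟩ := forall_iff h Φ ϖ hU1
    exact h3.1 (H Φ (h2.2 hle))
  · have h1 := hU2 y (ObjectProperty.homMk m ≫ inv m0)
    rw [h1]
    have h2 : (ModSt.Coh f).p.map (ObjectProperty.homMk m ≫ inv m0 : y ⟶ Φ.obj (U0 R)) ≫ eqToHom (Φ.w_obj (U0 R)) =
        m.base := by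
      have h3 : (ModSt.Coh f).p.map m0 = eqToHom (Φ.w_obj (U0 R)) := by
        have := IsHomLift.fac' (ModSt.Coh f).p (𝟙 ((Over.map h).obj (Line R))) m0
        rw [this, Category.id_comp, eqToHom_trans]
      rw [Functor.map_comp, Functor.map_inv, Category.assoc]
      have h4 : inv ((ModSt.Coh f).p.map m0) ≫ eqToHom (Φ.w_obj (U0 R)) = 𝟙 _ := by
        rw [IsIso.inv_comp_eq, h3]; exact (Category.comp_id _).symm
      rw [h4]
      exact Category.comp_id _
    have key : ∀ (g g' : y.obj.base ⟶ (Over.map h).obj (Line R)), g = g' → (g.left ⁻¹ᵁ U = ⊤ ↔ g'.left ⁻¹ᵁ U = ⊤) := by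
      rintro g _ rfl; rfl
    exact key _ _ h2
  · obtain ⟨g, hg⟩ := exists_line (R := R)
    let b1 : (Theta Kf.{u} R h).obj := uObj Kf.{u} (lineAction R) _ (one (R := R))
    let b2 : (Theta Kf.{u} R h).obj := uObj Kf.{u} (lineAction R) _ (inc (X := Line R) (lineFn Polynomial.X))
    have h2 : Q (Φ.obj b1) := (hU3 b1 (uMap (one (R := R)) (Category.comp_id _))).2 h1
    have h3 : Q (Φ.obj b2) := hQ.of_hom (Φ.map (show b2 ⟶ b1 from uMapG (str _) g hg)) h2
    have h4 := (hU3 b2 (uMap (inc (X := Line R) (lineFn Polynomial.X)) (Category.comp_id _))).1 h3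
    intro z hz
    have h5 : (⟨z, hz⟩ : ((Line R).left.basicOpen (lineFn Polynomial.X) : (Line R).left.Opens)) ∈
      (nbase (K := Kf.{u}) (uMap (K := Kf.{u}) (aX := lineAction R) (inc (X := Line R) (lineFn Polynomial.X))
        (Category.comp_id _))).left ⁻¹ᵁ U := by rw [h4]; trivial
    exact h5

end Locus

section Data

variable {R : Type u} [CommRing R] {C S : Scheme.{u}} {f : C ⟶ S} {h : Spec (CommRingCat.of R) ⟶ S}
  {CR : Scheme.{u}} {p : CR ⟶ C} {q : CR ⟶ Spec (CommRingCat.of R)} (hpb : IsPullback p q f h)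

/-- The Rees data of a sequence. -/
noncomputable def reesData (D : Sys CR) : LData f h where
  XT := pullback q (Line R).hom
  p := pullback.fst _ _ ≫ p
  q := pullback.snd _ _
  pb := (IsPullback.of_hasPullback q (Line R).hom).paste_horiz hpb
  E := ReesExist.G D (pullback.fst q (Line R).hom) ((pullback.snd q (Line R).hom).appTop (lineFn Polynomial.X))
  Z := CR
  pZ := p
  qZ := q
  pbZ := hpb
  π := pullback.fst _ _
  hp := rfl
  hq := pullback.condition
  D := D
  ρ := ReesExist.fam D _ _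
  univ := ReesExist.isRees D _ _

theorem isCohObj_reesData (D : Sys CR) (hm : ∀ n, Mono (D.ι n)) (h0 : FlatMod.IsFlatOver q (D.N 0))
    (hf : ∀ n, FlatMod.IsFlatOver q (cokernel (D.ι n))) (hfp : ∀ n, CohB1.IsFP (D.N n)) (m : ℕ)
    (hi : ∀ n, m ≤ n → IsIso (D.ι n)) : ModSt.IsCohObj (reesData hpb D).obj := by
  have hc := ReesExist.isIso_c D (pullback.fst q (Line R).hom)
    ((pullback.snd q (Line R).hom).appTop (lineFn Polynomial.X)) m hi
  have h1 := ReesExist.isFP_g (pullback.fst q (Line R).hom)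
    ((pullback.snd q (Line R).hom).appTop (lineFn Polynomial.X)) hfp m
  have h2 := ReesExist.isFlatOver_g ((pullback.snd q (Line R).hom).appTop (lineFn Polynomial.X))
    (IsPullback.of_hasPullback q (Line R).hom) hm h0 hf m
  exact ⟨Groth.Agent.Models2.FlatIso.isFlatOver_of_iso _ (@asIso _ _ _ _ _ hc) h2,
    Groth.Agent.Smoothlim.FPMod.isFP_of_iso (@asIso _ _ _ _ _ hc) h1⟩

variable (D : Sys CR)

/-- Arrows to the Rees object from families over a base mapping to `Spec R`. -/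
theorem exists_to_rees {B CB : Scheme.{u}} {y : B ⟶ Spec (CommRingCat.of R)} {iB : CB ⟶ CR} {qB : CB ⟶ B}
    (hB : IsPullback iB qB q y) {bs : B ⟶ S} (hbs : y ≫ h = bs) {pB : CB ⟶ C} (hpB : iB ≫ p = pB)
    (hB' : IsPullback pB qB f (Over.mk bs).hom)
    (t : B ⟶ (Line R).left) (ht : t ≫ (Line R).hom = y) {s : Γ(CR, ⊤)} {M : CR.Modules} {ρ : Fam D (𝟙 CR) s M}
    (hρ : ρ.IsRees) {MB : CB.Modules} (c : M ⟶ (Scheme.Modules.pushforward iB).obj MB) (hc : ModSt.IsCart iB c)
    (hs : iB.appTop s = qB.appTop (t.appTop (lineFn Polynomial.X))) :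
    ∃ m : (⟨Over.mk bs, CB, pB, qB, hB', MB⟩ : ModSt.Obj f) ⟶ (reesData hpb D).obj,
      m.base.left = t := by
  have ht' : t ≫ ((Over.map h).obj (Line R)).hom = (Over.mk bs).hom := by
    change t ≫ (Line R).hom ≫ h = bs
    rw [← Category.assoc, ht, hbs]
  have h1 := (hρ.push_iff c).2 hc
  obtain ⟨m, hm, -⟩ := exists_hom (reesData hpb D).toUniv
    (e := (⟨Over.mk bs, CB, pB, qB, hB', MB⟩ : ModSt.Obj f)) (Over.homMk t ht') iB hpB
    (by
      change iB ≫ q = qB ≫ t ≫ (Line R).hom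
      rw [ht, hB.w])
    ((ρ.push c).cast (Category.comp_id iB) hs) (h1.cast _ _)
  exact ⟨m, by rw [hm]; rfl⟩

end Data

end K881.Fwd
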