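import Groth.Agent.CohqA.BaseChangeMod
import Mathlib.LinearAlgebra.TensorProduct.Basis
import Mathlib.RingTheory.Finiteness.Defs
import Mathlib.Algebra.Algebra.Subalgebra.Basic

/-!
# Base change along a free algebra with a given basis; weights
-/

set_option autoImplicit false
set_option linter.style.haveILetI false

universe u v

open TensorProduct
open Groth.Agent.CohqA.BaseChangeMod

namespace K881.LauAlg

section Free

variable {A B : Type u} [CommRing A] [CommRing B] {ι : Type v} (φ : A →+* B) (b : ι → B)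
  (hb : Function.Bijective (fun c : ι →₀ A => c.sum fun i a => φ a * b i))
  {M N : Type u} [AddCommGroup M] [Module A M] [AddCommGroup N] [Module B N] {m : M →+ N}

include hb in
theorem bijective_sum (h : IsBC φ m) : Function.Bijective (fun c : ι →₀ M => c.sum fun i x => b i • m x) := by
  classical
  letI : Algebra A B := φ.toAlgebra
  letI : Module A N := Module.compHom N φ
  haveI : IsScalarTower A B N := ⟨fun a y n => by
    change (φ a * y) • n = φ a • (y • n)
    rw [mul_smul]⟩
  let m' : M →ₗ[A] N := { m with map_smul' := h.map_smul }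
  have h1 : IsBaseChange B m' := (isBC_iff_isBaseChange m').1 h
  let l : (ι →₀ A) →ₗ[A] B :=
    { toFun := fun c => c.sum fun i a => φ a * b i
      map_add' := fun c c' => Finsupp.sum_add_index' (fun i => by rw [map_zero, zero_mul])
        (fun i a a' => by rw [map_add, add_mul])
      map_smul' := fun r c => by
        rw [Finsupp.sum_smul_index' (fun i => by rw [map_zero, zero_mul]), Finsupp.smul_sum]
        refine Finsupp.sum_congr fun i _ => ?_
        change φ (r * c i) * b i = φ r * (φ (c i) * b i)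
        rw [map_mul, mul_assoc] }
  let ℬ : Module.Basis ι A B := Module.Basis.ofRepr (LinearEquiv.ofBijective l hb).symm
  have hℬ : ∀ i, ℬ i = b i := by
    intro i
    rw [Module.Basis.apply_eq_iff]
    apply (LinearEquiv.ofBijective l hb).injective
    change (LinearEquiv.ofBijective l hb) ((LinearEquiv.ofBijective l hb).symm (b i)) = _
    rw [LinearEquiv.apply_symm_apply]
    change b i = (Finsupp.single i (1 : A)).sum fun i a => φ a * b i
    rw [Finsupp.sum_single_index (by rw [map_zero, zero_mul]), map_one, one_mul]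
  have h2 : (fun c : ι →₀ M => c.sum fun i x => b i • m x) =
      h1.equiv ∘ (TensorProduct.equivFinsuppOfBasisLeft (N := M) ℬ).symm := by
    funext c
    rw [Function.comp_apply, TensorProduct.equivFinsuppOfBasisLeft_symm_apply, Finsupp.sum, Finsupp.sum, map_sum]
    refine Finset.sum_congr rfl fun i _ => ?_
    rw [hℬ, h1.equiv_tmul]
    rfl
  rw [h2]
  exact h1.equiv.bijective.comp (LinearEquiv.bijective _)

end Free

section Weights

variable {N N₁ N₂ : Type u} [AddCommGroup N] [AddCommGroup N₁] [AddCommGroup N₂]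

/-- The elements of weight `i`. -/
def wt (α β : N →+ N₁) (t : ℤ → N₁ →+ N₁) (i : ℤ) : AddSubgroup N := (α - (t i).comp β).ker

theorem mem_wt {α β : N →+ N₁} {t : ℤ → N₁ →+ N₁} {i : ℤ} {n : N} : n ∈ wt α β t i ↔ α n = t i (β n) := by
  rw [wt, AddMonoidHom.mem_ker, AddMonoidHom.sub_apply, sub_eq_zero]
  rfl

/-- The sum. -/
noncomputable def tot (N : Type u) [AddCommGroup N] : (ℤ →₀ N) →+ N := Finsupp.liftAddHom fun _ => AddMonoidHom.id N

theorem tot_apply (c : ℤ →₀ N) : tot N c = c.sum fun _ y => y := rfl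

theorem tot_single (i : ℤ) (n : N) : tot N (Finsupp.single i n) = n := by
  rw [tot_apply, Finsupp.sum_single_index rfl]

theorem tot_mapRange {E : Type u} [AddCommGroup E] (f : N →+ E) (c : ℤ →₀ N) :
    tot E (c.mapRange f (map_zero f)) = f (tot N c) := by
  rw [tot_apply, tot_apply, Finsupp.sum_mapRange_index (fun _ => rfl), Finsupp.sum, Finsupp.sum, map_sum]

variable (α β : N →+ N₁) (t : ℤ → N₁ →+ N₁) (π ν μ : N₁ →+ N₂) (t₁ t₂ : ℤ → N₂ →+ N₂) (ε : N₁ →+ N)

theorem exists_decomp (hβ : Function.Surjective (fun c : ℤ →₀ N => c.sum fun i n => t i (β n)))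
    (hπ : Function.Injective (fun c : ℤ →₀ N₁ => c.sum fun i n => t₁ i (π n)))
    (h1 : ∀ n, μ (β n) = π (β n)) (h2 : ∀ n, μ (α n) = ν (α n)) (h3 : ∀ n, ν (β n) = π (α n))
    (h4 : ∀ i n, μ (t i n) = t₁ i (t₂ i (μ n))) (h5 : ∀ i n, ν (t i n) = t₁ i (ν n))
    (h6 : ∀ i n, π (t i n) = t₂ i (π n)) (h7 : ∀ n, ε (β n) = n) (h8 : ∀ n, ε (α n) = n)
    (h9 : ∀ i n, ε (t i n) = ε n) (n : N) : ∃ c : ℤ →₀ N, (∀ i, c i ∈ wt α β t i) ∧ tot N c = n := by
  obtain ⟨c, hc⟩ := hβ (α n)
  dsimp only at hc
  refine ⟨c, fun i => ?_, ?_⟩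
  · let d : ℤ →₀ N₁ := Finsupp.onFinset c.support (fun i => α (c i) - t i (β (c i))) (fun i hi => by
      rw [Finsupp.mem_support_iff]
      intro h0
      apply hi
      rw [h0, map_zero, map_zero, map_zero, sub_zero])
    have hd : d = 0 := by
      apply hπ
      dsimp only
      rw [Finsupp.sum_zero_index, Finsupp.onFinset_sum _ (fun i => by rw [map_zero, map_zero])]
      simp only [map_sub, Finset.sum_sub_distrib]
      rw [sub_eq_zero]
      have e1 : μ (α n) = ∑ i ∈ c.support, t₁ i (π (t i (β (c i)))) := by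
        rw [← hc, Finsupp.sum, map_sum]
        refine Finset.sum_congr rfl fun i _ => ?_
        rw [h4, h1, h6]
      have e2 : ν (α n) = ∑ i ∈ c.support, t₁ i (π (α (c i))) := by
        rw [← hc, Finsupp.sum, map_sum]
        refine Finset.sum_congr rfl fun i _ => ?_
        rw [h5, h3]
      rw [← e1, ← e2, h2]
    have h10 : d i = 0 := by rw [hd]; rfl
    rw [mem_wt, ← sub_eq_zero]
    exact h10
  · rw [← h8 n, ← hc, tot_apply, Finsupp.sum, Finsupp.sum, map_sum]
    exact Finset.sum_congr rfl fun i _ => by rw [h9, h7]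

variable {α β t}

theorem eq_zero_of_tot (hβ : Function.Injective (fun c : ℤ →₀ N => c.sum fun i n => t i (β n))) {c : ℤ →₀ N}
    (hc : ∀ i, c i ∈ wt α β t i) (h : tot N c = 0) : c = 0 := by
  apply hβ
  dsimp only
  rw [Finsupp.sum_zero_index]
  have : α (tot N c) = c.sum fun i n => t i (β n) := by
    rw [tot_apply, Finsupp.sum, Finsupp.sum, map_sum]
    exact Finset.sum_congr rfl fun i _ => mem_wt.1 (hc i)
  rw [← this, h, map_zero]

end Weights

section Graded

variable {N E : Type u} [AddCommGroup N] [AddCommGroup E] {W : ℤ → AddSubgroup N}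
  (hW : ∀ n, ∃ c : ℤ →₀ N, (∀ i, c i ∈ W i) ∧ tot N c = n)
  (hW' : ∀ c : ℤ →₀ N, (∀ i, c i ∈ W i) → tot N c = 0 → c = 0)

include hW' in
theorem eq_of_tot {c c' : ℤ →₀ N} (hc : ∀ i, c i ∈ W i) (hc' : ∀ i, c' i ∈ W i) (h : tot N c = tot N c') : c = c' := by
  rw [← sub_eq_zero]
  exact hW' _ (fun i => (W i).sub_mem (hc i) (hc' i)) (by rw [map_sub, h, sub_self])

section Ker

variable {x : N →+ N} (hx : ∀ i n, n ∈ W i → x n ∈ W (i + 1)) (hxi : Function.Injective x) {σ : N →+ E}
  (hσ : ∀ n, σ n = 0 → ∃ m, n = x m - m)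

/-- The shift. -/
noncomputable def shift (x : N →+ N) (c : ℤ →₀ N) : ℤ →₀ N :=
  Finsupp.equivMapDomain (Equiv.addRight (1 : ℤ)) (c.mapRange x (map_zero x))

theorem shift_apply (x : N →+ N) (c : ℤ →₀ N) (j : ℤ) : shift x c j = x (c (j - 1)) := by
  rw [shift, Finsupp.equivMapDomain_apply, Finsupp.mapRange_apply]
  rfl

theorem tot_shift (x : N →+ N) (c : ℤ →₀ N) : tot N (shift x c) = x (tot N c) := by
  rw [← tot_mapRange, tot_apply, tot_apply, shift, Finsupp.equivMapDomain_eq_mapDomain,
    Finsupp.sum_mapDomain_index (fun _ => rfl) (fun _ _ _ => rfl)]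

include hW hW' hx hxi hσ in
theorem eq_zero_of_mem_ker {i : ℤ} {n : N} (hn : n ∈ W i) (h : σ n = 0) : n = 0 := by
  classical
  obtain ⟨m, hm⟩ := hσ n h
  obtain ⟨c, hc, rfl⟩ := hW m
  have h1 : shift x c - c = Finsupp.single i n := by
    refine eq_of_tot hW' (fun j => ?_) (fun j => ?_) ?_
    · rw [Finsupp.sub_apply, shift_apply]
      refine (W j).sub_mem ?_ (hc j)
      have := hx (j - 1) _ (hc (j - 1))
      rwa [sub_add_cancel] at this
    · rw [Finsupp.single_apply]
      split_ifs with hij
      · rw [← hij]; exact hn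
      · exact (W j).zero_mem
    · rw [map_sub, tot_shift, tot_single, hm]
  have h2 : ∀ j, x (c (j - 1)) - c j = if i = j then n else 0 := by
    intro j
    rw [← Finsupp.single_apply, ← h1, Finsupp.sub_apply, shift_apply]
  -- bounds of the support
  obtain ⟨L, hL⟩ : ∃ L : ℕ, ∀ j : ℤ, (L : ℤ) ≤ |j| → c j = 0 := by
    refine ⟨(c.support.sup Int.natAbs) + 1, fun j hj => ?_⟩
    by_contra h0
    have h3 : j.natAbs ≤ c.support.sup Int.natAbs := Finset.le_sup (f := Int.natAbs) (Finsupp.mem_support_iff.2 h0)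
    have h4 : |j| = (j.natAbs : ℤ) := Int.abs_eq_natAbs j
    rw [h4] at hj
    omega
  have hup : ∀ j, i ≤ j → c j = 0 := by
    intro j hj
    by_contra h0
    have h3 : ∀ k : ℕ, c (j + k) ≠ 0 := by
      intro k
      induction k with
      | zero => simpa using h0
      | succ k ih =>
        intro h4
        apply ih
        have h5 := h2 (j + (k + 1 : ℕ))
        rw [if_neg (by push_cast; omega), h4, sub_zero] at h5
        have e : j + ((k + 1 : ℕ) : ℤ) - 1 = j + (k : ℤ) := by push_cast; ring
        rw [e] at h5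
        apply hxi
        rw [h5, map_zero]
    refine h3 (L + j.natAbs) (hL _ ?_)
    have : -(j.natAbs : ℤ) ≤ j := by omega
    rw [abs_of_nonneg (by omega)]
    omega
  have hdown : c (i - 1) = 0 := by
    have h3 : ∀ k : ℕ, c (i - 1 - L - i.natAbs + k) = 0 ∨ i - 1 < i - 1 - L - i.natAbs + k := by
      intro k
      induction k with
      | zero =>
        left
        refine hL _ ?_
        rw [abs_of_nonpos (by omega)]
        omega
      | succ k ih =>
        rcases ih with ih | ih
        · by_cases h4 : i - 1 < i - 1 - L - i.natAbs + (k + 1 : ℕ)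
          · exact Or.inr h4
          · left
            have h5 := h2 (i - 1 - L - i.natAbs + (k + 1 : ℕ))
            have e : i - 1 - L - i.natAbs + ((k + 1 : ℕ) : ℤ) - 1 = i - 1 - L - i.natAbs + (k : ℤ) := by push_cast; ring
            rw [if_neg (by omega), e, ih, map_zero, zero_sub, neg_eq_zero] at h5
            exact h5
        · right
          push_cast at ih ⊢
          omega
    rcases h3 (L + i.natAbs) with h4 | h4
    · have e : i - 1 - L - i.natAbs + ((L + i.natAbs : ℕ) : ℤ) = i - 1 := by push_cast; ring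
      rwa [e] at h4
    · push_cast at h4
      omega
  have h3 := h2 i
  rw [if_pos rfl, hdown, map_zero, hup i le_rfl, sub_zero] at h3
  exact h3.symm

end Ker

end Graded

end K881.LauAlg
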