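import Groth.Agent.ThetaS.K881.LauAlg
import Mathlib.RingTheory.Finiteness.Basic

/-!
# Bounds for graded modules over `A[x]`
-/

set_option autoImplicit false
set_option linter.style.haveILetI false

universe u v

namespace K881.LauAlg

section Bounds

variable {A B N E : Type u} [CommRing A] [CommRing B] [AddCommGroup N] [Module B N] [AddCommGroup E] [Module A E]
  (φ : A →+* B) (X : B) (hgen : Subring.closure (Set.range φ ∪ {X}) = ⊤)
  {W : ℤ → AddSubgroup N} (hW : ∀ n, ∃ c : ℤ →₀ N, (∀ i, c i ∈ W i) ∧ tot N c = n)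
  (hW' : ∀ c : ℤ →₀ N, (∀ i, c i ∈ W i) → tot N c = 0 → c = 0)
  (hA : ∀ i (a : A) n, n ∈ W i → φ a • n ∈ W i) (hx : ∀ i n, n ∈ W i → X • n ∈ W (i + 1))

/-- Multiplication. -/
def mulBy (b : B) : N →+ N := DistribSMul.toAddMonoidHom N b

omit [CommRing A] [AddCommGroup E] [Module A E] in
theorem mulBy_apply (b : B) (n : N) : mulBy b n = b • n := rfl

/-- Elements with components in degrees `> a`. -/
def low (W : ℤ → AddSubgroup N) (a : ℤ) : AddSubgroup N where
  carrier := {n | ∃ c : ℤ →₀ N, (∀ i, c i ∈ W i) ∧ (∀ i ≤ a, c i = 0) ∧ tot N c = n}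
  add_mem' := by
    rintro _ _ ⟨c, h1, h2, rfl⟩ ⟨c', h1', h2', rfl⟩
    exact ⟨c + c', fun i => (W i).add_mem (h1 i) (h1' i), fun i hi => by
      rw [Finsupp.add_apply, h2 i hi, h2' i hi, add_zero], map_add _ _ _⟩
  zero_mem' := ⟨0, fun i => (W i).zero_mem, fun i _ => rfl, map_zero _⟩
  neg_mem' := by
    rintro _ ⟨c, h1, h2, rfl⟩
    exact ⟨-c, fun i => (W i).neg_mem (h1 i), fun i hi => by
      rw [Finsupp.neg_apply, h2 i hi, neg_zero], map_neg _ _⟩

theorem low_anti (W : ℤ → AddSubgroup N) {a a' : ℤ} (h : a ≤ a') : low W a' ≤ low W a := by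
  rintro _ ⟨c, h1, h2, rfl⟩
  exact ⟨c, h1, fun i hi => h2 i (hi.trans h), rfl⟩

include hW in
theorem exists_mem_low (n : N) : ∃ a : ℤ, n ∈ low W a := by
  obtain ⟨c, hc, rfl⟩ := hW n
  refine ⟨-((c.support.sup Int.natAbs : ℕ) : ℤ) - 1, c, hc, fun i hi => ?_, rfl⟩
  by_contra h0
  have h3 : i.natAbs ≤ c.support.sup Int.natAbs := Finset.le_sup (f := Int.natAbs) (Finsupp.mem_support_iff.2 h0)
  omega

include hA hx hgen in
theorem smul_mem_low (a : ℤ) (b : B) {n : N} (hn : n ∈ low W a) : b • n ∈ low W a := by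
  have hb : b ∈ Subring.closure (Set.range φ ∪ {X}) := by rw [hgen]; trivial
  induction hb using Subring.closure_induction generalizing n with
  | mem b hb =>
    obtain ⟨c, h1, h2, rfl⟩ := hn
    rcases hb with ⟨a', rfl⟩ | hb
    · refine ⟨c.mapRange (mulBy (φ a')) (map_zero _), fun i => ?_, fun i hi => ?_, ?_⟩
      · rw [Finsupp.mapRange_apply]; exact hA i a' _ (h1 i)
      · rw [Finsupp.mapRange_apply, h2 i hi, map_zero]
      · rw [tot_mapRange]; rfl
    · rw [Set.mem_singleton_iff] at hb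
      subst hb
      refine ⟨shift (mulBy b) c, fun i => ?_, fun i hi => ?_, ?_⟩
      · rw [shift_apply]
        have := hx (i - 1) _ (h1 (i - 1))
        rwa [sub_add_cancel] at this
      · rw [shift_apply, h2 (i - 1) (by omega), map_zero]
      · rw [tot_shift]; rfl
  | zero => rw [zero_smul]; exact (low W a).zero_mem
  | one => rw [one_smul]; exact hn
  | add b b' _ _ h1 h2 => rw [add_smul]; exact (low W a).add_mem (h1 hn) (h2 hn)
  | neg b _ h1 => rw [neg_smul]; exact (low W a).neg_mem (h1 hn)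
  | mul b b' _ _ h1 h2 => rw [mul_smul]; exact h1 (h2 hn)

include hW hW' hA hx hgen in
theorem exists_lower (hfin : Module.Finite B N) : ∃ a : ℤ, ∀ i ≤ a, ∀ n ∈ W i, n = 0 := by
  classical
  obtain ⟨S, hS⟩ := hfin
  choose d hd using exists_mem_low hW
  obtain ⟨a, ha⟩ : ∃ a : ℤ, ∀ s ∈ S, a ≤ d s :=
    ⟨-((S.sup fun s => (d s).natAbs : ℕ) : ℤ), fun s hs => by
      have h3 : (d s).natAbs ≤ S.sup fun s => (d s).natAbs := Finset.le_sup (f := fun s => (d s).natAbs) hs
      omega⟩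
  let L : Submodule B N := { low W a with smul_mem' := fun b n hn => smul_mem_low φ X hgen hA hx a b hn }
  have hL : L = ⊤ := by
    rw [eq_top_iff, ← hS, Submodule.span_le]
    intro s hs
    exact low_anti W (ha s hs) (hd s)
  refine ⟨a, fun i hi n hn => ?_⟩
  have h1 : n ∈ L := by rw [hL]; trivial
  obtain ⟨c, h2, h3, h4⟩ := h1
  have h5 : c = Finsupp.single i n := by
    refine eq_of_tot hW' h2 (fun j => ?_) ?_
    · rw [Finsupp.single_apply]
      split_ifs with hij
      · rw [← hij]; exact hn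
      · exact (W j).zero_mem
    · rw [h4, tot_single]
  have h6 := h3 i hi
  rwa [h5, Finsupp.single_eq_same] at h6

include hW hA hx in
theorem exists_upper (σ : N →+ E) (hs : Function.Surjective σ) (hσA : ∀ (a : A) n, σ (φ a • n) = a • σ n)
    (hσx : ∀ n, σ (X • n) = σ n) (hfin : Module.Finite A E) :
    ∃ b : ℤ, ∀ i, b ≤ i → ∀ e, ∃ n ∈ W i, σ n = e := by
  classical
  obtain ⟨S, hS⟩ := hfin
  let L : ℤ → Submodule A E := fun i =>
    { (W i).map σ with
      smul_mem' := by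
        rintro a _ ⟨n, hn, rfl⟩
        exact ⟨φ a • n, hA i a n hn, hσA a n⟩ }
  have hmono : ∀ i, L i ≤ L (i + 1) := by
    rintro i _ ⟨n, hn, rfl⟩
    exact ⟨X • n, hx i n hn, hσx n⟩
  have hmono' : ∀ i j, i ≤ j → L i ≤ L j := fun i j h => monotone_int_of_le_succ hmono h
  have key : ∀ e : E, ∃ d : ℤ, e ∈ L d := by
    intro e
    obtain ⟨n, rfl⟩ := hs e
    obtain ⟨c, hc, rfl⟩ := hW n
    refine ⟨((c.support.sup Int.natAbs : ℕ) : ℤ), ?_⟩
    rw [tot_apply, Finsupp.sum, map_sum]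
    refine Submodule.sum_mem _ fun j hj => ?_
    have h3 : j.natAbs ≤ c.support.sup Int.natAbs := Finset.le_sup (f := Int.natAbs) hj
    exact hmono' j _ (by omega) ⟨_, hc j, rfl⟩
  choose d hd using key
  obtain ⟨b, hb⟩ : ∃ b : ℤ, ∀ s ∈ S, d s ≤ b :=
    ⟨((S.sup fun s => (d s).natAbs : ℕ) : ℤ), fun s hs => by
      have h3 : (d s).natAbs ≤ S.sup fun s => (d s).natAbs := Finset.le_sup (f := fun s => (d s).natAbs) hs
      omega⟩
  refine ⟨b, fun i hi e => ?_⟩
  have h1 : L i = ⊤ := by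
    rw [eq_top_iff, ← hS, Submodule.span_le]
    intro s hs
    exact hmono' _ _ ((hb s hs).trans hi) (hd s)
  have h2 : e ∈ L i := by rw [h1]; trivial
  obtain ⟨n, hn, he⟩ := h2
  exact ⟨n, hn, he⟩

end Bounds

section Kernel

/-- The kernel of the specialisation `x = 1`. -/
theorem exists_of_ev {A B : Type u} [CommRing A] [CommRing B] (φ : A →+* B) (X : B)
    (hgen : Subring.closure (Set.range φ ∪ {X}) = ⊤) (ev : B →+* A) (hev : ∀ a, ev (φ a) = a) (hX : ev X = 1) (b : B) :
    ∃ b', b - φ (ev b) = (X - 1) * b' := by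
  have hb : b ∈ Subring.closure (Set.range φ ∪ {X}) := by rw [hgen]; trivial
  induction hb using Subring.closure_induction with
  | mem b hb =>
    rcases hb with ⟨a', rfl⟩ | hb
    · exact ⟨0, by rw [hev, sub_self, mul_zero]⟩
    · rw [Set.mem_singleton_iff] at hb
      subst hb
      exact ⟨1, by rw [hX, map_one, mul_one]⟩
  | zero => exact ⟨0, by rw [map_zero, map_zero, sub_self, mul_zero]⟩
  | one => exact ⟨0, by rw [map_one, map_one, sub_self, mul_zero]⟩
  | add b b' _ _ h1 h2 =>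
    obtain ⟨c, hc⟩ := h1
    obtain ⟨c', hc'⟩ := h2
    exact ⟨c + c', by rw [map_add, map_add, mul_add, ← hc, ← hc']; ring⟩
  | neg b _ h1 =>
    obtain ⟨c, hc⟩ := h1
    exact ⟨-c, by rw [map_neg, map_neg, mul_neg, ← hc]; ring⟩
  | mul b b' _ _ h1 h2 =>
    obtain ⟨c, hc⟩ := h1
    obtain ⟨c', hc'⟩ := h2
    refine ⟨b * c' + φ (ev b') * c, ?_⟩
    rw [map_mul, map_mul]
    calc b * b' - φ (ev b) * φ (ev b') = b * (b' - φ (ev b')) + φ (ev b') * (b - φ (ev b)) := by ring
      _ = _ := by rw [hc, hc']; ring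

open Groth.Agent.CohqA.BaseChangeMod in
/-- The kernel of a base change along a split surjection. -/
theorem exists_of_isBC {A B : Type u} [CommRing A] [CommRing B] (φ : A →+* B) (X : B)
    (hgen : Subring.closure (Set.range φ ∪ {X}) = ⊤) (ev : B →+* A) (hev : ∀ a, ev (φ a) = a) (hX : ev X = 1)
    {N E : Type u} [AddCommGroup N] [Module B N] [AddCommGroup E] [Module A E] {σ : N →+ E} (h : IsBC ev σ) :
    Function.Surjective σ ∧ ∀ n, σ n = 0 → ∃ m, n = X • m - m := by
  let I : Submodule B N := Submodule.map (LinearMap.lsmul B N (X - 1)) ⊤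
  letI : Module A (N ⧸ I) := Module.compHom _ φ
  have hsm : ∀ (b : B) (n : N), I.mkQ (b • n) = ev b • I.mkQ n := by
    intro b n
    obtain ⟨b', hb'⟩ := exists_of_ev φ X hgen ev hev hX b
    change _ = φ (ev b) • I.mkQ n
    rw [← map_smul, ← sub_eq_zero, ← map_sub, ← sub_smul, hb', Submodule.mkQ_apply, Submodule.Quotient.mk_eq_zero]
    exact ⟨b' • n, trivial, by rw [LinearMap.lsmul_apply, mul_smul]⟩
  obtain ⟨g, hg, -⟩ := h.lift (N ⧸ I) I.mkQ.toAddMonoidHom hsm
  constructor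
  · -- the range is a submodule
    let L : Submodule A E :=
      { σ.range with
        smul_mem' := by
          rintro a _ ⟨n, rfl⟩
          exact ⟨φ a • n, by rw [h.map_smul, hev]⟩ }
    have h1 : L.mkQ = 0 := h.hom_ext fun n => by
      rw [Submodule.mkQ_apply, LinearMap.zero_apply, Submodule.Quotient.mk_eq_zero]
      exact ⟨n, rfl⟩
    intro e
    have h2 : L.mkQ e = 0 := by rw [h1]; rfl
    rw [Submodule.mkQ_apply, Submodule.Quotient.mk_eq_zero] at h2
    obtain ⟨n, hn⟩ := h2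
    exact ⟨n, hn⟩
  · intro n hn
    have h1 : I.mkQ n = 0 := by
      have := hg n
      rw [hn, map_zero] at this
      exact this.symm
    rw [Submodule.mkQ_apply, Submodule.Quotient.mk_eq_zero] at h1
    obtain ⟨m, -, hm⟩ := h1
    refine ⟨m, ?_⟩
    rw [← hm, LinearMap.lsmul_apply, sub_smul, one_smul]

end Kernel

end K881.LauAlg
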