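import Groth.Agent.CohqA.PullbackQCoh
import Groth.Agent.LoccohB.HHmap
import Groth.Prelude.Def_ModSt

/-!
# Universal compatible families over a sequence of modules (Rees modules)

`D : Sys Z` a sequence `N 0 ⟶ N 1 ⟶ …` of modules on `Z`, `r : Y ⟶ Z`, `s` a function on `Y`, `G` a module on `Y`.
`Fam D r s G` : families `ρ n : N n ⟶ r_* G` with `ι n ≫ ρ (n + 1) = s ρ n`.  `IsRees ρ` : `ρ` is universal.
-/

set_option autoImplicit false
set_option backward.isDefEq.respectTransparency false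
set_option backward.isDefEq.respectTransparency.types false

universe u

open CategoryTheory CategoryTheory.Limits AlgebraicGeometry Opposite
open Groth.Agent.LoccohB.HHmap Groth.Agent.LoccohB.GlueHom Groth.Agent.CohqA.PullbackUniv

namespace K881.Rees

section Smul

variable {X Y : Scheme.{u}}

theorem hom_ext {M N : X.Modules} {φ ψ : M ⟶ N} (h : ∀ (U : X.Opens) (x : Γ(M, U)), φ.app U x = ψ.app U x) : φ = ψ :=
  Scheme.Modules.hom_ext _ _ fun U => by ext x; exact h U x

theorem smulHom_mul (F : X.Modules) (r s : Γ(X, ⊤)) : smulHom F (r * s) = smulHom F s ≫ smulHom F r := by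
  refine hom_ext fun U x => ?_
  change resO (le_top : U ≤ ⊤) (r * s) • x = resO (le_top : U ≤ ⊤) r • (resO (le_top : U ≤ ⊤) s • x)
  rw [map_mul, mul_smul]

theorem smulHom_one (F : X.Modules) : smulHom F 1 = 𝟙 F := by
  refine hom_ext fun U x => ?_
  change resO (le_top : U ≤ ⊤) 1 • x = x
  rw [map_one, one_smul]

theorem smulHom_add (F : X.Modules) (r s : Γ(X, ⊤)) : smulHom F (r + s) = smulHom F r + smulHom F s := by
  refine hom_ext fun U x => ?_
  change resO (le_top : U ≤ ⊤) (r + s) • x = resO (le_top : U ≤ ⊤) r • x + resO (le_top : U ≤ ⊤) s • x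
  rw [_root_.map_add, add_smul]

theorem smulHom_zero (F : X.Modules) : smulHom F (0 : Γ(X, ⊤)) = 0 := by
  refine hom_ext fun U x => ?_
  change resO (le_top : U ≤ ⊤) 0 • x = 0
  rw [map_zero, zero_smul]

/-- Multiplication by a pulled back function on a push-forward. -/
theorem map_smulHom (w : Y ⟶ X) (G : Y.Modules) (s : Γ(X, ⊤)) :
    (Scheme.Modules.pushforward w).map (smulHom G (w.appTop s)) = smulHom ((Scheme.Modules.pushforward w).obj G) s := by
  refine hom_ext fun U x => ?_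
  change resO (le_top : w ⁻¹ᵁ U ≤ ⊤) (w.appTop s) • (show Γ(G, w ⁻¹ᵁ U) from x) =
    (w.app U (resO (le_top : U ≤ ⊤) s)) • (show Γ(G, w ⁻¹ᵁ U) from x)
  congr 1
  exact (congr($(w.naturality (homOfLE (le_top : U ≤ ⊤)).op) s)).symm

theorem smulHom_pow_succ (F : X.Modules) (r : Γ(X, ⊤)) (n : ℕ) :
    smulHom F (r ^ (n + 1)) = smulHom F (r ^ n) ≫ smulHom F r := by
  rw [pow_succ', smulHom_mul]

end Smul

/-- A sequence of modules. -/
structure Sys (Z : Scheme.{u}) where
  /-- the modules -/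
  N : ℕ → Z.Modules
  /-- the maps -/
  ι : ∀ n, N n ⟶ N (n + 1)

variable {Z Y Y' : Scheme.{u}}

/-- Compatible families. -/
@[ext]
structure Fam (D : Sys Z) (r : Y ⟶ Z) (s : Γ(Y, ⊤)) (G : Y.Modules) where
  /-- the maps -/
  ρ : ∀ n, D.N n ⟶ (Scheme.Modules.pushforward r).obj G
  comm : ∀ n, D.ι n ≫ ρ (n + 1) = ρ n ≫ (Scheme.Modules.pushforward r).map (smulHom G s)

namespace Fam

variable {D : Sys Z} {r : Y ⟶ Z} {s : Γ(Y, ⊤)} {G G' G'' : Y.Modules}

/-- Composition with a morphism. -/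
noncomputable def map (ρ : Fam D r s G) (v : G ⟶ G') : Fam D r s G' where
  ρ n := ρ.ρ n ≫ (Scheme.Modules.pushforward r).map v
  comm n := by
    rw [← Category.assoc, ρ.comm, Category.assoc, Category.assoc, ← Functor.map_comp, ← Functor.map_comp, smulHom_comp]

theorem map_ρ (ρ : Fam D r s G) (v : G ⟶ G') (n : ℕ) : (ρ.map v).ρ n = ρ.ρ n ≫ (Scheme.Modules.pushforward r).map v := rfl

theorem map_id (ρ : Fam D r s G) : ρ.map (𝟙 G) = ρ := by
  ext n : 2
  rw [map_ρ, CategoryTheory.Functor.map_id, Category.comp_id]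

theorem map_map (ρ : Fam D r s G) (v : G ⟶ G') (w : G' ⟶ G'') : (ρ.map v).map w = ρ.map (v ≫ w) := by
  ext n : 2
  rw [map_ρ, map_ρ, map_ρ, Functor.map_comp, Category.assoc]

/-- Push-forward along a comparison map. -/
noncomputable def push (ρ : Fam D r s G) {w : Y' ⟶ Y} {E : Y'.Modules} (c : G ⟶ (Scheme.Modules.pushforward w).obj E) :
    Fam D (w ≫ r) (w.appTop s) E where
  ρ n := compMap (ρ.ρ n) c
  comm n := by
    rw [compMap_comp, map_smulHom, ← smulHom_comp, compMap, compMap, ← Category.assoc, ρ.comm]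
    simp only [Functor.map_comp, Category.assoc]

theorem push_ρ (ρ : Fam D r s G) {w : Y' ⟶ Y} {E : Y'.Modules} (c : G ⟶ (Scheme.Modules.pushforward w).obj E) (n : ℕ) :
    (ρ.push c).ρ n = compMap (ρ.ρ n) c := rfl

theorem push_map (ρ : Fam D r s G) {w : Y' ⟶ Y} {E E' : Y'.Modules} (c : G ⟶ (Scheme.Modules.pushforward w).obj E)
    (v : E ⟶ E') : (ρ.push c).map v = ρ.push (c ≫ (Scheme.Modules.pushforward w).map v) := by
  ext n : 2
  rw [map_ρ, push_ρ, push_ρ, compMap_comp]

/-- Transport along equalities. -/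
noncomputable def cast (ρ : Fam D r s G) {r' : Y ⟶ Z} {s' : Γ(Y, ⊤)} (hr : r = r') (hs : s = s') : Fam D r' s' G where
  ρ n := ρ.ρ n ≫ (Scheme.Modules.pushforwardCongr hr).hom.app G
  comm n := by
    subst hr hs
    rw [← Category.assoc, ρ.comm, Category.assoc, Category.assoc]
    congr 1
    exact (Scheme.Modules.pushforwardCongr rfl).hom.naturality _

/-- The underlying functions on sections. -/
theorem cast_app (ρ : Fam D r s G) {r' : Y ⟶ Z} {s' : Γ(Y, ⊤)} (hr : r = r') (hs : s = s') (n : ℕ) (U : Z.Opens)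
    (x : Γ(D.N n, U)) : HEq (((ρ.cast hr hs).ρ n).app U x) ((ρ.ρ n).app U x) := by
  subst hr hs
  apply heq_of_eq
  simp [cast]

theorem cast_rfl (ρ : Fam D r s G) : ρ.cast rfl rfl = ρ := by
  ext n : 2
  refine hom_ext fun U x => ?_
  exact eq_of_heq (ρ.cast_app rfl rfl n U x)

/-- Scaling by a unit. -/
noncomputable def scale (ρ : Fam D r s G) (l : Γ(Y, ⊤)) : Fam D r (l * s) G where
  ρ n := ρ.ρ n ≫ (Scheme.Modules.pushforward r).map (smulHom G (l ^ n))
  comm n := by
    rw [← Category.assoc, ρ.comm, Category.assoc, Category.assoc, ← Functor.map_comp, ← Functor.map_comp,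
      ← smulHom_mul, ← smulHom_mul]
    congr 3
    ring

theorem scale_ρ (ρ : Fam D r s G) (l : Γ(Y, ⊤)) (n : ℕ) :
    (ρ.scale l).ρ n = ρ.ρ n ≫ (Scheme.Modules.pushforward r).map (smulHom G (l ^ n)) := rfl

theorem scale_map (ρ : Fam D r s G) (l : Γ(Y, ⊤)) (v : G ⟶ G') : (ρ.scale l).map v = (ρ.map v).scale l := by
  ext n : 2
  rw [map_ρ, scale_ρ, scale_ρ, map_ρ, Category.assoc, Category.assoc, ← Functor.map_comp, ← Functor.map_comp,
    smulHom_comp]

theorem scale_one (ρ : Fam D r s G) : (ρ.scale 1).cast rfl (one_mul s) = ρ := by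
  have key : ∀ (t : Γ(Y, ⊤)) (ht : 1 * s = t) (n : ℕ), ((ρ.scale 1).cast rfl ht).ρ n = ρ.ρ n := by
    rintro t rfl n
    rw [cast_rfl, scale_ρ, one_pow, smulHom_one, CategoryTheory.Functor.map_id, Category.comp_id]
  ext n : 2
  exact key s (one_mul s) n

theorem scale_scale (ρ : Fam D r s G) (l l' : Γ(Y, ⊤)) :
    (ρ.scale l).scale l' = (ρ.scale (l' * l)).cast rfl (by rw [mul_assoc]) := by
  have key : ∀ (t : Γ(Y, ⊤)) (ht : l' * l * s = t) (n : ℕ), ((ρ.scale (l' * l)).cast rfl ht).ρ n =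
      (ρ.scale l).ρ n ≫ (Scheme.Modules.pushforward r).map (smulHom G (l' ^ n)) := by
    rintro t rfl n
    rw [cast_rfl, scale_ρ, scale_ρ, Category.assoc, ← Functor.map_comp, ← smulHom_mul, mul_pow]
  ext n : 2
  exact (key _ (by rw [mul_assoc]) n).symm

/-- A family is universal. -/
def IsRees (ρ : Fam D r s G) : Prop := ∀ G' : Y.Modules, Function.Bijective (fun v : G ⟶ G' => ρ.map v)

theorem IsRees.cast {ρ : Fam D r s G} (h : ρ.IsRees) {r' : Y ⟶ Z} {s' : Γ(Y, ⊤)} (hr : r = r') (hs : s = s') :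
    (ρ.cast hr hs).IsRees := by
  subst hr hs
  rwa [cast_rfl]

/-- Families with values in a push-forward. -/
theorem push_bijective (w : Y' ⟶ Y) (E : Y'.Modules) :
    Function.Bijective (fun ρ : Fam D r s ((Scheme.Modules.pushforward w).obj E) =>
      ρ.push (w := w) (E := E) (𝟙 _)) := by
  have h1 : ∀ (ρ : Fam D r s ((Scheme.Modules.pushforward w).obj E)) (n : ℕ),
      (ρ.push (w := w) (E := E) (𝟙 _)).ρ n = ρ.ρ n ≫ (Scheme.Modules.pushforwardComp w r).hom.app E := by
    intro ρ n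
    rw [push_ρ, compMap, CategoryTheory.Functor.map_id, Category.id_comp]
  constructor
  · intro ρ ρ' h
    ext n : 2
    have h2 := congrArg (fun t => t.ρ n) h
    dsimp only at h2
    rw [h1, h1, cancel_mono] at h2
    exact h2
  · intro σ
    refine ⟨⟨fun n => σ.ρ n ≫ (Scheme.Modules.pushforwardComp w r).inv.app E, fun n => ?_⟩, ?_⟩
    · rw [← Category.assoc, σ.comm, Category.assoc, Category.assoc]
      congr 1
      rw [← map_smulHom w E s]
      exact (Scheme.Modules.pushforwardComp w r).inv.naturality _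
    · ext n : 2
      dsimp only
      rw [h1]
      simp

theorem push_eq (ρ : Fam D r s G) {w : Y' ⟶ Y} {E : Y'.Modules} (c : G ⟶ (Scheme.Modules.pushforward w).obj E) :
    ρ.push c = (ρ.map c).push (𝟙 _) := by
  ext n : 2
  rw [push_ρ, push_ρ, map_ρ, compMap, compMap]
  simp

/-- Base change of universal families: the comparison maps out of a universal family which are cartesian are exactly
the ones for which the pushed forward family is universal. -/
theorem IsRees.push_iff {ρ : Fam D r s G} (h : ρ.IsRees) {w : Y' ⟶ Y} {E : Y'.Modules}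
    (c : G ⟶ (Scheme.Modules.pushforward w).obj E) : (ρ.push c).IsRees ↔ ModSt.IsCart w c := by
  have key : ∀ E' : Y'.Modules, (fun v : E ⟶ E' => (ρ.push c).map v) =
      (fun σ : Fam D r s ((Scheme.Modules.pushforward w).obj E') => σ.push (w := w) (E := E') (𝟙 _)) ∘
        (fun t : G ⟶ (Scheme.Modules.pushforward w).obj E' => ρ.map t) ∘
        (fun v : E ⟶ E' => c ≫ (Scheme.Modules.pushforward w).map v) := by
    intro E'
    funext v
    change (ρ.push c).map v = (ρ.map (c ≫ (Scheme.Modules.pushforward w).map v)).push (𝟙 _)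
    rw [push_map, push_eq]
  refine forall_congr' fun E' => ?_
  rw [key]
  rw [Function.Bijective.of_comp_iff' (push_bijective w E'), Function.Bijective.of_comp_iff' (h _)]

/-- Scaling a universal family by a unit. -/
theorem IsRees.scale {ρ : Fam D r s G} (h : ρ.IsRees) (l : (Γ(Y, ⊤))ˣ) : (ρ.scale (l : Γ(Y, ⊤))).IsRees := by
  intro G'
  have h0 : ∀ σ : Fam D r ((l : Γ(Y, ⊤)) * s) G', ((σ.scale ((l⁻¹ : (Γ(Y, ⊤))ˣ) : Γ(Y, ⊤))).cast rfl
      (by rw [← mul_assoc, Units.inv_mul, one_mul]) : Fam D r s G').scale (l : Γ(Y, ⊤)) = σ := by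
    intro σ
    have key : ∀ (t : Γ(Y, ⊤)) (ht : ((l⁻¹ : (Γ(Y, ⊤))ˣ) : Γ(Y, ⊤)) * (l * s) = t) (n : ℕ),
        (((σ.scale ((l⁻¹ : (Γ(Y, ⊤))ˣ) : Γ(Y, ⊤))).cast rfl ht : Fam D r t G').scale (l : Γ(Y, ⊤))).ρ n = σ.ρ n := by
      rintro t rfl n
      rw [cast_rfl, scale_ρ, scale_ρ, Category.assoc, ← Functor.map_comp, ← smulHom_mul, ← mul_pow, Units.mul_inv,
        one_pow, smulHom_one, CategoryTheory.Functor.map_id, Category.comp_id]
    ext n : 2
    exact key s _ n
  constructor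
  · intro v v' e
    apply (h G').1
    dsimp only at e
    rw [scale_map, scale_map] at e
    have h1 : ∀ n, (ρ.map v).ρ n = (ρ.map v').ρ n := by
      intro n
      have h2 : ((ρ.map v).scale (l : Γ(Y, ⊤))).ρ n = ((ρ.map v').scale (l : Γ(Y, ⊤))).ρ n := congrArg (fun t => t.ρ n) e
      rw [scale_ρ, scale_ρ] at h2
      have h3 := congrArg (fun t => t ≫ (Scheme.Modules.pushforward r).map
        (smulHom G' (((l⁻¹ : (Γ(Y, ⊤))ˣ) : Γ(Y, ⊤)) ^ n))) h2
      rw [Category.assoc, Category.assoc, ← Functor.map_comp, ← smulHom_mul, ← mul_pow, Units.inv_mul,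
        one_pow, smulHom_one, CategoryTheory.Functor.map_id, Category.comp_id, Category.comp_id] at h3
      exact h3
    ext n : 2
    exact h1 n
  · intro σ
    obtain ⟨v, hv⟩ := (h G').2 ((σ.scale ((l⁻¹ : (Γ(Y, ⊤))ˣ) : Γ(Y, ⊤))).cast rfl
      (by rw [← mul_assoc, Units.inv_mul, one_mul]))
    refine ⟨v, ?_⟩
    dsimp only at hv ⊢
    rw [scale_map, hv, h0]

/-- Universal families are unique up to isomorphism. -/
theorem IsRees.exists_iso {ρ : Fam D r s G} (h : ρ.IsRees) {ρ' : Fam D r s G'} (h' : ρ'.IsRees) :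
    ∃ e : G ≅ G', ρ.map e.hom = ρ' := by
  obtain ⟨v, hv⟩ := (h G').2 ρ'
  obtain ⟨w, hw⟩ := (h' G).2 ρ
  dsimp only at hv hw
  refine ⟨⟨v, w, (h G).1 ?_, (h' G').1 ?_⟩, hv⟩
  · dsimp only
    rw [← map_map, hv, hw, map_id]
  · dsimp only
    rw [← map_map, hw, hv, map_id]

theorem IsRees.of_iso {ρ : Fam D r s G} (h : ρ.IsRees) (e : G ≅ G') : (ρ.map e.hom).IsRees := by
  intro H
  have : (fun v : G' ⟶ H => (ρ.map e.hom).map v) = (fun v : G ⟶ H => ρ.map v) ∘ (e.homCongr (Iso.refl H)).symm := by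
    funext v
    simp [map_map, Iso.homCongr]
  rw [this]
  exact (h H).comp (Equiv.bijective _)

end Fam

end K881.Rees
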