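import Groth.Agent.ThetaS.K881.LauBd
import Groth.Agent.ThetaS.K881.Rees
import Groth.Agent.CohqA.AffineBaseChange
import Groth.Agent.ModSt.K927.Fib
import Groth.Prelude.Def_GmAct

/-!
# Sections of a module pulled back to a product with `G_m`
-/

set_option autoImplicit false
set_option backward.isDefEq.respectTransparency false
set_option backward.isDefEq.respectTransparency.types false
set_option linter.style.haveILetI false

universe u

open CategoryTheory CategoryTheory.Limits AlgebraicGeometry Opposite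
open Groth.Agent.LoccohB.HHmap (smulHom smulHom_comp)
open Groth.Agent.LoccohB.GlueHom Groth.Agent.CohqA.PullbackUniv Groth.Agent.CohqA.PullbackAffine Groth.Agent.CohqA.PullbackSections Groth.Agent.CohqA.BaseChangeMod

namespace K881.LauGeo

open K881.Rees K881.LauAlg ThetaS

section Psh

variable {C S Z : Scheme.{u}} {f : C ⟶ S}

/-- The push-forward of the module of an object. -/
noncomputable abbrev P (e : ModSt.Obj f) (r : e.XT ⟶ Z) : Z.Modules := (Scheme.Modules.pushforward r).obj e.E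

/-- The map of push-forwards attached to an arrow. -/
noncomputable def Pm {e e' : ModSt.Obj f} (m : e' ⟶ e) {r : e.XT ⟶ Z} {r' : e'.XT ⟶ Z} (h : m.top ≫ r = r') :
    P e r ⟶ P e' r' :=
  (Scheme.Modules.pushforward r).map m.c ≫ (Scheme.Modules.pushforwardComp m.top r).hom.app e'.E ≫
    (Scheme.Modules.pushforwardCongr h).hom.app e'.E

/-- Multiplication by a function. -/
noncomputable abbrev sm (e : ModSt.Obj f) (r : e.XT ⟶ Z) (s : Γ(e.XT, ⊤)) : P e r ⟶ P e r :=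
  (Scheme.Modules.pushforward r).map (smulHom e.E s)

variable {e e' e'' : ModSt.Obj f}

theorem congr_refl {Y Z : Scheme.{u}} {r : Y ⟶ Z} (h : r = r) (E : Y.Modules) :
    (Scheme.Modules.pushforwardCongr h).hom.app E = 𝟙 _ := by
  refine Rees.hom_ext fun U x => ?_
  simp

theorem Pm_app (m : e' ⟶ e) {r : e.XT ⟶ Z} {r' : e'.XT ⟶ Z} (h : m.top ≫ r = r') (V : Z.Opens) (x : Γ(e.E, r ⁻¹ᵁ V)) :
    (Pm m h).app V x = secMap m.top m.c (r ⁻¹ᵁ V) (r' ⁻¹ᵁ V) (by rw [← h]; rfl) x := by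
  subst h
  have h1 : (Pm m (rfl : m.top ≫ r = m.top ≫ r)).app V x = m.c.app (r ⁻¹ᵁ V) x := by
    rw [Pm, congr_refl, Category.comp_id]
    rfl
  rw [h1]
  exact (map_self' e'.E _ _).symm

theorem Pm_id (r : e.XT ⟶ Z) (h : (𝟙 e : e ⟶ e).top ≫ r = r) : Pm (𝟙 e) h = 𝟙 _ := by
  refine Rees.hom_ext fun V x => ?_
  rw [Pm_app]
  exact map_self' e.E _ _

theorem Pm_comp (n : e'' ⟶ e') (m : e' ⟶ e) {r : e.XT ⟶ Z} {r' : e'.XT ⟶ Z} {r'' : e''.XT ⟶ Z} (h : m.top ≫ r = r')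
    (h' : n.top ≫ r' = r'') (h'' : (n ≫ m).top ≫ r = r'') : Pm (n ≫ m) h'' = Pm m h ≫ Pm n h' := by
  subst h h'
  refine Rees.hom_ext fun V x => ?_
  have h1 := Pm_app (n ≫ m) h'' V x
  have h2 : (Pm m (rfl : m.top ≫ r = m.top ≫ r) ≫ Pm n (rfl : n.top ≫ m.top ≫ r = n.top ≫ m.top ≫ r)).app V x =
    (Pm n (rfl : n.top ≫ m.top ≫ r = n.top ≫ m.top ≫ r)).app V
      ((Pm m (rfl : m.top ≫ r = m.top ≫ r)).app V x) := rfl
  rw [h1, h2, Pm_app, Pm_app]
  have e1 : secMap m.top m.c (r ⁻¹ᵁ V) ((m.top ≫ r) ⁻¹ᵁ V) le_rfl x = m.c.app (r ⁻¹ᵁ V) x := map_self' e'.E _ _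
  have e2 : ∀ y : Γ(e'.E, (m.top ≫ r) ⁻¹ᵁ V), secMap n.top n.c ((m.top ≫ r) ⁻¹ᵁ V) ((n.top ≫ m.top ≫ r) ⁻¹ᵁ V) le_rfl y =
    n.c.app ((m.top ≫ r) ⁻¹ᵁ V) y := fun y => map_self' e''.E _ _
  refine Eq.trans ?_ ((congrArg _ e1).trans (e2 _)).symm
  exact map_self' e''.E _ _

theorem sm_Pm (m : e' ⟶ e) {r : e.XT ⟶ Z} {r' : e'.XT ⟶ Z} (h : m.top ≫ r = r') (s : Γ(e.XT, ⊤)) :
    sm e r s ≫ Pm m h = Pm m h ≫ sm e' r' (m.top.appTop s) := by
  subst h
  rw [Pm, congr_refl, Category.comp_id, sm, sm, ← Category.assoc, ← Functor.map_comp, smulHom_comp, ← map_smulHom]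
  rfl

theorem sm_mul (r : e.XT ⟶ Z) (s t : Γ(e.XT, ⊤)) : sm e r (s * t) = sm e r t ≫ sm e r s := by
  rw [sm, smulHom_mul, Functor.map_comp]

theorem sm_one (r : e.XT ⟶ Z) : sm e r 1 = 𝟙 _ := by
  rw [sm, smulHom_one, CategoryTheory.Functor.map_id]

theorem sm_app (r : e.XT ⟶ Z) (s : Γ(e.XT, ⊤)) (V : Z.Opens) (x : Γ(e.E, r ⁻¹ᵁ V)) :
    (sm e r s).app V x = (resO (le_top : r ⁻¹ᵁ V ≤ ⊤) s • x : Γ(e.E, r ⁻¹ᵁ V)) := rfl

end Psh

section Basis

variable (R : Type u) [CommRing R]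

theorem sum_lau (c : ℤ →₀ R) : (c.sum fun i a => algebraMap R (Lau R) a * zPow R i) =
    MonoidAlgebra.ofCoeff (c.equivMapDomain Multiplicative.ofAdd) := by
  induction c using Finsupp.induction_linear with
  | zero =>
    rw [Finsupp.sum_zero_index]
    have : (0 : ℤ →₀ R).equivMapDomain Multiplicative.ofAdd = 0 := by ext; rfl
    rw [this]; rfl
  | add c c' h h' =>
    rw [Finsupp.sum_add_index' (fun i => by rw [map_zero, zero_mul]) (fun i a a' => by rw [map_add, add_mul]), h, h']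
    have : (c + c').equivMapDomain Multiplicative.ofAdd =
        c.equivMapDomain Multiplicative.ofAdd + c'.equivMapDomain Multiplicative.ofAdd := by ext; rfl
    rw [this]; rfl
  | single i a =>
    rw [Finsupp.sum_single_index (by rw [map_zero, zero_mul]), Finsupp.equivMapDomain_single]
    rw [← Algebra.smul_def]
    change a • MonoidAlgebra.single (Multiplicative.ofAdd i) (1 : R) = MonoidAlgebra.single (Multiplicative.ofAdd i) a
    rw [MonoidAlgebra.smul_single, smul_eq_mul, mul_one]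

theorem bijective_lau : Function.Bijective (fun c : ℤ →₀ R => c.sum fun i a => algebraMap R (Lau R) a * zPow R i) := by
  have : (fun c : ℤ →₀ R => c.sum fun i a => algebraMap R (Lau R) a * zPow R i) =
      (MonoidAlgebra.coeffEquiv.symm : (Multiplicative ℤ →₀ R) ≃ Lau R) ∘
        (Finsupp.equivMapDomain Multiplicative.ofAdd) := by
    funext c
    rw [sum_lau]; rfl
  rw [this]
  refine (Equiv.bijective _).comp ⟨fun c c' h => ?_, fun c => ⟨c.equivMapDomain Multiplicative.toAdd, ?_⟩⟩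
  · ext i
    have := congrArg (fun t => t (Multiplicative.ofAdd i)) h
    exact this
  · ext i; rfl

/-- The powers of the coordinate. -/
noncomputable def zz (i : ℤ) : Γ((Gm R).left, ⊤) := (Scheme.ΓSpecIso (CommRingCat.of (Lau R))).inv (zPow R i)

theorem bijective_gm : Function.Bijective (fun c : ℤ →₀ Γ(Spec (CommRingCat.of R), ⊤) =>
    c.sum fun i a => ((Gm R).hom.appLE ⊤ ⊤ le_top).hom a * zz R i) := by
  let e1 : R ≃+* Γ(Spec (CommRingCat.of R), ⊤) := (Scheme.ΓSpecIso (CommRingCat.of R)).symm.commRingCatIsoToRingEquiv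
  let e2 : Lau R ≃+* Γ((Gm R).left, ⊤) := (Scheme.ΓSpecIso (CommRingCat.of (Lau R))).symm.commRingCatIsoToRingEquiv
  have h1 : ∀ a : R, ((Gm R).hom.appLE ⊤ ⊤ le_top).hom (e1 a) = e2 (algebraMap R (Lau R) a) := by
    intro a
    have h := Scheme.ΓSpecIso_inv_naturality (CommRingCat.ofHom (algebraMap R (Lau R)))
    have h2 := congr($h a)
    refine Eq.trans ?_ h2.symm
    change ((Gm R).hom.appLE ⊤ ⊤ le_top).hom ((Scheme.ΓSpecIso (CommRingCat.of R)).inv a) = _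
    have h3 : (Gm R).hom.appLE ⊤ ⊤ le_top = (Gm R).hom.appTop := Scheme.Hom.appLE_eq_app _
    rw [h3]
    rfl
  have h2 : (fun c : ℤ →₀ Γ(Spec (CommRingCat.of R), ⊤) =>
    c.sum fun i a => ((Gm R).hom.appLE ⊤ ⊤ le_top).hom a * zz R i) ∘
      (fun c : ℤ →₀ R => c.mapRange e1 (map_zero e1)) =
      e2 ∘ (fun c : ℤ →₀ R => c.sum fun i a => algebraMap R (Lau R) a * zPow R i) := by
    funext c
    dsimp only [Function.comp]
    rw [Finsupp.sum_mapRange_index (fun i => by rw [map_zero, zero_mul]), Finsupp.sum, Finsupp.sum, map_sum]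
    refine Finset.sum_congr rfl fun i _ => ?_
    rw [h1, map_mul]
    rfl
  have h3 : Function.Bijective (fun c : ℤ →₀ R => c.mapRange e1 (map_zero e1)) :=
    (Finsupp.mapRange.addEquiv e1.toAddEquiv).bijective
  rw [← Function.Bijective.of_comp_iff _ h3, h2]
  exact e2.bijective.comp (bijective_lau R)

end Basis

section Laurent

variable {R : Type u} [CommRing R] {C S Z : Scheme.{u}} {f : C ⟶ S} {e e' : ModSt.Obj f}

theorem laurent (m : e' ⟶ e) {r : e.XT ⟶ Z} {r' : e'.XT ⟶ Z} (h : m.top ≫ r = r') {q : e.XT ⟶ Spec (CommRingCat.of R)}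
    {g : e'.XT ⟶ (Gm R).left} (hpb : IsPullback m.top g q (Gm R).hom) (he : Coh.IsQCoh e.E) {V : Z.Opens}
    (hV : IsAffineOpen (r ⁻¹ᵁ V)) :
    Function.Bijective (fun c : ℤ →₀ Γ(P e r, V) => c.sum fun i y =>
      (sm e' r' (g.appTop (zz R i))).app V ((Pm m h).app V y)) := by
  subst h
  have : e.E.IsQuasicoherent := he
  have hGm : IsAffine (Gm R).left := inferInstanceAs (IsAffine (Spec _))
  have hUY : m.top ⁻¹ᵁ (r ⁻¹ᵁ V) = m.top ⁻¹ᵁ (r ⁻¹ᵁ V) ⊓ g ⁻¹ᵁ ⊤ := (inf_top_eq _).symm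
  have h1 := isIso_pushoutSection_of_isAffineOpen hpb (US := ⊤) (UT := ⊤) (UX := r ⁻¹ᵁ V) (UY := m.top ⁻¹ᵁ (r ⁻¹ᵁ V))
    le_top le_top hUY (isAffineOpen_top _) (isAffineOpen_top _) hV
  rw [isIso_pushoutSection_iff] at h1
  have hGmh : IsAffineHom (Gm R).hom := isAffineHom_of_isAffine _
  have ha : IsAffineHom m.top := MorphismProperty.of_isPullback hpb.flip hGmh
  have hV' : IsAffineOpen (m.top ⁻¹ᵁ (r ⁻¹ᵁ V)) := hV.preimage m.top
  have h2 := isBC_secMap m.top m.c m.cart hV hV' le_rfl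
  letI : Module Γ(Spec (CommRingCat.of R), ⊤) Γ(e.E, r ⁻¹ᵁ V) := Module.compHom _ (q.appLE ⊤ (r ⁻¹ᵁ V) le_top).hom
  letI : Module Γ((Gm R).left, ⊤) Γ(e'.E, m.top ⁻¹ᵁ (r ⁻¹ᵁ V)) :=
    Module.compHom _ (g.appLE ⊤ (m.top ⁻¹ᵁ (r ⁻¹ᵁ V)) le_top).hom
  have h3 := Groth.Agent.CohqA.BaseChangePushout.isBC_of_isPushout (M := Γ(e.E, r ⁻¹ᵁ V))
    (M' := Γ(e'.E, m.top ⁻¹ᵁ (r ⁻¹ᵁ V))) h1.flip (fun _ _ => rfl) (fun _ _ => rfl) h2
  have h4 := bijective_sum _ (zz R) (bijective_gm R) h3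
  have h5 : (fun c : ℤ →₀ Γ(P e r, V) => c.sum fun i y =>
      (sm e' (m.top ≫ r) (g.appTop (zz R i))).app V ((Pm m (rfl : m.top ≫ r = m.top ≫ r)).app V y)) =
      (fun c : ℤ →₀ Γ(e.E, r ⁻¹ᵁ V) => c.sum fun i y =>
        (zz R i • (secMap m.top m.c (r ⁻¹ᵁ V) (m.top ⁻¹ᵁ (r ⁻¹ᵁ V)) le_rfl).hom y : Γ(e'.E, m.top ⁻¹ᵁ (r ⁻¹ᵁ V)))) := by
    funext c
    refine Finsupp.sum_congr fun i _ => ?_
    rw [Pm_app, sm_app]
    rfl
  rw [h5]
  exact h4

end Laurent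

end K881.LauGeo
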