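import Groth.Agent.ThetaS.K881.Arr
import Groth.Agent.ThetaS.K881.LauGeo
import Groth.Agent.ThetaS.K881.ThetaCrit

/-!
# The push-forwards of the values of a functor out of `Θ_R`
-/

set_option autoImplicit false
set_option backward.isDefEq.respectTransparency false
set_option backward.isDefEq.respectTransparency.types false
set_option linter.style.haveILetI false

universe u

open CategoryTheory CategoryTheory.Limits MonoidalCategory CartesianMonoidalCategory AlgebraicGeometry Opposite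
open scoped Polynomial

namespace K881.PhiP

open K943 ThetaS K951.Pts K943.QuotAtlas K943.QuotCover K943.QuotTriv K943.Points K942.Coord K881.ThetaTr
  K881.ThetaCrit K881.LauGeo

attribute [local instance] K951.Pts.algΓ

variable {R : Type u} [CommRing R] {C S : Scheme.{u}} {f : C ⟶ S} {h : Spec (CommRingCat.of R) ⟶ S}
  (Φ : Theta Kf.{u} R h ⥤ᵇ ModSt.Coh f)

/-- The value. -/
noncomputable abbrev eo (b : (Theta Kf.{u} R h).obj) : ModSt.Obj f := (Φ.obj b).obj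

/-- The identification of the bases. -/
noncomputable def tb (b : (Theta Kf.{u} R h).obj) : (eo Φ b).base ⟶ (Over.map h).obj b.base := eqToHom (Φ.w_obj b)

instance (b : (Theta Kf.{u} R h).obj) : IsIso (tb Φ b) := by rw [tb]; infer_instance

/-- The identification of the bases, as schemes. -/
noncomputable def bm (b : (Theta Kf.{u} R h).obj) : (eo Φ b).base.left ⟶ b.base.left := (tb Φ b).left

instance (b : (Theta Kf.{u} R h).obj) : IsIso (bm Φ b) :=
  inferInstanceAs (IsIso ((Over.forget _).map (tb Φ b)))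

theorem bm_hom (b : (Theta Kf.{u} R h).obj) : bm Φ b ≫ b.base.hom ≫ h = (eo Φ b).base.hom := Over.w (tb Φ b)

/-- The arrows. -/
noncomputable def am {b b' : (Theta Kf.{u} R h).obj} (φ : b ⟶ b') : eo Φ b ⟶ eo Φ b' := (Φ.map φ).hom

theorem am_base {b b' : (Theta Kf.{u} R h).obj} (φ : b ⟶ b') :
    (am Φ φ).base ≫ tb Φ b' = tb Φ b ≫ (Over.map h).map φ.base := by
  have h1 : (am Φ φ).base = eqToHom (Φ.w_obj b) ≫ (Over.map h).map φ.base ≫ eqToHom (Φ.w_obj b').symm :=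
    p_map_eq Φ φ
  rw [h1, tb, tb, Category.assoc, Category.assoc, eqToHom_trans, eqToHom_refl, Category.comp_id]

theorem am_bm {b b' : (Theta Kf.{u} R h).obj} (φ : b ⟶ b') :
    (am Φ φ).base.left ≫ bm Φ b' = bm Φ b ≫ φ.base.left := congrArg (fun t => t.left) (am_base Φ φ)

variable {Z : Scheme.{u}} {p : Z ⟶ C} {q : Z ⟶ Spec (CommRingCat.of R)} (pb : IsPullback p q f h)

/-- The projection of total spaces. -/
noncomputable def rr (b : (Theta Kf.{u} R h).obj) : (eo Φ b).XT ⟶ Z :=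
  pb.lift (eo Φ b).p ((eo Φ b).q ≫ bm Φ b ≫ b.base.hom) (by
    rw [(eo Φ b).isPullback.w, ← bm_hom]; simp only [Category.assoc])

theorem rr_p (b : (Theta Kf.{u} R h).obj) : rr Φ pb b ≫ p = (eo Φ b).p := pb.lift_fst _ _ _

theorem rr_q (b : (Theta Kf.{u} R h).obj) : rr Φ pb b ≫ q = (eo Φ b).q ≫ bm Φ b ≫ b.base.hom := pb.lift_snd _ _ _

theorem am_rr {b b' : (Theta Kf.{u} R h).obj} (φ : b ⟶ b') : (am Φ φ).top ≫ rr Φ pb b' = rr Φ pb b := by
  apply pb.hom_ext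
  · rw [Category.assoc, rr_p, rr_p, (am Φ φ).w_p]
  · rw [Category.assoc, rr_q, rr_q, ← Category.assoc, (am Φ φ).w_q, Category.assoc, ← Category.assoc _ (bm Φ b'),
      am_bm, Category.assoc, Over.w]

theorem isPullback_rr (b : (Theta Kf.{u} R h).obj) :
    IsPullback (rr Φ pb b) ((eo Φ b).q ≫ bm Φ b) q b.base.hom := by
  refine IsPullback.of_right (h₁₁ := rr Φ pb b) (h₁₂ := p) (h₂₁ := b.base.hom) (h₂₂ := h) (v₁₂ := q) (v₁₃ := f) ?_ ?_ pb
  · rw [rr_p]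
    have h1 := (eo Φ b).isPullback
    refine h1.of_iso (Iso.refl _) (Iso.refl _) (asIso (bm Φ b)) (Iso.refl _) ?_ ?_ ?_ ?_
    · simp
    · simp
    · simp
    · rw [asIso_hom, bm_hom]; simp
  · rw [rr_q, Category.assoc]

theorem isAffineHom_rr (b : (Theta Kf.{u} R h).obj) [IsAffine b.base.left] : IsAffineHom (rr Φ pb b) := by
  have : IsAffineHom b.base.hom := isAffineHom_of_isAffine _
  exact MorphismProperty.of_isPullback (isPullback_rr Φ pb b).flip this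

/-- The push-forward. -/
noncomputable abbrev PP (b : (Theta Kf.{u} R h).obj) : Z.Modules := P (eo Φ b) (rr Φ pb b)

/-- The maps. -/
noncomputable def Pa {b b' : (Theta Kf.{u} R h).obj} (φ : b ⟶ b') : PP Φ pb b' ⟶ PP Φ pb b := Pm (am Φ φ) (am_rr Φ pb φ)

theorem Pa_comp {b b' b'' : (Theta Kf.{u} R h).obj} (φ : b ⟶ b') (ψ : b' ⟶ b'') :
    Pa Φ pb (φ ≫ ψ) = Pa Φ pb ψ ≫ Pa Φ pb φ := by
  have h1 : am Φ (φ ≫ ψ) = am Φ φ ≫ am Φ ψ := by
    rw [am, Functor.map_comp]; rfl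
  have key : ∀ (m : eo Φ b ⟶ eo Φ b'') (hm : m = am Φ φ ≫ am Φ ψ) (h2 : m.top ≫ rr Φ pb b'' = rr Φ pb b),
      Pm m h2 = Pa Φ pb ψ ≫ Pa Φ pb φ := by
    rintro _ rfl h2
    exact Pm_comp _ _ _ _ _
  exact key _ h1 _

theorem Pa_id (b : (Theta Kf.{u} R h).obj) : Pa Φ pb (𝟙 b) = 𝟙 _ := by
  have h1 : am Φ (𝟙 b) = 𝟙 _ := by
    rw [am, CategoryTheory.Functor.map_id]; rfl
  have key : ∀ (m : eo Φ b ⟶ eo Φ b) (hm : m = 𝟙 _) (h2 : m.top ≫ rr Φ pb b = rr Φ pb b),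
      Pm m h2 = 𝟙 _ := by
    rintro _ rfl h2
    exact Pm_id _ _
  exact key _ h1 _

/-- A function on the base, on the total space. -/
noncomputable def fb (b : (Theta Kf.{u} R h).obj) (s : Γ(b.base.left, ⊤)) : Γ((eo Φ b).XT, ⊤) :=
  (eo Φ b).q.appTop ((bm Φ b).appTop s)

theorem fb_eq (b : (Theta Kf.{u} R h).obj) (s : Γ(b.base.left, ⊤)) :
    fb Φ b s = ((eo Φ b).q ≫ bm Φ b).appTop s := by
  rw [Scheme.Hom.comp_appTop]; rfl

theorem am_fb {b b' : (Theta Kf.{u} R h).obj} (φ : b ⟶ b') (s : Γ(b'.base.left, ⊤)) :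
    (am Φ φ).top.appTop (fb Φ b' s) = fb Φ b (φ.base.left.appTop s) := by
  have h1 : (am Φ φ).top ≫ (eo Φ b').q ≫ bm Φ b' = ((eo Φ b).q ≫ bm Φ b) ≫ φ.base.left := by
    rw [← Category.assoc, (am Φ φ).w_q, Category.assoc, am_bm, Category.assoc]
  have h2 : ((am Φ φ).top ≫ (eo Φ b').q ≫ bm Φ b').appTop s = (((eo Φ b).q ≫ bm Φ b) ≫ φ.base.left).appTop s := by
    rw [h1]
  rw [Scheme.Hom.comp_appTop, Scheme.Hom.comp_appTop _ φ.base.left] at h2
  rw [fb_eq, fb_eq]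
  exact h2

theorem fb_mul (b : (Theta Kf.{u} R h).obj) (s t : Γ(b.base.left, ⊤)) : fb Φ b (s * t) = fb Φ b s * fb Φ b t := by
  rw [fb, map_mul, map_mul]; rfl

theorem fb_one (b : (Theta Kf.{u} R h).obj) : fb Φ b 1 = 1 := by
  rw [fb, map_one, map_one]

/-- Multiplication by a function on the base. -/
noncomputable def mm (b : (Theta Kf.{u} R h).obj) (s : Γ(b.base.left, ⊤)) : PP Φ pb b ⟶ PP Φ pb b :=
  sm (eo Φ b) (rr Φ pb b) (fb Φ b s)

theorem mm_Pa {b b' : (Theta Kf.{u} R h).obj} (φ : b ⟶ b') (s : Γ(b'.base.left, ⊤)) :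
    mm Φ pb b' s ≫ Pa Φ pb φ = Pa Φ pb φ ≫ mm Φ pb b (φ.base.left.appTop s) := by
  rw [mm, mm, ← am_fb]
  exact sm_Pm _ _ _

theorem mm_mul (b : (Theta Kf.{u} R h).obj) (s t : Γ(b.base.left, ⊤)) :
    mm Φ pb b (s * t) = mm Φ pb b t ≫ mm Φ pb b s := by
  rw [mm, fb_mul]; exact sm_mul _ _ _

theorem mm_one (b : (Theta Kf.{u} R h).obj) : mm Φ pb b 1 = 𝟙 _ := by
  rw [mm, fb_one]; exact sm_one _

theorem isQCoh_eo (b : (Theta Kf.{u} R h).obj) : Coh.IsQCoh (eo Φ b).E :=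
  Groth.Agent.PerfC.FPSections.isQCoh_of_isFP (Φ.obj b).property.2

theorem isQCoh_PP (b : (Theta Kf.{u} R h).obj) [IsAffine b.base.left] : Coh.IsQCoh (PP Φ pb b) := by
  have := isAffineHom_rr Φ pb b
  exact Groth.Agent.Ega1.QcqsPush.isQCoh_pushforward _ _ (isQCoh_eo Φ b)

/-- The Laurent decomposition. -/
theorem bijective_laurent {b b' : (Theta Kf.{u} R h).obj} (φ : b ⟶ b') (g : b.base.left ⟶ (Gm R).left)
    (hg : IsPullback φ.base.left g b'.base.hom (Gm R).hom) [IsAffine b'.base.left] {V : Z.Opens} (hV : IsAffineOpen V) :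
    Function.Bijective (fun c : ℤ →₀ Γ(PP Φ pb b', V) => c.sum fun i y =>
      (mm Φ pb b (g.appTop (zz R i))).app V ((Pa Φ pb φ).app V y)) := by
  have ha := isAffineHom_rr Φ pb b'
  have h1 : IsPullback (am Φ φ).top ((eo Φ b).q ≫ bm Φ b) ((eo Φ b').q ≫ bm Φ b') φ.base.left := by
    refine (ModSt.Obj.Hom.isPullback_top (am Φ φ)).of_iso (Iso.refl _) (Iso.refl _) (asIso (bm Φ b))
      (asIso (bm Φ b')) ?_ ?_ ?_ ?_
    · simp
    · simp
    · simp
    · rw [asIso_hom, asIso_hom, am_bm]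
  have h2 : IsPullback (am Φ φ).top (((eo Φ b).q ≫ bm Φ b) ≫ g) (((eo Φ b').q ≫ bm Φ b') ≫ b'.base.hom) (Gm R).hom :=
    (h1.flip.paste_horiz hg.flip).flip
  have h3 := laurent (am Φ φ) (am_rr Φ pb φ) h2 (isQCoh_eo Φ b') (hV.preimage (rr Φ pb b'))
  have h4 : ∀ i, mm Φ pb b (g.appTop (zz R i)) =
      sm (eo Φ b) (rr Φ pb b) ((((eo Φ b).q ≫ bm Φ b) ≫ g).appTop (zz R i)) := by
    intro i
    rw [mm, fb_eq, Scheme.Hom.comp_appTop (_ ≫ _) g]
    rfl
  simp only [h4]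
  exact h3

end K881.PhiP
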