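import Groth.Agent.ThetaS.K881.Rees
import Groth.Agent.PerfC.RelFlat
import Groth.Agent.Smoothlim.FPMod
import Groth.Agent.SDiv.K474.FittBlow2
import Groth.Agent.Fdesc.FlatBC
import Groth.Agent.Flat2B.ExtZero
import Mathlib.CategoryTheory.Limits.Constructions.EventuallyConstant
import Mathlib.CategoryTheory.Functor.OfSequence
import Mathlib.CategoryTheory.Limits.Shapes.Pullback.IsPullback.Kernels

/-!
# Existence of universal families by iterated push-outs; finiteness and flatness
-/

set_option autoImplicit false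
set_option backward.isDefEq.respectTransparency false
set_option backward.isDefEq.respectTransparency.types false

universe u

open CategoryTheory CategoryTheory.Limits AlgebraicGeometry Opposite
open Groth.Agent.LoccohB.HHmap Groth.Agent.LoccohB.GlueHom Groth.Agent.CohqA.PullbackUniv

namespace K881.ReesExist

open K881.Rees

variable {Z Y : Scheme.{u}} (D : Sys Z) (r : Y ⟶ Z) (s : Γ(Y, ⊤))

/-- The stages. -/
noncomputable def st : ∀ n : ℕ, Σ' G : Y.Modules, ((Scheme.Modules.pullback r).obj (D.N n) ⟶ G)
  | 0 => ⟨_, 𝟙 _⟩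
  | n + 1 => ⟨pushout ((st n).2 ≫ smulHom _ s) ((Scheme.Modules.pullback r).map (D.ι n)), pushout.inr _ _⟩

/-- The modules of the stages. -/
noncomputable def g (n : ℕ) : Y.Modules := (st D r s n).1

/-- The maps to the stages. -/
noncomputable def rh (n : ℕ) : (Scheme.Modules.pullback r).obj (D.N n) ⟶ g D r s n := (st D r s n).2

/-- The transition maps. -/
noncomputable def j (n : ℕ) : g D r s n ⟶ g D r s (n + 1) :=
  pushout.inl ((st D r s n).2 ≫ smulHom _ s) ((Scheme.Modules.pullback r).map (D.ι n))

theorem isPushout (n : ℕ) : IsPushout (rh D r s n ≫ smulHom _ s) ((Scheme.Modules.pullback r).map (D.ι n))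
    (j D r s n) (rh D r s (n + 1)) := IsPushout.of_hasPushout _ _

theorem rh_zero : rh D r s 0 = 𝟙 _ := rfl

/-- The sequence of the stages. -/
noncomputable def sq : ℕ ⥤ Y.Modules := Functor.ofSequence (j D r s)

theorem sq_map (n : ℕ) : (sq D r s).map (homOfLE (Nat.le_add_right n 1)) = j D r s n :=
  Functor.ofSequence_map_homOfLE_succ _ _

/-- The colimit. -/
noncomputable def G : Y.Modules := colimit (sq D r s)

/-- The maps to the colimit. -/
noncomputable def c (n : ℕ) : g D r s n ⟶ G D r s := colimit.ι (sq D r s) n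

theorem j_c (n : ℕ) : j D r s n ≫ c D r s (n + 1) = c D r s n := by
  have := colimit.w (sq D r s) (homOfLE (Nat.le_add_right n 1))
  rwa [sq_map] at this

/-- Adjunction. -/
noncomputable def adj {M : Z.Modules} {G : Y.Modules} : ((Scheme.Modules.pullback r).obj M ⟶ G) ≃
    (M ⟶ (Scheme.Modules.pushforward r).obj G) := (Scheme.Modules.pullbackPushforwardAdjunction r).homEquiv M G

variable {r}

theorem adj_right {M : Z.Modules} {G G' : Y.Modules} (f : (Scheme.Modules.pullback r).obj M ⟶ G) (v : G ⟶ G') :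
    adj r (f ≫ v) = adj r f ≫ (Scheme.Modules.pushforward r).map v := Adjunction.homEquiv_naturality_right _ _ _

theorem adj_left {M M' : Z.Modules} {G : Y.Modules} (h : M' ⟶ M) (f : (Scheme.Modules.pullback r).obj M ⟶ G) :
    adj r ((Scheme.Modules.pullback r).map h ≫ f) = h ≫ adj r f := Adjunction.homEquiv_naturality_left _ _ _

theorem adj_symm_right {M : Z.Modules} {G G' : Y.Modules} (f : M ⟶ (Scheme.Modules.pushforward r).obj G) (v : G ⟶ G') :
    (adj r).symm (f ≫ (Scheme.Modules.pushforward r).map v) = (adj r).symm f ≫ v :=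
  Adjunction.homEquiv_naturality_right_symm _ _ _

theorem adj_symm_left {M M' : Z.Modules} {G : Y.Modules} (h : M' ⟶ M) (f : M ⟶ (Scheme.Modules.pushforward r).obj G) :
    (adj r).symm (h ≫ f) = (Scheme.Modules.pullback r).map h ≫ (adj r).symm f :=
  Adjunction.homEquiv_naturality_left_symm _ _ _

variable (r)

theorem rh_c (n : ℕ) : (Scheme.Modules.pullback r).map (D.ι n) ≫ rh D r s (n + 1) ≫ c D r s (n + 1) =
    (rh D r s n ≫ c D r s n) ≫ smulHom _ s := by
  rw [← Category.assoc, ← (isPushout D r s n).w, Category.assoc, j_c, Category.assoc, smulHom_comp, Category.assoc]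

/-- The universal family. -/
noncomputable def fam : Fam D r s (G D r s) where
  ρ n := adj r (rh D r s n ≫ c D r s n)
  comm n := by
    rw [← adj_left, rh_c, adj_right]

section Desc

variable {D r s} {G' : Y.Modules} (σ : Fam D r s G')

theorem symm_comm (n : ℕ) : (Scheme.Modules.pullback r).map (D.ι n) ≫ (adj r).symm (σ.ρ (n + 1)) =
    (adj r).symm (σ.ρ n) ≫ smulHom _ s := by
  rw [← adj_symm_left, σ.comm, adj_symm_right]

/-- The maps out of the stages. -/
noncomputable def vv : ∀ n : ℕ, { v : g D r s n ⟶ G' // rh D r s n ≫ v = (adj r).symm (σ.ρ n) }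
  | 0 => ⟨(adj r).symm (σ.ρ 0), by rw [rh_zero]; exact Category.id_comp _⟩
  | n + 1 => ⟨(isPushout D r s n).desc (vv n).1 ((adj r).symm (σ.ρ (n + 1))) (by
      rw [symm_comm, Category.assoc, smulHom_comp, ← Category.assoc, (vv n).2]), IsPushout.inr_desc _ _ _ _⟩

theorem j_vv (n : ℕ) : j D r s n ≫ (vv σ (n + 1)).1 = (vv σ n).1 := by
  rw [vv]; exact IsPushout.inl_desc _ _ _ _

/-- The map out of the colimit. -/
noncomputable def desc : G D r s ⟶ G' :=
  colimit.desc (sq D r s) ⟨G', NatTrans.ofSequence (fun n => (vv σ n).1) (fun n => by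
    rw [sq_map, j_vv]
    exact (Category.comp_id _).symm)⟩

theorem c_desc (n : ℕ) : c D r s n ≫ desc σ = (vv σ n).1 := colimit.ι_desc _ _

theorem fam_map_desc : (fam D r s).map (desc σ) = σ := by
  ext n : 2
  rw [Fam.map_ρ]
  change adj r (rh D r s n ≫ c D r s n) ≫ _ = _
  rw [← adj_right, Category.assoc, c_desc, (vv σ n).2, Equiv.apply_symm_apply]

theorem uniq {v w : G D r s ⟶ G'} (h : (fam D r s).map v = (fam D r s).map w) : v = w := by
  have h1 : ∀ n, rh D r s n ≫ c D r s n ≫ v = rh D r s n ≫ c D r s n ≫ w := by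
    intro n
    have h2 : ((fam D r s).map v).ρ n = ((fam D r s).map w).ρ n := by rw [h]
    rw [Fam.map_ρ, Fam.map_ρ] at h2
    change adj r (rh D r s n ≫ c D r s n) ≫ _ = adj r (rh D r s n ≫ c D r s n) ≫ _ at h2
    rw [← adj_right, ← adj_right] at h2
    simpa only [Category.assoc] using (adj r).injective h2
  have h2 : ∀ n, c D r s n ≫ v = c D r s n ≫ w := by
    intro n
    induction n with
    | zero =>
      have := h1 0
      rw [rh_zero] at this
      simpa only [Category.id_comp] using this
    | succ n ih =>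
      apply (isPushout D r s n).hom_ext
      · rw [← Category.assoc, ← Category.assoc, j_c, ih]
      · exact h1 (n + 1)
  exact colimit.hom_ext fun n => h2 n

end Desc

theorem isRees : (fam D r s).IsRees := fun _ => ⟨fun _ _ h => uniq h, fun σ => ⟨desc σ, fam_map_desc σ⟩⟩

theorem isIso_j (n : ℕ) (h : IsIso (D.ι n)) : IsIso (j D r s n) :=
  (isPushout D r s n).isIso_inl_of_isIso

theorem isIso_c (m : ℕ) (h : ∀ n, m ≤ n → IsIso (D.ι n)) : IsIso (c D r s m) := by
  have h1 : (sq D r s).IsEventuallyConstantFrom m := by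
    have h2 : ∀ k (hk : m ≤ m + k), IsIso ((sq D r s).map (homOfLE hk)) := by
      intro k
      induction k with
      | zero =>
        intro hk
        have : homOfLE hk = 𝟙 m := rfl
        rw [this, CategoryTheory.Functor.map_id]
        infer_instance
      | succ k ih =>
        intro hk
        have e : homOfLE hk = homOfLE (Nat.le_add_right m k) ≫ homOfLE (Nat.le_add_right (m + k) 1) := rfl
        rw [e, Functor.map_comp, sq_map]
        haveI := ih (Nat.le_add_right m k)
        haveI := isIso_j D r s (m + k) (h _ (Nat.le_add_right m k))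
        infer_instance
    intro n f
    obtain ⟨k, rfl⟩ := Nat.exists_eq_add_of_le (leOfHom f)
    exact h2 k (leOfHom f)
  exact h1.isIso_ι_of_isColimit (colimit.isColimit _)

section FP

theorem isFP_pushout {A B C : Y.Modules} (f : A ⟶ B) (g : A ⟶ C) (hA : CohB1.IsFP A) (hB : CohB1.IsFP B)
    (hC : CohB1.IsFP C) : CohB1.IsFP (pushout f g) := by
  have h1 : CohB1.IsFP (B ⊞ C) :=
    Groth.Agent.Smoothlim.FPMod.isFP_of_iso (biprod.isoCoprod B C).symm (Groth.Agent.Smoothlim.FPMod.isFP_coprod hB hC)
  have h2 := Groth.Agent.Smoothlim.FPMod.isFP_cokernel (biprod.lift f (-g)) hA h1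
  refine Groth.Agent.Smoothlim.FPMod.isFP_of_iso ?_ h2
  exact IsColimit.coconePointUniqueUpToIso (cokernelIsCokernel _)
    (Abelian.BiproductToPushoutIsCokernel.isColimitBiproductToPushout f g)

variable {D}

theorem isFP_g (h : ∀ n, CohB1.IsFP (D.N n)) (n : ℕ) : CohB1.IsFP (g D r s n) := by
  induction n with
  | zero => exact Groth.Agent.SDiv.K474.FittBlow2.isFP_pullback r (h 0)
  | succ n ih =>
    exact isFP_pushout _ _ (Groth.Agent.SDiv.K474.FittBlow2.isFP_pullback r (h n)) ih
      (Groth.Agent.SDiv.K474.FittBlow2.isFP_pullback r (h (n + 1)))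

end FP

section Flat

variable {D r} {A B : Scheme.{u}} {q : Z ⟶ A} {q' : Y ⟶ B} {t : B ⟶ A} (H : IsPullback r q' q t)
include H

theorem isFlatOver_g (hm : ∀ n, Mono (D.ι n)) (hN : FlatMod.IsFlatOver q (D.N 0))
    (hf : ∀ n, FlatMod.IsFlatOver q (cokernel (D.ι n))) (n : ℕ) : FlatMod.IsFlatOver q' (g D r s n) := by
  induction n with
  | zero => exact fun z => Groth.Agent.Fdesc.FlatBC.isFlatOverAt_pullback H (D.N 0) z (hN _)
  | succ n ih =>
    have := hm n
    have hse : (ShortComplex.mk (D.ι n) (cokernel.π (D.ι n)) (cokernel.condition _)).ShortExact :=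
      { exact := ShortComplex.exact_cokernel _, mono_f := this, epi_g := inferInstanceAs (Epi (cokernel.π _)) }
    have hmono : Mono ((Scheme.Modules.pullback r).map (D.ι n)) :=
      Groth.Agent.PerfC.RelFlat.mono_pullback_map H _ hse (hf n)
    have hj : Mono (j D r s n) := Abelian.mono_pushout_of_mono_g _ _
    have hse2 : (ShortComplex.mk (j D r s n) (cokernel.π (j D r s n)) (cokernel.condition _)).ShortExact :=
      { exact := ShortComplex.exact_cokernel _, mono_f := hj, epi_g := inferInstanceAs (Epi (cokernel.π _)) }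
    have hiso := isIso_cokernel_map_of_isPushout (isPushout D r s n).flip
    let e : (Scheme.Modules.pullback r).obj (cokernel (D.ι n)) ≅ cokernel (j D r s n) :=
      (PreservesCokernel.iso (Scheme.Modules.pullback r) (D.ι n)) ≪≫ (@asIso _ _ _ _ _ hiso)
    intro z
    refine Groth.Agent.PerfC.RelFlat.isFlatOverAt_of_shortExact q' _ hse2 z (ih z) ?_
    exact Groth.Agent.PerfC.RelFlat.isFlatOverAt_of_iso q' e z
      (Groth.Agent.Fdesc.FlatBC.isFlatOverAt_pullback H _ z (hf n _))

end Flat

end K881.ReesExist
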