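import Groth.Agent.ThetaS.K881.ReesExist
import Groth.Agent.ThetaS.K881.LauBd
import Groth.Agent.FormalB.FormalLoc
import Groth.Agent.PerfC.FPSections

/-!
# A criterion for a family to be universal, on affine opens
-/

set_option autoImplicit false
set_option backward.isDefEq.respectTransparency false
set_option backward.isDefEq.respectTransparency.types false
set_option linter.style.haveILetI false

universe u

open CategoryTheory CategoryTheory.Limits AlgebraicGeometry Opposite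
open Groth.Agent.LoccohB.HHmap (smulHom smulHom_comp)
open Groth.Agent.LoccohB.GlueHom Groth.Agent.CohqA.PullbackUniv Groth.Agent.CohqA.PullbackAffine
  Groth.Agent.CohqA.PullbackSections Groth.Agent.CohqA.BaseChangeMod Groth.Agent.CohqA.PullbackQCoh

namespace K881.ReesIso

open K881.Rees K881.ReesExist K881.LauAlg

theorem span_range_of_isBC {A B : Type u} [CommRing A] [CommRing B] {φ : A →+* B} {M N : Type u} [AddCommGroup M]
    [Module A M] [AddCommGroup N] [Module B N] {m : M →+ N} (h : IsBC φ m) : Submodule.span B (Set.range m) = ⊤ := by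
  have h1 : (Submodule.span B (Set.range m)).mkQ = 0 := h.hom_ext fun x => by
    rw [Submodule.mkQ_apply, LinearMap.zero_apply, Submodule.Quotient.mk_eq_zero]
    exact Submodule.subset_span ⟨x, rfl⟩
  rw [← Submodule.ker_mkQ (Submodule.span B (Set.range m)), h1, LinearMap.ker_zero]

variable {Z Y : Scheme.{u}} (D : Sys Z) (r : Y ⟶ Z) (s : Γ(Y, ⊤)) (hfp : ∀ n, CohB1.IsFP (D.N n))

section Gen

variable {V : Z.Opens} (hV : IsAffineOpen V) (hW : IsAffineOpen (r ⁻¹ᵁ V))

/-- The span of the sections of the members of the universal family. -/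
noncomputable def LL (V : Z.Opens) : Submodule Γ(Y, r ⁻¹ᵁ V) Γ(ReesExist.G D r s, r ⁻¹ᵁ V) :=
  Submodule.span _ {y | ∃ (k : ℕ) (x : Γ(D.N k, V)), ((ReesExist.fam D r s).ρ k).app V x = y}

theorem fam_app (k : ℕ) (x : Γ(D.N k, V)) : ((ReesExist.fam D r s).ρ k).app V x =
    (c D r s k).app (r ⁻¹ᵁ V) ((rh D r s k).app (r ⁻¹ᵁ V)
      ((pbUnit r (D.N k)).app V x)) := by
  have h1 : (ReesExist.fam D r s).ρ k = pbUnit r (D.N k) ≫ (Scheme.Modules.pushforward r).map (rh D r s k ≫ c D r s k) := by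
    change adj r (rh D r s k ≫ c D r s k) = _
    rw [adj, Adjunction.homEquiv_unit]; rfl
  rw [h1]; rfl

/-- A section as a linear map. -/
noncomputable def lin {M N : Y.Modules} (φ : M ⟶ N) (U : Y.Opens) : Γ(M, U) →ₗ[Γ(Y, U)] Γ(N, U) :=
  { toFun := fun y => φ.app U y
    map_add' := fun y z => (φ.app U).hom.map_add y z
    map_smul' := fun r y => Scheme.Modules.Hom.app_smul φ r y }

include hfp hV hW in
theorem rh_mem (k : ℕ) (y : Γ((Scheme.Modules.pullback r).obj (D.N k), r ⁻¹ᵁ V)) :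
    (c D r s k).app (r ⁻¹ᵁ V) ((rh D r s k).app (r ⁻¹ᵁ V) y) ∈ LL D r s V := by
  have : (D.N k).IsQuasicoherent := Groth.Agent.PerfC.FPSections.isQCoh_of_isFP (hfp k)
  have h1 := span_range_of_isBC (isBC_pbSec r (D.N k) hV hW le_rfl)
  have h2 : (⊤ : Submodule Γ(Y, r ⁻¹ᵁ V) Γ((Scheme.Modules.pullback r).obj (D.N k), r ⁻¹ᵁ V)) ≤
      (LL D r s V).comap (lin (rh D r s k ≫ c D r s k) (r ⁻¹ᵁ V)) := by
    rw [← h1, Submodule.span_le]
    rintro _ ⟨x, rfl⟩
    refine Submodule.subset_span ⟨k, x, ?_⟩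
    rw [fam_app]
    have h3 : (pbSec r (D.N k) V (r ⁻¹ᵁ V) le_rfl).hom x = (pbUnit r (D.N k)).app V x := map_self' _ _ _
    rw [h3]
    rfl
  exact h2 (Submodule.mem_top : y ∈ ⊤)

theorem isFP_biprod {A B : Y.Modules} (hA : CohB1.IsFP A) (hB : CohB1.IsFP B) : CohB1.IsFP (A ⊞ B) :=
  Groth.Agent.Smoothlim.FPMod.isFP_of_iso (biprod.isoCoprod A B).symm (Groth.Agent.Smoothlim.FPMod.isFP_coprod hA hB)

include hfp hV hW in
theorem c_mem (n : ℕ) (y : Γ(g D r s n, r ⁻¹ᵁ V)) : (c D r s n).app (r ⁻¹ᵁ V) y ∈ LL D r s V := by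
  induction n with
  | zero => exact rh_mem D r s hfp hV hW 0 y
  | succ n ih =>
    have hpb : ∀ k, CohB1.IsFP ((Scheme.Modules.pullback r).obj (D.N k)) := fun k =>
      Groth.Agent.SDiv.K474.FittBlow2.isFP_pullback r (hfp k)
    have h0 := isPushout D r s n
    let φ : g D r s n ⊞ (Scheme.Modules.pullback r).obj (D.N (n + 1)) ⟶ g D r s (n + 1) :=
      biprod.desc (j D r s n) (rh D r s (n + 1))
    have hepi : Epi φ := ⟨fun a b hab => h0.hom_ext
      (by
        have := congrArg (fun t => biprod.inl ≫ t) hab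
        simpa only [φ, biprod.inl_desc_assoc] using this)
      (by
        have := congrArg (fun t => biprod.inr ≫ t) hab
        simpa only [φ, biprod.inr_desc_assoc] using this)⟩
    have hs := Groth.Agent.FormalB.FormalLoc.app_surjective_of_epi φ
      (Groth.Agent.PerfC.FPSections.isQCoh_of_isFP (isFP_biprod (isFP_g r s hfp n) (hpb _)))
      (Groth.Agent.PerfC.FPSections.isQCoh_of_isFP (isFP_g r s hfp (n + 1))) hW
    obtain ⟨z, rfl⟩ := hs y
    have h1 : φ = biprod.fst ≫ j D r s n + biprod.snd ≫ rh D r s (n + 1) := by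
      apply biprod.hom_ext'
      · simp [φ]
      · simp [φ]
    have h2 : φ.app (r ⁻¹ᵁ V) z = (j D r s n).app (r ⁻¹ᵁ V) ((biprod.fst : _ ⟶ g D r s n).app (r ⁻¹ᵁ V) z) +
        (rh D r s (n + 1)).app (r ⁻¹ᵁ V)
          ((biprod.snd : _ ⟶ (Scheme.Modules.pullback r).obj (D.N (n + 1))).app (r ⁻¹ᵁ V) z) := by
      rw [h1]; rfl
    rw [h2, map_add]
    refine Submodule.add_mem _ ?_ (rh_mem D r s hfp hV hW _ _)
    have h3 := ih ((biprod.fst : _ ⟶ g D r s n).app (r ⁻¹ᵁ V) z)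
    rw [← j_c] at h3
    exact h3

include hfp hV hW in
theorem LL_eq_top (m : ℕ) (hi : ∀ n, m ≤ n → IsIso (D.ι n)) : LL D r s V = ⊤ := by
  rw [eq_top_iff]
  intro y _
  have := isIso_c D r s m hi
  have h1 : (c D r s m).app (r ⁻¹ᵁ V) ((inv (c D r s m)).app (r ⁻¹ᵁ V) y) = y := by
    have := IsIso.inv_hom_id (c D r s m)
    exact congr(($this).app (r ⁻¹ᵁ V) y)
  rw [← h1]
  exact c_mem D r s hfp hV hW m _

end Gen

section Bij

variable {D r s} {E : Y.Modules} (σ : Fam D r s E) {V : Z.Opens}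
  (hgen : Subring.closure (Set.range (r.app V).hom ∪ {resO (le_top : r ⁻¹ᵁ V ≤ ⊤) s}) = ⊤)
  {WW : ℤ → AddSubgroup Γ(E, r ⁻¹ᵁ V)} (hWW : ∀ n, ∃ c : ℤ →₀ Γ(E, r ⁻¹ᵁ V), (∀ i, c i ∈ WW i) ∧ tot _ c = n)
  (hWW' : ∀ c : ℤ →₀ Γ(E, r ⁻¹ᵁ V), (∀ i, c i ∈ WW i) → tot _ c = 0 → c = 0) (a : ℤ)
  (ha : ∀ i, i < a → ∀ n ∈ WW i, n = 0) (hinj : ∀ k, Function.Injective ((σ.ρ k).app V))
  (hrange : ∀ (k : ℕ) n, n ∈ WW (a + k) ↔ ∃ x, (σ.ρ k).app V x = n)

/-- The graded pieces of the universal module. -/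
noncomputable def WG (D : Sys Z) (r : Y ⟶ Z) (s : Γ(Y, ⊤)) (V : Z.Opens) (a : ℤ) (i : ℤ) :
    AddSubgroup Γ(ReesExist.G D r s, r ⁻¹ᵁ V) :=
  if a ≤ i then (((ReesExist.fam D r s).ρ (i - a).toNat).app V).hom.range else ⊥

theorem mem_WG {i : ℤ} {y : Γ(ReesExist.G D r s, r ⁻¹ᵁ V)} (k : ℕ) (hk : i = a + k) :
    y ∈ WG D r s V a i ↔ ∃ x, ((ReesExist.fam D r s).ρ k).app V x = y := by
  subst hk
  rw [WG, if_pos (by omega)]
  have : (a + (k : ℤ) - a).toNat = k := by omega
  rw [this]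
  rfl

theorem desc_app (k : ℕ) (x : Γ(D.N k, V)) :
    (desc σ).app (r ⁻¹ᵁ V) (((ReesExist.fam D r s).ρ k).app V x) = (σ.ρ k).app V x := by
  have h1 := congrArg (fun t => t.ρ k) (fam_map_desc σ)
  exact congr(($h1).app V x)

include hgen in
theorem mem_low (y : Γ(ReesExist.G D r s, r ⁻¹ᵁ V)) (hy : y ∈ LL D r s V) : y ∈ low (WG D r s V a) (a - 1) := by
  have hA : ∀ i (b : Γ(Z, V)) n, n ∈ WG D r s V a i → (r.app V).hom b • n ∈ WG D r s V a i := by
    intro i b n hn
    by_cases hi : a ≤ i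
    · obtain ⟨k, hk⟩ : ∃ k : ℕ, i = a + k := ⟨(i - a).toNat, by omega⟩
      rw [mem_WG a k hk] at hn ⊢
      obtain ⟨x, rfl⟩ := hn
      exact ⟨b • x, Scheme.Modules.Hom.app_smul ((ReesExist.fam D r s).ρ k) b x⟩
    · rw [WG, if_neg hi] at hn ⊢
      rw [AddSubgroup.mem_bot] at hn ⊢
      rw [hn, smul_zero]
  have hx : ∀ i n, n ∈ WG D r s V a i → resO (le_top : r ⁻¹ᵁ V ≤ ⊤) s • n ∈ WG D r s V a (i + 1) := by
    intro i n hn
    by_cases hi : a ≤ i
    · obtain ⟨k, hk⟩ : ∃ k : ℕ, i = a + k := ⟨(i - a).toNat, by omega⟩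
      rw [mem_WG a k hk] at hn
      rw [mem_WG a (k + 1) (by push_cast; omega)]
      obtain ⟨x, rfl⟩ := hn
      exact ⟨(D.ι k).app V x, congr(($((ReesExist.fam D r s).comm k)).app V x)⟩
    · rw [WG, if_neg hi, AddSubgroup.mem_bot] at hn
      rw [hn, smul_zero]
      exact AddSubgroup.zero_mem _
  let L : Submodule Γ(Y, r ⁻¹ᵁ V) Γ(ReesExist.G D r s, r ⁻¹ᵁ V) :=
    { low (WG D r s V a) (a - 1) with
      smul_mem' := fun b n hn => smul_mem_low (r.app V).hom _ hgen hA hx (a - 1) b hn }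
  have hL : LL D r s V ≤ L := by
    rw [LL, Submodule.span_le]
    rintro _ ⟨k, x, rfl⟩
    have hm := (mem_WG (D := D) (r := r) (s := s) (V := V) a k rfl).2 ⟨x, rfl⟩
    refine ⟨Finsupp.single (a + k) (((ReesExist.fam D r s).ρ k).app V x), fun i => ?_, fun i hi => ?_, tot_single _ _⟩
    · classical
      rw [Finsupp.single_apply]
      split_ifs with h
      · rw [← h]; exact hm
      · exact AddSubgroup.zero_mem _
    · rw [Finsupp.single_eq_of_ne (by omega)]
  exact hL hy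

include hgen hWW hWW' ha hinj hrange in
theorem bijective_desc (hLL : LL D r s V = ⊤) : Function.Bijective ((desc σ).app (r ⁻¹ᵁ V)) := by
  constructor
  · have h1 : ∀ y, (desc σ).app (r ⁻¹ᵁ V) y = 0 → y = 0 := by
      intro y hy
      obtain ⟨c, hc, -, rfl⟩ := mem_low hgen (D := D) (s := s) a y (by rw [hLL]; trivial)
      have h2 : c.mapRange ((desc σ).app (r ⁻¹ᵁ V)).hom (map_zero _) = 0 := by
        refine hWW' _ (fun i => ?_) ?_
        · rw [Finsupp.mapRange_apply]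
          have h3 := hc i
          by_cases hi : a ≤ i
          · obtain ⟨k, hk⟩ : ∃ k : ℕ, i = a + k := ⟨(i - a).toNat, by omega⟩
            rw [mem_WG a k hk] at h3
            obtain ⟨x, hx⟩ := h3
            rw [← hx, hk, hrange]
            exact ⟨x, (desc_app σ k x).symm⟩
          · rw [WG, if_neg hi, AddSubgroup.mem_bot] at h3
            rw [h3, map_zero]
            exact AddSubgroup.zero_mem _
        · rw [tot_mapRange]; exact hy
      have h4 : c = 0 := by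
        ext i
        have h3 := hc i
        have h5 : (desc σ).app (r ⁻¹ᵁ V) (c i) = 0 := congrArg (fun t => t i) h2
        by_cases hi : a ≤ i
        · obtain ⟨k, hk⟩ : ∃ k : ℕ, i = a + k := ⟨(i - a).toNat, by omega⟩
          rw [mem_WG a k hk] at h3
          obtain ⟨x, hx⟩ := h3
          rw [← hx, desc_app] at h5
          have h6 : x = 0 := hinj k (by rw [h5, map_zero])
          rw [← hx, h6, map_zero]; rfl
        · rw [WG, if_neg hi, AddSubgroup.mem_bot] at h3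
          exact h3
      rw [h4, map_zero]
    intro y z hyz
    rw [← sub_eq_zero]
    refine h1 _ ?_
    rw [map_sub, hyz, sub_self]
  · intro n
    obtain ⟨c, hc, rfl⟩ := hWW n
    have h1 : ∀ i, ∃ y, (desc σ).app (r ⁻¹ᵁ V) y = c i := by
      intro i
      by_cases hi : a ≤ i
      · obtain ⟨k, hk⟩ : ∃ k : ℕ, i = a + k := ⟨(i - a).toNat, by omega⟩
        have h3 := hc i
        rw [hk, hrange] at h3
        obtain ⟨x, hx⟩ := h3
        refine ⟨_, (desc_app σ k x).trans ?_⟩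
        rw [hx, hk]
      · exact ⟨0, by rw [map_zero, ha i (by omega) _ (hc i)]⟩
    choose y hy using h1
    refine ⟨∑ i ∈ c.support, y i, ?_⟩
    rw [map_sum, tot_apply, Finsupp.sum]
    exact Finset.sum_congr rfl fun i _ => hy i

end Bij

end K881.ReesIso
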