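import Groth.Agent.ThetaS.K881.ReesIso
import Groth.Agent.ThetaS.K881.FltB

/-!
# The value at the atlas is the Rees module of the filtration
-/

set_option autoImplicit false
set_option backward.isDefEq.respectTransparency false
set_option backward.isDefEq.respectTransparency.types false
set_option linter.style.haveILetI false

universe u

open CategoryTheory CategoryTheory.Limits MonoidalCategory CartesianMonoidalCategory AlgebraicGeometry Opposite
open scoped Polynomial

namespace K881.ReesMain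

open K943 ThetaS K951.Pts K943.QuotAtlas K943.QuotCover K943.QuotTriv K943.Points K942.Coord K881.ThetaTr
  K881.ThetaCrit K881.LauGeo K881.PhiP K881.Arr K881.LauAlg K881.WtSh K881.LineSec K881.Flt K881.FltB K881.Rees
  K881.ReesExist K881.ReesIso K881.Filt
open Groth.Agent.LoccohB.GlueHom Groth.Agent.CohqA.PullbackUniv Groth.Agent.CohqA.PullbackAffine
  Groth.Agent.CohqA.PullbackSections Groth.Agent.CohqA.BaseChangeMod
open Groth.Agent.LoccohB.HHmap (smulHom)

attribute [local instance] K951.Pts.algΓ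

variable {R : Type u} [CommRing R] {C S : Scheme.{u}} {f : C ⟶ S} {h : Spec (CommRingCat.of R) ⟶ S}
  (Φ : Theta Kf.{u} R h ⥤ᵇ ModSt.Coh f)
  {Z : Scheme.{u}} {p : Z ⟶ C} {q : Z ⟶ Spec (CommRingCat.of R)} (pb : IsPullback p q f h)
  (hm : ∀ i, Mono (ws Φ pb i)) (a : ℤ)

/-- The coordinate on the total space. -/
noncomputable abbrev sL : Γ(XL Φ, ⊤) := fb Φ (B0 R) (lineFn Polynomial.X)

/-- The tautological family. -/
noncomputable def FamW : Fam (seq (Fo Φ pb hm) a) (rL Φ pb) (sL Φ) (EL Φ) where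
  ρ n := (Fi Φ pb hm (a + n)).hom ≫ wi Φ pb (a + n)
  comm n := by
    have h1 := Fi_wx' Φ pb hm (a + (n : ℤ)) (a + ((n + 1 : ℕ) : ℤ)) (by push_cast; ring)
      ((Fo Φ pb hm).monotone (by push_cast; omega))
    exact h1

theorem FamW_injective (V : Z.Opens) (k : ℕ) : Function.Injective (((FamW Φ pb hm a).ρ k).app V) := by
  have h1 : Mono ((FamW Φ pb hm a).ρ k) := inferInstanceAs (Mono ((Fi Φ pb hm (a + k)).hom ≫ wi Φ pb (a + k)))
  exact Groth.Agent.Smoothlim.ModKer.app_injective_of_mono _ _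

theorem FamW_range (V : Z.Opens) (k : ℕ) (n : Γ(M0 Φ pb, V)) :
    n ∈ W Φ pb V (a + k) ↔ ∃ x, ((FamW Φ pb hm a).ρ k).app V x = n := by
  rw [mem_W_iff]
  constructor
  · rintro ⟨y, rfl⟩
    refine ⟨(Fi Φ pb hm (a + k)).inv.app V y, ?_⟩
    change (wi Φ pb (a + k)).app V ((Fi Φ pb hm (a + k)).hom.app V ((Fi Φ pb hm (a + k)).inv.app V y)) = _
    have h1 := congr(($((Fi Φ pb hm (a + k)).inv_hom_id)).app V y)
    exact congrArg _ h1
  · rintro ⟨x, rfl⟩
    exact ⟨_, rfl⟩

/-- **The value at the atlas is the Rees module of the filtration.** -/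
theorem isRees_FamW (hfp : ∀ n, CohB1.IsFP ((seq (Fo Φ pb hm) a).N n)) (ha : ∀ i, i ≤ a → IsZero (Wt Φ pb i)) (m : ℕ)
    (hi : ∀ n, m ≤ n → IsIso ((seq (Fo Φ pb hm) a).ι n)) : (FamW Φ pb hm a).IsRees := by
  have hG : CohB1.IsFP (ReesExist.G (seq (Fo Φ pb hm) a) (rL Φ pb) (sL Φ)) := by
    have := isIso_c (seq (Fo Φ pb hm) a) (rL Φ pb) (sL Φ) m hi
    exact Groth.Agent.Smoothlim.FPMod.isFP_of_iso (asIso (ReesExist.c (seq (Fo Φ pb hm) a) (rL Φ pb) (sL Φ) m))
      (isFP_g (rL Φ pb) (sL Φ) hfp m)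
  have hGq := Groth.Agent.PerfC.FPSections.isQCoh_of_isFP hG
  have hEq := isQCoh_EL Φ
  have hbij : ∀ V : Z.Opens, IsAffineOpen V → Function.Bijective ((desc (FamW Φ pb hm a)).app (rL Φ pb ⁻¹ᵁ V)) := by
    intro V hV
    have hgen := closure_line (isPullback_L Φ pb) hV
    refine bijective_desc (FamW Φ pb hm a) (V := V) ?_ (WW := W Φ pb V) (exists_W Φ pb hV)
      (W_unique Φ pb hV) a (fun i hi n hn => ?_) (FamW_injective Φ pb hm a V) (FamW_range Φ pb hm a V)
      (LL_eq_top _ _ _ hfp hV (hV.preimage (rL Φ pb)) m hi)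
    · rw [xx] at hgen
      rw [sL, fb_eq]
      exact hgen
    · obtain ⟨y, rfl⟩ := (mem_W_iff Φ pb V i n).1 hn
      have h0 : wi Φ pb i = 0 := (ha i hi.le).eq_of_src _ _
      rw [h0]; rfl
  have hiso : IsIso (desc (FamW Φ pb hm a)) := by
    have : (ReesExist.G (seq (Fo Φ pb hm) a) (rL Φ pb) (sL Φ)).IsQuasicoherent := hGq
    have : (EL Φ).IsQuasicoherent := hEq
    refine Groth.Agent.CohqA.PullbackQCoh.isIso_of_bijective_affineCover (desc (FamW Φ pb hm a))
      (ι := Z) (fun z => rL Φ pb ⁻¹ᵁ (exists_isAffineOpen_mem_and_subset (U := (⊤ : Z.Opens)) (x := z) trivial).choose)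
      ?_ ?_ ?_
    · rw [eq_top_iff]
      intro y _
      refine TopologicalSpace.Opens.mem_iSup.2 ⟨rL Φ pb y, ?_⟩
      exact (exists_isAffineOpen_mem_and_subset (U := (⊤ : Z.Opens)) (x := rL Φ pb y) trivial).choose_spec.2.1
    · intro z
      exact (exists_isAffineOpen_mem_and_subset (U := (⊤ : Z.Opens)) (x := z) trivial).choose_spec.1.preimage _
    · intro z
      exact hbij _ (exists_isAffineOpen_mem_and_subset (U := (⊤ : Z.Opens)) (x := z) trivial).choose_spec.1
  have h1 := (ReesExist.isRees (seq (Fo Φ pb hm) a) (rL Φ pb) (sL Φ)).of_iso (asIso (desc (FamW Φ pb hm a)))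
  rw [asIso_hom, fam_map_desc] at h1
  exact h1

end K881.ReesMain
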