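import Groth.Agent.ThetaS.K881.Rees

/-!
# Arrows to an object of `ModSt.Fam f` carrying a universal family

For an object `x` with a universal family relative to `π : x.XT ⟶ Z` and a function `s` on the base, arrows
`e ⟶ x` over `t` are the same as universal families on `e`.  Two arrows related by scaling by a unit.
-/

set_option autoImplicit false
set_option backward.isDefEq.respectTransparency false
set_option backward.isDefEq.respectTransparency.types false

universe u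

open CategoryTheory CategoryTheory.Limits AlgebraicGeometry Opposite
open Groth.Agent.LoccohB.HHmap Groth.Agent.CohqA.PullbackUniv

namespace K881.ReesObj

open ModSt K881.Rees

/-- An object with a universal family. -/
structure Univ {C S : Scheme.{u}} (f : C ⟶ S) where
  /-- the object -/
  x : Obj f
  /-- the base of the sequence -/
  B : Scheme.{u}
  /-- the map of bases -/
  a : x.base.left ⟶ B
  /-- the total space of the sequence -/
  Z : Scheme.{u}
  /-- projection -/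
  p : Z ⟶ C
  /-- projection -/
  q : Z ⟶ B
  /-- structure map -/
  hb : B ⟶ S
  pb : IsPullback p q f hb
  /-- the map of total spaces -/
  π : x.XT ⟶ Z
  hp : π ≫ p = x.p
  hq : π ≫ q = x.q ≫ a
  /-- the sequence -/
  D : Sys Z
  /-- the function -/
  s : Γ(x.base.left, ⊤)
  /-- the family -/
  ρ : Fam D π (x.q.appTop s) x.E
  univ : ρ.IsRees

variable {C S : Scheme.{u}} {f : C ⟶ S} (U : Univ f)

/-- The family attached to an arrow. -/
noncomputable def fam {e : Obj f} (m : e ⟶ U.x) : Fam U.D (m.top ≫ U.π) (m.top.appTop (U.x.q.appTop U.s)) e.E :=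
  U.ρ.push m.c

theorem fam_isRees {e : Obj f} (m : e ⟶ U.x) : (fam U m).IsRees := (U.univ.push_iff m.c).2 m.cart

theorem top_π_p {e : Obj f} (m : e ⟶ U.x) : (m.top ≫ U.π) ≫ U.p = e.p := by
  rw [Category.assoc, U.hp, m.w_p]

theorem top_π_q {e : Obj f} (m : e ⟶ U.x) : (m.top ≫ U.π) ≫ U.q = e.q ≫ m.base.left ≫ U.a := by
  rw [Category.assoc, U.hq, ← Category.assoc, m.w_q, Category.assoc]

theorem top_s {e : Obj f} (m : e ⟶ U.x) : m.top.appTop (U.x.q.appTop U.s) = e.q.appTop (m.base.left.appTop U.s) := by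
  have h1 : (m.top ≫ U.x.q).appTop U.s = (e.q ≫ m.base.left).appTop U.s := by rw [m.w_q]
  rw [Scheme.Hom.comp_appTop, Scheme.Hom.comp_appTop] at h1
  exact h1

theorem top_ext {e x : Obj f} {m m' : e ⟶ x} (h : m.base = m'.base) : m.top = m'.top := by
  apply x.isPullback.hom_ext
  · rw [m.w_p, m'.w_p]
  · rw [m.w_q, m'.w_q, h]

theorem push_injective {Y' : Scheme.{u}} {w : Y' ⟶ U.x.XT} {E : Y'.Modules} {c c' : U.x.E ⟶ (Scheme.Modules.pushforward w).obj E}
    (h : U.ρ.push c = U.ρ.push c') : c = c' := by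
  rw [Fam.push_eq, Fam.push_eq U.ρ c'] at h
  exact (U.univ _).1 ((Fam.push_bijective w E).1 h)

theorem exists_push {Y' : Scheme.{u}} {w : Y' ⟶ U.x.XT} {E : Y'.Modules}
    (σ : Fam U.D (w ≫ U.π) (w.appTop (U.x.q.appTop U.s)) E) : ∃ c : U.x.E ⟶ (Scheme.Modules.pushforward w).obj E,
      U.ρ.push c = σ := by
  obtain ⟨τ, hτ⟩ := (Fam.push_bijective w E).2 σ
  obtain ⟨c, hc⟩ := (U.univ _).2 τ
  refine ⟨c, ?_⟩
  dsimp only at hτ hc
  rw [Fam.push_eq, hc, hτ]

theorem hom_mk_ext {e x : Obj f} {m m' : e ⟶ x} (h : m.base = m'.base)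
    (hc : m.c ≫ (Scheme.Modules.pushforwardCongr (top_ext h)).hom.app e.E = m'.c) : m = m' := by
  obtain ⟨b, t, wp, wq, c, hcart⟩ := m
  obtain ⟨b', t', wp', wq', c', hcart'⟩ := m'
  obtain rfl : b = b' := h
  have ht : t = t' := top_ext (m := ⟨b, t, wp, wq, c, hcart⟩) (m' := ⟨b, t', wp', wq', c', hcart'⟩) rfl
  subst ht
  have hcc : c = c' := by
    refine Eq.trans ?_ hc
    refine Rees.hom_ext fun U x => ?_
    simp
  cases hcc
  rfl

/-- Arrows from universal families. -/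
theorem exists_hom {e : Obj f} (t : e.base ⟶ U.x.base) (r : e.XT ⟶ U.Z) (hrp : r ≫ U.p = e.p)
    (hrq : r ≫ U.q = e.q ≫ t.left ≫ U.a) (σ : Fam U.D r (e.q.appTop (t.left.appTop U.s)) e.E) (hσ : σ.IsRees) :
    ∃ m : e ⟶ U.x, m.base = t ∧ ∃ (hr : m.top ≫ U.π = r)
      (hs : m.top.appTop (U.x.q.appTop U.s) = e.q.appTop (t.left.appTop U.s)), (fam U m).cast hr hs = σ := by
  have w : e.p ≫ f = (e.q ≫ t.left) ≫ U.x.base.hom := by
    rw [e.isPullback.w, Category.assoc, Over.w]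
  let top : e.XT ⟶ U.x.XT := U.x.isPullback.lift e.p (e.q ≫ t.left) w
  have h1 : top ≫ U.x.p = e.p := U.x.isPullback.lift_fst _ _ _
  have h2 : top ≫ U.x.q = e.q ≫ t.left := U.x.isPullback.lift_snd _ _ _
  have hr : top ≫ U.π = r := by
    apply U.pb.hom_ext
    · rw [Category.assoc, U.hp, h1, hrp]
    · rw [Category.assoc, U.hq, ← Category.assoc, h2, hrq, Category.assoc]
  have hs : top.appTop (U.x.q.appTop U.s) = e.q.appTop (t.left.appTop U.s) := by
    have h3 : (top ≫ U.x.q).appTop U.s = (e.q ≫ t.left).appTop U.s := by rw [h2]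
    rw [Scheme.Hom.comp_appTop, Scheme.Hom.comp_appTop] at h3
    exact h3
  obtain ⟨c, hc⟩ := exists_push U (w := top) (σ.cast hr.symm hs.symm)
  have hcart : IsCart top c := (U.univ.push_iff c).1 (by rw [hc]; exact hσ.cast _ _)
  refine ⟨⟨t, top, h1, h2, c, hcart⟩, rfl, hr, hs, ?_⟩
  change (U.ρ.push c).cast hr hs = σ
  rw [hc]
  have : ∀ (r' : e.XT ⟶ U.Z) (hr : r' = r) (s' : Γ(e.XT, ⊤)) (hs : s' = e.q.appTop (t.left.appTop U.s)),
      (σ.cast hr.symm hs.symm).cast hr hs = σ := by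
    rintro r' rfl s' rfl
    rw [Fam.cast_rfl, Fam.cast_rfl]
  exact this _ hr _ hs

/-- `m'` is obtained from `m` by scaling by `l`. -/
def Rel {e : Obj f} (l : Γ(e.base.left, ⊤)) (m m' : e ⟶ U.x) : Prop :=
  ∃ hr : m.top ≫ U.π = m'.top ≫ U.π, ∀ k, (fam U m').ρ k = (fam U m).ρ k ≫
    (Scheme.Modules.pushforwardCongr hr).hom.app e.E ≫
    (Scheme.Modules.pushforward (m'.top ≫ U.π)).map (smulHom e.E (e.q.appTop l ^ k))

theorem congr_refl {Y Z : Scheme.{u}} {r : Y ⟶ Z} (h : r = r) (E : Y.Modules) :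
    (Scheme.Modules.pushforwardCongr h).hom.app E = 𝟙 _ := by
  refine Rees.hom_ext fun U x => ?_
  simp

theorem rel_refl {e : Obj f} (m : e ⟶ U.x) : Rel U 1 m m := by
  refine ⟨rfl, fun k => ?_⟩
  rw [congr_refl, map_one, one_pow, smulHom_one, CategoryTheory.Functor.map_id, Category.comp_id, Category.comp_id]

theorem rel_trans {e : Obj f} {l l' : Γ(e.base.left, ⊤)} {m m' m'' : e ⟶ U.x} (h : Rel U l m m') (h' : Rel U l' m' m'') :
    Rel U (l' * l) m m'' := by
  obtain ⟨hr, h⟩ := h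
  obtain ⟨hr', h'⟩ := h'
  refine ⟨hr.trans hr', fun k => ?_⟩
  rw [h', h]
  have key : ∀ (r r' r'' : e.XT ⟶ U.Z) (h1 : r = r') (h2 : r' = r''),
      ((Scheme.Modules.pushforwardCongr h1).hom.app e.E ≫
        (Scheme.Modules.pushforward r').map (smulHom e.E (e.q.appTop l ^ k))) ≫
        (Scheme.Modules.pushforwardCongr h2).hom.app e.E ≫
        (Scheme.Modules.pushforward r'').map (smulHom e.E (e.q.appTop l' ^ k)) =
      (Scheme.Modules.pushforwardCongr (h1.trans h2)).hom.app e.E ≫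
        (Scheme.Modules.pushforward r'').map (smulHom e.E (e.q.appTop (l' * l) ^ k)) := by
    rintro r _ _ rfl rfl
    rw [congr_refl, Category.id_comp, Category.id_comp, Category.id_comp, ← Functor.map_comp, ← smulHom_mul,
      map_mul, mul_pow]
  have := key _ _ _ hr hr'
  simp only [Category.assoc] at this ⊢
  rw [this]

theorem rel_one_eq {e : Obj f} {m m' : e ⟶ U.x} (hb : m.base = m'.base) (h : Rel U 1 m m') : m = m' := by
  obtain ⟨hr, h⟩ := h
  refine hom_mk_ext hb ?_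
  apply push_injective U
  ext k : 2
  have h1 := h k
  rw [map_one, one_pow, smulHom_one, CategoryTheory.Functor.map_id, Category.comp_id] at h1
  have key : ∀ (t' : e.XT ⟶ U.x.XT) (ht : m.top = t') (hr' : m.top ≫ U.π = t' ≫ U.π),
      (U.ρ.push (m.c ≫ (Scheme.Modules.pushforwardCongr ht).hom.app e.E)).ρ k =
      (fam U m).ρ k ≫ (Scheme.Modules.pushforwardCongr hr').hom.app e.E := by
    rintro t' rfl hr'
    rw [congr_refl, congr_refl, Category.comp_id, Category.comp_id]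
    rfl
  rw [key _ (top_ext hb) hr, ← h1]
  rfl

theorem rel_precomp {e e' : Obj f} {l : Γ(e.base.left, ⊤)} {m m' : e ⟶ U.x} (n : e' ⟶ e) (h : Rel U l m m') :
    Rel U (n.base.left.appTop l) (n ≫ m) (n ≫ m') := by
  obtain ⟨hr, h⟩ := h
  have hr2 : (n ≫ m).top ≫ U.π = (n ≫ m').top ≫ U.π := by
    rw [Obj.comp_top, Obj.comp_top, Category.assoc, Category.assoc, hr]
  refine ⟨hr2, fun k => ?_⟩
  refine Rees.hom_ext fun V x => ?_
  have h1 : (fam U m').ρ k = _ := h k
  have h2 : ((fam U m').ρ k).app V x = ((fam U m).ρ k ≫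
    (Scheme.Modules.pushforwardCongr hr).hom.app e.E ≫
    (Scheme.Modules.pushforward (m'.top ≫ U.π)).map (smulHom e.E (e.q.appTop l ^ k))).app V x := by rw [h1]
  have e1 : ((fam U (n ≫ m')).ρ k).app V x = n.c.app _ (((fam U m').ρ k).app V x) := rfl
  have e2 : ((fam U (n ≫ m)).ρ k).app V x = n.c.app _ (((fam U m).ρ k).app V x) := rfl
  rw [e1, h2]
  have key : ∀ (r' : e.XT ⟶ U.Z) (h3 : m.top ≫ U.π = r') (r2 : e'.XT ⟶ U.Z) (h4 : (n ≫ m).top ≫ U.π = r2)
      (h5 : n.top ≫ r' = r2) (z : Γ(e.E, (m.top ≫ U.π) ⁻¹ᵁ V)),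
      HEq (n.c.app (r' ⁻¹ᵁ V) (((Scheme.Modules.pushforwardCongr h3).hom.app e.E ≫
        (Scheme.Modules.pushforward r').map (smulHom e.E (e.q.appTop l ^ k))).app V z))
      (((Scheme.Modules.pushforwardCongr h4).hom.app e'.E ≫
        (Scheme.Modules.pushforward r2).map (smulHom e'.E (e'.q.appTop (n.base.left.appTop l) ^ k))).app V
          (n.c.app ((m.top ≫ U.π) ⁻¹ᵁ V) z)) := by
    rintro r' rfl r2 rfl h5 z
    apply heq_of_eq
    rw [congr_refl, congr_refl, Category.id_comp, Category.id_comp]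
    have hs : e'.q.appTop (n.base.left.appTop l) = n.top.appTop (e.q.appTop l) := by
      have h3 : (n.top ≫ e.q).appTop l = (e'.q ≫ n.base.left).appTop l := by rw [n.w_q]
      rw [Scheme.Hom.comp_appTop, Scheme.Hom.comp_appTop] at h3
      exact h3.symm
    have hp : n.top.appTop (e.q.appTop l) ^ k = n.top.appTop (e.q.appTop l ^ k) := (map_pow _ _ _).symm
    rw [hs, hp]
    have h6 := smulHom_comp n.c (e.q.appTop l ^ k)
    rw [← Rees.map_smulHom] at h6
    exact congr(($h6).app ((m.top ≫ U.π) ⁻¹ᵁ V) z)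
  have h7 := key _ hr _ hr2 (by rw [Obj.comp_top, Category.assoc]) (((fam U m).ρ k).app V x)
  exact eq_of_heq h7

/-- The transport of an arrow. -/
theorem exists_rel {e : Obj f} (m : e ⟶ U.x) (v : e.base ⟶ U.x.base) (l : (Γ(e.base.left, ⊤))ˣ)
    (hv : v.left ≫ U.a = m.base.left ≫ U.a) (hl : v.left.appTop U.s = l * m.base.left.appTop U.s) :
    ∃ m' : e ⟶ U.x, m'.base = v ∧ Rel U (l : Γ(e.base.left, ⊤)) m m' := by
  have hu : IsUnit (e.q.appTop (l : Γ(e.base.left, ⊤))) := l.isUnit.map e.q.appTop.hom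
  have hs : e.q.appTop (l : Γ(e.base.left, ⊤)) * m.top.appTop (U.x.q.appTop U.s) = e.q.appTop (v.left.appTop U.s) := by
    rw [top_s, hl, map_mul]
  obtain ⟨m', hm', hr, hs', hc⟩ := exists_hom U v (m.top ≫ U.π) (top_π_p U m)
    (by rw [top_π_q, hv]) (((fam U m).scale (e.q.appTop (l : Γ(e.base.left, ⊤)))).cast rfl hs)
    (((fam_isRees U m).scale hu.unit).cast rfl hs)
  refine ⟨m', hm', hr.symm, fun k => ?_⟩
  have h1 : ((fam U m').cast hr hs').ρ k =
    (((fam U m).scale (e.q.appTop (l : Γ(e.base.left, ⊤)))).cast rfl hs).ρ k := by rw [hc]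
  have h2 : ((fam U m').cast hr hs').ρ k = (fam U m').ρ k ≫ (Scheme.Modules.pushforwardCongr hr).hom.app e.E := rfl
  have h3 : (((fam U m).scale (e.q.appTop (l : Γ(e.base.left, ⊤)))).cast rfl hs).ρ k =
    (fam U m).ρ k ≫ (Scheme.Modules.pushforward (m.top ≫ U.π)).map (smulHom e.E (e.q.appTop (l : Γ(e.base.left, ⊤)) ^ k)) := by
    change (((fam U m).ρ k ≫ (Scheme.Modules.pushforward (m.top ≫ U.π)).map
      (smulHom e.E (e.q.appTop (l : Γ(e.base.left, ⊤)) ^ k))) ≫ (Scheme.Modules.pushforwardCongr rfl).hom.app e.E) = _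
    rw [congr_refl, Category.comp_id]
  rw [h2, h3] at h1
  have key : ∀ (r r' : e.XT ⟶ U.Z) (h : r = r') (h' : r' = r) {M : U.Z.Modules}
      (φ : M ⟶ (Scheme.Modules.pushforward r').obj e.E) (ψ : M ⟶ (Scheme.Modules.pushforward r).obj e.E),
      φ ≫ (Scheme.Modules.pushforwardCongr h').hom.app e.E = ψ ≫ (Scheme.Modules.pushforward r).map (smulHom e.E
        (e.q.appTop (l : Γ(e.base.left, ⊤)) ^ k)) →
      φ = ψ ≫ (Scheme.Modules.pushforwardCongr h).hom.app e.E ≫
        (Scheme.Modules.pushforward r').map (smulHom e.E (e.q.appTop (l : Γ(e.base.left, ⊤)) ^ k)) := by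
    rintro r _ rfl _ M φ ψ h6
    rw [congr_refl, Category.comp_id] at h6
    rw [congr_refl, Category.id_comp, h6]
  exact key _ _ hr.symm hr _ _ h1

end K881.ReesObj
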