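import Groth.Agent.ThetaS.K943.SelfLift
import Groth.Agent.CurvSt.K899.OpenCrit

/-!
# Lifting squares relative to the base, for open substacks
-/

set_option backward.isDefEq.respectTransparency false
set_option backward.isDefEq.respectTransparency.types false
set_option autoImplicit false
set_option linter.style.haveILetI false

universe v₄ u₄ v₃ u₃ v₂ u₂ v u w

open CategoryTheory Opposite FibCat K943.SelfLift AlgebraicGeometry

namespace K881.SubLift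

section Gen

variable {C : Type u} [Category.{v} C]
variable {𝒜 : BasedCategory.{v₂, u₂} C} {ℬ : BasedCategory.{v₃, u₃} C} {𝒳 : BasedCategory.{v₄, u₄} C} {j : 𝒜 ⥤ᵇ ℬ}

/-- Reformulation relative to the base. -/
theorem liftsUniquely_iff : LiftSq.LiftsUniquely j (toSelf 𝒳) ↔
    (∀ top : 𝒜 ⥤ᵇ 𝒳, ∃ F : ℬ ⥤ᵇ 𝒳, Nonempty (BasedFunctor.comp j F ≅ top)) ∧
    (∀ (F F' : ℬ ⥤ᵇ 𝒳) (σ : BasedFunctor.comp j F ≅ BasedFunctor.comp j F'),
      ∃! θ : F ⟶ F', BasedCategory.whiskerLeft j θ = σ.hom) := by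
  constructor
  · intro H
    refine ⟨fun top => ?_, fun F F' σ => ?_⟩
    · obtain ⟨⟨d⟩, -⟩ := H ⟨top, toSelf ℬ, eqToIso (functor_eq _ _)⟩
      exact ⟨d.fn, ⟨d.isoTop⟩⟩
    · let sq : LiftSq.Sq j (toSelf 𝒳) := ⟨BasedFunctor.comp j F', toSelf ℬ, eqToIso (functor_eq _ _)⟩
      obtain ⟨-, H2⟩ := H sq
      let d : sq.Lift := ⟨F, σ, eqToIso (functor_eq _ _), Subsingleton.elim _ _⟩
      let d' : sq.Lift := ⟨F', Iso.refl _, eqToIso (functor_eq _ _), Subsingleton.elim _ _⟩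
      obtain ⟨⟨⟨θ⟩, hθ⟩⟩ := H2 d d'
      refine ⟨θ.hom, ?_, fun θ' hθ' => ?_⟩
      · have := θ.w_top
        change BasedCategory.whiskerLeft j θ.hom ≫ 𝟙 _ = σ.hom at this
        rwa [Category.comp_id] at this
      · let t : d ⟶ d' := ⟨θ', by
          change BasedCategory.whiskerLeft j θ' ≫ 𝟙 _ = σ.hom
          rw [Category.comp_id]; exact hθ', Subsingleton.elim _ _⟩
        exact congrArg LiftSq.Sq.Lift.Hom.hom (hθ t)
  · rintro ⟨H1, H2⟩ sq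
    refine ⟨?_, fun d d' => ?_⟩
    · obtain ⟨F, ⟨e⟩⟩ := H1 sq.top
      exact ⟨⟨F, e, eqToIso (functor_eq _ _), Subsingleton.elim _ _⟩⟩
    · obtain ⟨θ, h1, h2⟩ := H2 d.fn d'.fn (d.isoTop ≪≫ d'.isoTop.symm)
      refine ⟨⟨⟨⟨θ, ?_, Subsingleton.elim _ _⟩⟩, fun t => ?_⟩⟩
      · rw [h1, Iso.trans_hom, Iso.symm_hom, Category.assoc, Iso.inv_hom_id, Category.comp_id]
      · apply LiftSq.Sq.Lift.hom_ext
        refine h2 t.hom ?_
        dsimp only
        rw [Iso.trans_hom, Iso.symm_hom, Iso.eq_comp_inv]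
        exact t.w_top

end Gen

section Open

variable {S : Scheme.{u}} {𝒳 : BasedCategory.{v, w} (Over S)} {Q : 𝒳.obj → Prop}
  {𝒜 : BasedCategory.{v₂, u₂} (Over S)} {ℬ : BasedCategory.{v₃, u₃} (Over S)} {j : 𝒜 ⥤ᵇ ℬ}

open K899.OpenCrit in
/-- Unique lifting for an open substack of a category with unique lifting. -/
theorem liftsUniquely_fullSub_iff (hQ : ∀ {x y : 𝒳.obj}, (y ⟶ x) → Q x → Q y)
    (H : LiftSq.LiftsUniquely j (toSelf 𝒳)) :
    LiftSq.LiftsUniquely j (toSelf (AlgSt.fullSub 𝒳 Q)) ↔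
      ∀ F : ℬ ⥤ᵇ 𝒳, (∀ a, Q (F.obj (j.obj a))) → ∀ b, Q (F.obj b) := by
  obtain ⟨H1, H2⟩ := liftsUniquely_iff.1 H
  constructor
  · intro h F hF b
    obtain ⟨h1, -⟩ := liftsUniquely_iff.1 h
    obtain ⟨G, ⟨e⟩⟩ := h1 (liftSub Q (BasedFunctor.comp j F) hF)
    let σ : BasedFunctor.comp j F ≅ BasedFunctor.comp j ((post Q ℬ).obj G) := ((post Q 𝒜).mapIso e).symm
    obtain ⟨θ, -, -⟩ := H2 F ((post Q ℬ).obj G) σ
    exact hQ (θ.toNatTrans.app b) (G.obj b).property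
  · intro h
    refine liftsUniquely_iff.2 ⟨fun top => ?_, fun F F' σ => ?_⟩
    · obtain ⟨F, ⟨e⟩⟩ := H1 ((post Q 𝒜).obj top)
      have h1 : ∀ a, Q (F.obj (j.obj a)) := fun a =>
        hQ (e.hom.toNatTrans.app a) (top.obj a).property
      have h2 := h F h1
      refine ⟨liftSub Q F h2, ⟨(post Q 𝒜).preimageIso e⟩⟩
    · obtain ⟨θ, h1, h2⟩ := H2 ((post Q ℬ).obj F) ((post Q ℬ).obj F') ((post Q 𝒜).mapIso σ)
      obtain ⟨θ', rfl⟩ := (post Q ℬ).map_surjective θ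
      refine ⟨θ', (post Q 𝒜).map_injective h1, fun θ'' h3 => (post Q ℬ).map_injective (h2 _ ?_)⟩
      exact congrArg (post Q 𝒜).map h3

end Open

end K881.SubLift
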