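import Groth.Agent.ThetaS.K881.PhiP
import Groth.Agent.FormalB.FormalLoc
import Groth.Agent.Smoothlim.ModKer

/-!
# The weight sheaves of a functor out of `Θ_R`
-/

set_option autoImplicit false
set_option backward.isDefEq.respectTransparency false
set_option backward.isDefEq.respectTransparency.types false
set_option linter.style.haveILetI false

universe u

open CategoryTheory CategoryTheory.Limits MonoidalCategory CartesianMonoidalCategory AlgebraicGeometry Opposite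
open scoped Polynomial

namespace K881.WtSh

open K943 ThetaS K951.Pts K943.QuotAtlas K943.QuotCover K943.QuotTriv K943.Points K942.Coord K881.ThetaTr
  K881.ThetaCrit K881.LauGeo K881.PhiP K881.Arr K881.LauAlg

attribute [local instance] K951.Pts.algΓ

variable {R : Type u} [CommRing R] {C S : Scheme.{u}} {f : C ⟶ S} {h : Spec (CommRingCat.of R) ⟶ S}
  (Φ : Theta Kf.{u} R h ⥤ᵇ ModSt.Coh f)
  {Z : Scheme.{u}} {p : Z ⟶ C} {q : Z ⟶ Spec (CommRingCat.of R)} (pb : IsPullback p q f h)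

variable (R) in
/-- The objects. -/
noncomputable abbrev B0 : (Theta Kf.{u} R h).obj := u0 Kf.{u} (lineAction R)

variable (R) in
/-- The objects. -/
noncomputable abbrev B1 : (Theta Kf.{u} R h).obj := b1 (lineAction R) Kf.{u}

variable (R) in
/-- The objects. -/
noncomputable abbrev B2 : (Theta Kf.{u} R h).obj := b2 (lineAction R) Kf.{u}

/-- The module. -/
noncomputable abbrev M0 : Z.Modules := PP Φ pb (B0 R)

/-- The module. -/
noncomputable abbrev M1 : Z.Modules := PP Φ pb (B1 R)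

/-- The module. -/
noncomputable abbrev M2 : Z.Modules := PP Φ pb (B2 R)

/-- The coaction. -/
noncomputable def Al : M0 Φ pb ⟶ M1 Φ pb := Pa Φ pb (b := B1 R) (b' := B0 R) (al (lineAction R) Kf.{u})

/-- The trivial coaction. -/
noncomputable def Be : M0 Φ pb ⟶ M1 Φ pb := Pa Φ pb (b := B1 R) (b' := B0 R) (be (lineAction R) Kf.{u})

/-- Maps. -/
noncomputable def Pr : M1 Φ pb ⟶ M2 Φ pb := Pa Φ pb (b := B2 R) (b' := B1 R) (pr (lineAction R) Kf.{u})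

/-- Maps. -/
noncomputable def Mu : M1 Φ pb ⟶ M2 Φ pb := Pa Φ pb (b := B2 R) (b' := B1 R) (mu (lineAction R) Kf.{u})

/-- Maps. -/
noncomputable def Nu : M1 Φ pb ⟶ M2 Φ pb := Pa Φ pb (b := B2 R) (b' := B1 R) (nu (lineAction R) Kf.{u})

/-- Maps. -/
noncomputable def Ep : M1 Φ pb ⟶ M0 Φ pb := Pa Φ pb (b := B0 R) (b' := B1 R) (eps (lineAction R) Kf.{u})

/-- Powers of the coordinate. -/
noncomputable def T (i : ℤ) : M1 Φ pb ⟶ M1 Φ pb := mm Φ pb (B1 R) ((fst (Gm R) (Line R)).left.appTop (zz R i))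

/-- Powers of the coordinate. -/
noncomputable def T1 (i : ℤ) : M2 Φ pb ⟶ M2 Φ pb :=
  mm Φ pb (B2 R) ((fst (Gm R) (Gm R ⊗ Line R)).left.appTop (zz R i))

/-- Powers of the coordinate. -/
noncomputable def T2 (i : ℤ) : M2 Φ pb ⟶ M2 Φ pb :=
  mm Φ pb (B2 R) ((snd (Gm R) (Gm R ⊗ Line R) ≫ fst (Gm R) (Line R)).left.appTop (zz R i))

/-- The coordinate of the line. -/
noncomputable def X0 : M0 Φ pb ⟶ M0 Φ pb := mm Φ pb (B0 R) (lineFn Polynomial.X)

/-- The coordinate of the line. -/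
noncomputable def X1 : M1 Φ pb ⟶ M1 Φ pb := mm Φ pb (B1 R) ((snd (Gm R) (Line R)).left.appTop (lineFn Polynomial.X))

theorem be_mu : Be Φ pb ≫ Mu Φ pb = Be Φ pb ≫ Pr Φ pb := by
  rw [Be, Mu, Pr, ← Pa_comp, ← Pa_comp]
  exact congrArg (fun t => Pa Φ pb (b := B2 R) (b' := B0 R) t) (mu_be (lineAction R) Kf.{u})

theorem al_mu : Al Φ pb ≫ Mu Φ pb = Al Φ pb ≫ Nu Φ pb := by
  rw [Al, Mu, Nu, ← Pa_comp, ← Pa_comp]
  exact congrArg (fun t => Pa Φ pb (b := B2 R) (b' := B0 R) t) (mu_al (lineAction R) Kf.{u})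

theorem be_nu : Be Φ pb ≫ Nu Φ pb = Al Φ pb ≫ Pr Φ pb := by
  rw [Al, Be, Nu, Pr, ← Pa_comp, ← Pa_comp]
  exact congrArg (fun t => Pa Φ pb (b := B2 R) (b' := B0 R) t) (nu_be (lineAction R) Kf.{u})

theorem be_ep : Be Φ pb ≫ Ep Φ pb = 𝟙 _ := by
  rw [Be, Ep, ← Pa_comp, ← Pa_id]
  exact congrArg (fun t => Pa Φ pb (b := B0 R) (b' := B0 R) t) (eps_be (lineAction R) Kf.{u})

theorem al_ep : Al Φ pb ≫ Ep Φ pb = 𝟙 _ := by
  rw [Al, Ep, ← Pa_comp, ← Pa_id]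
  exact congrArg (fun t => Pa Φ pb (b := B0 R) (b' := B0 R) t) (eps_al (lineAction R) Kf.{u})

theorem T_mu (i : ℤ) : T Φ pb i ≫ Mu Φ pb = Mu Φ pb ≫ T2 Φ pb i ≫ T1 Φ pb i := by
  rw [T, Mu, mm_Pa, T1, T2, ← mm_mul]
  congr 2
  have h1 := mu_z (R := R) Kf.{u} i
  rw [fn_comp] at h1
  exact h1

theorem T_nu (i : ℤ) : T Φ pb i ≫ Nu Φ pb = Nu Φ pb ≫ T1 Φ pb i := by
  rw [T, Nu, mm_Pa, T1]
  congr 2
  have h1 := congrArg (fun t => fn (B := Lau R) t (zPow R i)) (nu_z (R := R) Kf.{u})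
  rw [fn_comp] at h1
  exact h1

theorem T_pr (i : ℤ) : T Φ pb i ≫ Pr Φ pb = Pr Φ pb ≫ T2 Φ pb i := by
  rw [T, Pr, mm_Pa, T2]
  congr 2

theorem T_ep (i : ℤ) : T Φ pb i ≫ Ep Φ pb = Ep Φ pb := by
  rw [T, Ep, mm_Pa]
  have h1 := eps_z (R := R) Kf.{u} i
  rw [fn_comp] at h1
  have h2 : (eps (lineAction R) Kf.{u}).base.left.appTop ((fst (Gm R) (Line R)).left.appTop (zz R i)) = 1 := h1
  have h3 := mm_one Φ pb (B0 R)
  rw [← h2] at h3
  exact (congrArg (fun t => Pa Φ pb (b := B0 R) (b' := B1 R) (eps (lineAction R) Kf.{u}) ≫ t) h3).trans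
    (Category.comp_id _)

theorem X_al : X0 Φ pb ≫ Al Φ pb = Al Φ pb ≫ X1 Φ pb ≫ T Φ pb 1 := by
  rw [X0, Al, mm_Pa, X1, T, ← mm_mul]
  congr 2
  exact al_X (R := R) Kf.{u}

theorem X_be : X0 Φ pb ≫ Be Φ pb = Be Φ pb ≫ X1 Φ pb := by
  rw [X0, Be, mm_Pa, X1]
  rfl

theorem T_add (i j : ℤ) : T Φ pb (i + j) = T Φ pb i ≫ T Φ pb j := by
  have h1 : zz R (i + j) = zz R j * zz R i := by
    have h0 : zPow R (i + j) = zPow R j * zPow R i := by rw [zPow_mul, add_comm]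
    exact (congrArg (Scheme.ΓSpecIso (CommRingCat.of (Lau R))).inv.hom h0).trans (map_mul _ _ _)
  have h2 : (fst (Gm R) (Line R)).left.appTop (zz R (i + j)) =
      (fst (Gm R) (Line R)).left.appTop (zz R j) * (fst (Gm R) (Line R)).left.appTop (zz R i) := by
    rw [h1]; exact map_mul _ _ _
  exact (congrArg (mm Φ pb (B1 R)) h2).trans (mm_mul Φ pb (B1 R) _ _)

theorem X_T (i : ℤ) : X1 Φ pb ≫ T Φ pb i = T Φ pb i ≫ X1 Φ pb := by
  rw [T, X1, ← mm_mul, ← mm_mul, mul_comm]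

/-- The weight sheaves. -/
noncomputable def Wt (i : ℤ) : Z.Modules := kernel (Al Φ pb - Be Φ pb ≫ T Φ pb i)

/-- The inclusions. -/
noncomputable def wi (i : ℤ) : Wt Φ pb i ⟶ M0 Φ pb := kernel.ι _

instance (i : ℤ) : Mono (wi Φ pb i) := by rw [wi]; infer_instance

theorem wi_al (i : ℤ) : wi Φ pb i ≫ Al Φ pb = wi Φ pb i ≫ Be Φ pb ≫ T Φ pb i := by
  have := kernel.condition (Al Φ pb - Be Φ pb ≫ T Φ pb i)
  rw [Preadditive.comp_sub, sub_eq_zero] at this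
  exact this

/-- Multiplication by the coordinate on the weight sheaves. -/
noncomputable def wx (i : ℤ) : Wt Φ pb i ⟶ Wt Φ pb (i + 1) := kernel.lift _ (wi Φ pb i ≫ X0 Φ pb) (by
  have e1 : T Φ pb i ≫ T Φ pb 1 = T Φ pb (i + 1) := by rw [← T_add]
  rw [Preadditive.comp_sub, sub_eq_zero]
  calc (wi Φ pb i ≫ X0 Φ pb) ≫ Al Φ pb = (wi Φ pb i ≫ Al Φ pb) ≫ X1 Φ pb ≫ T Φ pb 1 := by
        rw [Category.assoc, X_al, Category.assoc]
    _ = wi Φ pb i ≫ Be Φ pb ≫ (T Φ pb i ≫ X1 Φ pb) ≫ T Φ pb 1 := by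
        rw [wi_al]; simp only [Category.assoc]
    _ = wi Φ pb i ≫ (Be Φ pb ≫ X1 Φ pb) ≫ T Φ pb i ≫ T Φ pb 1 := by
        rw [← X_T]; simp only [Category.assoc]
    _ = (wi Φ pb i ≫ X0 Φ pb) ≫ Be Φ pb ≫ T Φ pb (i + 1) := by
        rw [← X_be, e1]; simp only [Category.assoc])

theorem wx_wi (i : ℤ) : wx Φ pb i ≫ wi Φ pb (i + 1) = wi Φ pb i ≫ X0 Φ pb := kernel.lift_ι _ _ _

theorem isQCoh_M0 : Coh.IsQCoh (M0 Φ pb) :=
  haveI : IsAffine (B0 (h := h) R).base.left := inferInstanceAs (IsAffine (Line R).left)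
  isQCoh_PP Φ pb (B0 R)

instance isAffine_B1 : IsAffine (B1 (h := h) R).base.left := by
  have h1 : IsAffine (Gm R).left := inferInstanceAs (IsAffine (Spec _))
  have h2 : IsAffine (Line R).left := inferInstanceAs (IsAffine (Spec _))
  have h3 : IsAffineHom (Gm R).hom := isAffineHom_of_isAffine _
  exact inferInstanceAs (IsAffine (pullback (Gm R).hom (Line R).hom))

theorem isQCoh_M1 : Coh.IsQCoh (M1 Φ pb) := isQCoh_PP Φ pb (B1 R)

theorem isQCoh_Wt (i : ℤ) : Coh.IsQCoh (Wt Φ pb i) :=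
  Groth.Agent.PerfA.QCohSerre.isQCoh_kernel _ (isQCoh_M0 Φ pb) (isQCoh_M1 Φ pb)

section Sections

variable (V : Z.Opens)

/-- The weight subgroups. -/
noncomputable abbrev W (i : ℤ) : AddSubgroup Γ(M0 Φ pb, V) :=
  wt ((Al Φ pb).app V).hom ((Be Φ pb).app V).hom (fun i => ((T Φ pb i).app V).hom) i

theorem mem_W_iff (i : ℤ) (n : Γ(M0 Φ pb, V)) : n ∈ W Φ pb V i ↔ ∃ y, (wi Φ pb i).app V y = n := by
  rw [mem_wt]
  constructor
  · intro h1
    obtain ⟨y, hy⟩ := Groth.Agent.Smoothlim.ModKer.exists_of_app_eq_zero (Al Φ pb - Be Φ pb ≫ T Φ pb i) V n (by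
      change (Al Φ pb).app V n - (T Φ pb i).app V ((Be Φ pb).app V n) = 0
      rw [sub_eq_zero]
      exact h1)
    exact ⟨y, hy⟩
  · rintro ⟨y, rfl⟩
    exact congr(($(wi_al Φ pb i)).app V y)

variable {V}

theorem wi_injective (i : ℤ) : Function.Injective ((wi Φ pb i).app V) :=
  Groth.Agent.Smoothlim.ModKer.app_injective_of_mono _ _

section Aff

variable (hV : IsAffineOpen V)
include hV

theorem exists_W (n : Γ(M0 Φ pb, V)) : ∃ c : ℤ →₀ Γ(M0 Φ pb, V), (∀ i, c i ∈ W Φ pb V i) ∧ tot _ c = n := by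
  have : IsAffine (B0 (h := h) R).base.left := inferInstanceAs (IsAffine (Line R).left)
  have hβ := bijective_laurent Φ pb (b := B1 R) (b' := B0 R) (be (lineAction R) Kf.{u}) (fst (Gm R) (Line R)).left
    (isPullback_snd _ _) hV
  have hπ := bijective_laurent Φ pb (b := B2 R) (b' := B1 R) (pr (lineAction R) Kf.{u})
    (fst (Gm R) (Gm R ⊗ Line R)).left (isPullback_snd _ _) hV
  refine exists_decomp ((Al Φ pb).app V).hom ((Be Φ pb).app V).hom (fun i => ((T Φ pb i).app V).hom) ((Pr Φ pb).app V).hom ((Nu Φ pb).app V).hom ((Mu Φ pb).app V).hom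
    (fun i => ((T1 Φ pb i).app V).hom) (fun i => ((T2 Φ pb i).app V).hom) ((Ep Φ pb).app V).hom hβ.2 hπ.1
    (fun n => congr(($(be_mu Φ pb)).app V n)) (fun n => congr(($(al_mu Φ pb)).app V n))
    (fun n => congr(($(be_nu Φ pb)).app V n)) (fun i n => congr(($(T_mu Φ pb i)).app V n))
    (fun i n => congr(($(T_nu Φ pb i)).app V n)) (fun i n => congr(($(T_pr Φ pb i)).app V n))
    (fun n => congr(($(be_ep Φ pb)).app V n)) (fun n => congr(($(al_ep Φ pb)).app V n))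
    (fun i n => congr(($(T_ep Φ pb i)).app V n)) n

theorem W_unique (c : ℤ →₀ Γ(M0 Φ pb, V)) (hc : ∀ i, c i ∈ W Φ pb V i) (h0 : tot _ c = 0) : c = 0 := by
  have : IsAffine (B0 (h := h) R).base.left := inferInstanceAs (IsAffine (Line R).left)
  have hβ := bijective_laurent Φ pb (b := B1 R) (b' := B0 R) (be (lineAction R) Kf.{u}) (fst (Gm R) (Line R)).left
    (isPullback_snd _ _) hV
  exact eq_zero_of_tot hβ.1 hc h0

end Aff

theorem X_mem_W {i : ℤ} {n : Γ(M0 Φ pb, V)} (hn : n ∈ W Φ pb V i) : (X0 Φ pb).app V n ∈ W Φ pb V (i + 1) := by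
  obtain ⟨y, rfl⟩ := (mem_W_iff Φ pb V i n).1 hn
  exact (mem_W_iff Φ pb V _ _).2 ⟨(wx Φ pb i).app V y, congr(($(wx_wi Φ pb i)).app V y)⟩

theorem smul_mem_W {i : ℤ} {n : Γ(M0 Φ pb, V)} (a : Γ(Z, V)) (hn : n ∈ W Φ pb V i) : a • n ∈ W Φ pb V i := by
  obtain ⟨y, rfl⟩ := (mem_W_iff Φ pb V i n).1 hn
  exact (mem_W_iff Φ pb V _ _).2 ⟨a • y, Scheme.Modules.Hom.app_smul (wi Φ pb i) a y⟩

end Sections

end K881.WtSh
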